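import Cfsg.Prelude.Def_LieExceptional
import Mathlib
import Cfsg.Agent.LieExceptional.CoxeterExchange
import Cfsg.Agent.Tits.Generic
import Cfsg.Agent.Tits.OppRes
import Cfsg.Agent.Tits.ExtTr
import Cfsg.Agent.Tits.Exchange
import Cfsg.Agent.LieRecognition.CoxForm
import Cfsg.Agent.Solvable.Glauberman
import Cfsg.Agent.ChevalleyStructure.CoxeterGeom

section


/-!
# Parabolic systems with tori are BN-pairs: the abstract core

`B ≤ P i`, `n i ∈ P i`, words in the letters `i`, galleries.  A word `f` is *good* if `U` is transitive on the galleries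
of type `f` which start in `B`.  The key fact (`Data.good_or`) is: if `f` is good and `i` is a letter, then either `f i` is
good or `f` is braid equivalent to a word ending with `i`.
-/

set_option autoImplicit false

namespace Cfsg.Agent.ParSys

open Subgroup

variable {G : Type*} [Group G] {I : Type*}

/-- the alternating word `a b a ...` of length `k` -/
def alt (a b : I) : ℕ → List I
  | 0 => []
  | k + 1 => a :: alt b a k

/-- the letter which follows `alt a b k` in the alternating word -/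
def nxt (a b : I) : ℕ → I
  | 0 => a
  | k + 1 => nxt b a k

@[simp] theorem alt_zero (a b : I) : alt a b 0 = [] := rfl

theorem alt_cons (a b : I) (k : ℕ) : alt a b (k + 1) = a :: alt b a k := rfl

theorem alt_snoc (a b : I) (k : ℕ) : alt a b (k + 1) = alt a b k ++ [nxt a b k] := by
  induction k generalizing a b with
  | zero => rfl
  | succ k ih =>
    rw [alt_cons, ih b a, alt_cons a b k]
    rfl

theorem nxt_eq_or (a b : I) (k : ℕ) : nxt a b k = a ∨ nxt a b k = b := by
  induction k generalizing a b with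
  | zero => exact Or.inl rfl
  | succ k ih => exact (ih b a).symm

theorem alt_prefix (a b : I) {k l : ℕ} (h : k ≤ l) : ∃ v, alt a b l = alt a b k ++ v := by
  induction l with
  | zero =>
    obtain rfl : k = 0 := by omega
    exact ⟨[], by simp⟩
  | succ l ih =>
    rcases Nat.lt_or_ge l k with h1 | h1
    · obtain rfl : k = l + 1 := by omega
      exact ⟨[], by simp⟩
    · obtain ⟨v, hv⟩ := ih h1
      exact ⟨v ++ [nxt a b l], by rw [alt_snoc, hv, List.append_assoc]⟩

/-- the product of the `n i` over a word -/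
def nw (n : I → G) (f : List I) : G := (f.map n).prod

@[simp] theorem nw_nil (n : I → G) : nw n [] = 1 := rfl

@[simp] theorem nw_cons (n : I → G) (i : I) (f : List I) : nw n (i :: f) = n i * nw n f := by
  simp [nw]

@[simp] theorem nw_append (n : I → G) (f g : List I) : nw n (f ++ g) = nw n f * nw n g := by
  simp [nw]

/-- `x⁻¹ T x` -/
def cnj (x : G) (T : Subgroup G) : Subgroup G := T.comap (MulAut.conj x).toMonoidHom

@[simp] theorem mem_cnj {x y : G} {T : Subgroup G} : y ∈ cnj x T ↔ x * y * x⁻¹ ∈ T := Iff.rfl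

/-- the stabiliser of the chamber `x B` in `T ≤ B`, moved back by `x` -/
def stp (B : Subgroup G) (x : G) (T : Subgroup G) : Subgroup G := cnj x T ⊓ B

theorem mem_stp {B : Subgroup G} {x y : G} {T : Subgroup G} : y ∈ stp B x T ↔ x * y * x⁻¹ ∈ T ∧ y ∈ B := Iff.rfl

/-- the stabiliser in `T` of the standard gallery of type `f`, moved back by `nw n f` -/
def St (B : Subgroup G) (n : I → G) : Subgroup G → List I → Subgroup G
  | T, [] => T
  | T, i :: f => St B n (stp B (n i) T) f

/-- `T` is transitive on the chambers of the panel `P i / B` other than `B` -/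
def Pan (B : Subgroup G) (P : I → Subgroup G) (n : I → G) (T : Subgroup G) (i : I) : Prop :=
  ∀ x ∈ P i, x ∉ B → ∃ t ∈ T, (t * n i)⁻¹ * x ∈ B

/-- `T` is transitive on the galleries of type `f` starting in `B` -/
def Tr (B : Subgroup G) (P : I → Subgroup G) (n : I → G) : Subgroup G → List I → Prop
  | _, [] => True
  | T, i :: f => Pan B P n T i ∧ Tr B P n (stp B (n i) T) f

/-- a gallery of type `f` starting in `B`, given by the successive quotients -/
def GalE (B : Subgroup G) (P : I → Subgroup G) : List I → List G → Prop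
  | [], [] => True
  | [], _ :: _ => False
  | _ :: _, [] => False
  | i :: f, x :: l => (x ∈ P i ∧ x ∉ B) ∧ GalE B P f l

/-- the standard gallery of type `f`, moved by `t`, is the gallery `l` (moved by `s`) -/
def Ag (B : Subgroup G) (n : I → G) : G → G → List I → List G → Prop
  | t, s, [], _ => t⁻¹ * s ∈ B
  | _, _, _ :: _, [] => False
  | t, s, i :: f, x :: l => t⁻¹ * s ∈ B ∧ Ag B n (t * n i) (s * x) f l

section basic

variable {B : Subgroup G} {P : I → Subgroup G} {n : I → G}

theorem St_append (T : Subgroup G) (u v : List I) : St B n T (u ++ v) = St B n (St B n T u) v := by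
  induction u generalizing T with
  | nil => rfl
  | cons i u ih => exact ih _

theorem Tr_append (T : Subgroup G) (u v : List I) :
    Tr B P n T (u ++ v) ↔ Tr B P n T u ∧ Tr B P n (St B n T u) v := by
  induction u generalizing T with
  | nil => simp [Tr, St]
  | cons i u ih =>
    show Pan B P n T i ∧ Tr B P n (stp B (n i) T) (u ++ v) ↔ _
    rw [ih]
    exact ⟨fun h => ⟨⟨h.1, h.2.1⟩, h.2.2⟩, fun h => ⟨h.1.1, h.1.2, h.2⟩⟩

theorem Ag_left {t t' s : G} {f : List I} {l : List G} {z : G} (h : Ag B n t s f l) (ht : t' = z * t) :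
    Ag B n t' (z * s) f l := by
  subst ht
  induction f generalizing t s l with
  | nil =>
    have h : t⁻¹ * s ∈ B := h
    show (z * t)⁻¹ * (z * s) ∈ B
    have e : (z * t)⁻¹ * (z * s) = t⁻¹ * s := by group
    rw [e]; exact h
  | cons i f ih =>
    cases l with
    | nil => exact h.elim
    | cons x l =>
      obtain ⟨h1, h2⟩ := h
      refine ⟨?_, ?_⟩
      · have e : (z * t)⁻¹ * (z * s) = t⁻¹ * s := by group
        rw [e]; exact h1
      · have := ih h2
        rwa [← mul_assoc, ← mul_assoc] at this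

theorem Ag_end {t s : G} {f : List I} {l : List G} (hl : GalE B P f l) (h : Ag B n t s f l) :
    (t * nw n f)⁻¹ * (s * l.prod) ∈ B := by
  induction f generalizing t s l with
  | nil =>
    cases l with
    | nil =>
      have h' : t⁻¹ * s ∈ B := h
      simpa using h'
    | cons x l => exact hl.elim
  | cons i f ih =>
    cases l with
    | nil => exact hl.elim
    | cons x l =>
      have := ih hl.2 h.2
      simpa [mul_assoc] using this

/-- the standard gallery -/
theorem galE_std (hP : ∀ i, n i ∈ P i) (hB : ∀ i, n i ∉ B) (f : List I) : GalE B P f (f.map n) := by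
  induction f with
  | nil => trivial
  | cons i f ih => exact ⟨⟨hP i, hB i⟩, ih⟩

theorem prod_map (f : List I) : (f.map n).prod = nw n f := rfl

theorem galE_append {u v : List I} {l k : List G} (h1 : GalE B P u l) (h2 : GalE B P v k) :
    GalE B P (u ++ v) (l ++ k) := by
  induction u generalizing l with
  | nil =>
    cases l with
    | nil => exact h2
    | cons x l => exact h1.elim
  | cons i u ih =>
    cases l with
    | nil => exact h1.elim
    | cons x l => exact ⟨h1.1, ih h1.2⟩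

/-- multiplying the first quotient of a gallery by an element of `B` -/
theorem galE_mul (hBP : ∀ i, B ≤ P i) {i : I} {f : List I} {x : G} {l : List G} {b : G} (hb : b ∈ B)
    (h : GalE B P (i :: f) (x :: l)) : GalE B P (i :: f) (b * x :: l) := by
  refine ⟨⟨mul_mem (hBP i hb) h.1.1, fun h1 => h.1.2 ?_⟩, h.2⟩
  have : x = b⁻¹ * (b * x) := by group
  rw [this]
  exact mul_mem (inv_mem hb) h1

theorem tr_iff (hBP : ∀ i, B ≤ P i) (hP : ∀ i, n i ∈ P i) (hB : ∀ i, n i ∉ B) (T : Subgroup G) (hT : T ≤ B)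
    (f : List I) :
    Tr B P n T f ↔ ∀ l, GalE B P f l → ∃ t ∈ T, Ag B n t 1 f l := by
  induction f generalizing T with
  | nil =>
    refine ⟨fun _ l _ => ⟨1, one_mem _, ?_⟩, fun _ => trivial⟩
    show (1 : G)⁻¹ * 1 ∈ B
    simp [one_mem]
  | cons i f ih =>
    have hT' : stp B (n i) T ≤ B := inf_le_right
    constructor
    · rintro ⟨h1, h2⟩ l hl
      cases l with
      | nil => exact hl.elim
      | cons x l =>
        obtain ⟨t, ht, htx⟩ := h1 x hl.1.1 hl.1.2
        rw [ih _ hT'] at h2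
        cases f with
        | nil =>
          refine ⟨t, ht, ?_, ?_⟩
          · have : t⁻¹ * 1 ∈ B := by simpa using inv_mem (hT ht)
            exact this
          · show (t * n i)⁻¹ * (1 * x) ∈ B
            rw [one_mul]; exact htx
        | cons j f =>
          cases l with
          | nil => exact hl.2.elim
          | cons y l =>
            obtain ⟨t', ht', hA⟩ := h2 (((t * n i)⁻¹ * x) * y :: l) (galE_mul hBP htx hl.2)
            refine ⟨t * (n i * t' * (n i)⁻¹), mul_mem ht ht'.1, ?_, ?_⟩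
            · have : (t * (n i * t' * (n i)⁻¹))⁻¹ * 1 ∈ B := by
                simpa using inv_mem (mul_mem (hT ht) (hT ht'.1))
              exact this
            · have e1 : t * (n i * t' * (n i)⁻¹) * n i = (t * n i) * t' := by group
              rw [e1]
              have h3 := Ag_left hA (z := t * n i) rfl
              obtain ⟨h4, h5⟩ := hA
              refine ⟨?_, ?_⟩
              · have : (t * n i * t')⁻¹ * (1 * x) = t'⁻¹ * ((t * n i)⁻¹ * x) := by group
                rw [this]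
                exact mul_mem (inv_mem (hT' ht')) htx
              · have h6 := h3.2
                have e2 : t * n i * 1 * ((t * n i)⁻¹ * x * y) = 1 * x * y := by group
                rw [e2] at h6
                exact h6
    · intro h
      refine ⟨?_, ?_⟩
      · intro x hx hxB
        obtain ⟨t, ht, hA⟩ := h (x :: f.map n) ⟨⟨hx, hxB⟩, galE_std hP hB f⟩
        refine ⟨t, ht, ?_⟩
        have h2 : Ag B n (t * n i) (1 * x) f (f.map n) := hA.2
        cases f with
        | nil =>
          have : (t * n i)⁻¹ * (1 * x) ∈ B := h2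
          rwa [one_mul] at this
        | cons j f =>
          have : (t * n i)⁻¹ * (1 * x) ∈ B := h2.1
          rwa [one_mul] at this
      · rw [ih _ hT']
        intro l hl
        obtain ⟨t, ht, hA⟩ := h (n i :: l) ⟨⟨hP i, hB i⟩, hl⟩
        have h2 : Ag B n (t * n i) (1 * n i) f l := hA.2
        have h3 : (t * n i)⁻¹ * (1 * n i) ∈ B := by
          cases f with
          | nil => exact h2
          | cons j f =>
            cases l with
            | nil => exact h2.elim
            | cons y l => exact h2.1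
        have h4 : (n i)⁻¹ * t * n i ∈ B := by
          have := inv_mem h3
          have e : ((t * n i)⁻¹ * (1 * n i))⁻¹ = (n i)⁻¹ * t * n i := by group
          rwa [e] at this
        refine ⟨(n i)⁻¹ * t * n i, ⟨?_, h4⟩, ?_⟩
        · show n i * ((n i)⁻¹ * t * n i) * (n i)⁻¹ ∈ T
          have e : n i * ((n i)⁻¹ * t * n i) * (n i)⁻¹ = t := by group
          rwa [e]
        · have h5 := Ag_left (z := (n i)⁻¹) (t' := (n i)⁻¹ * t * n i) h2 (by group)
          have e : (n i)⁻¹ * (1 * n i) = 1 := by group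
          rwa [e] at h5

end basic

end Cfsg.Agent.ParSys

end

section


/-!
# Galleries in chamber systems (THEOREM FREE, bb #11242)

`A i c d` : the chambers `c` and `d` are distinct and `i`-adjacent.  A gallery of type `f` from `c` is given by the list of
its chambers after the first one.  `ed c l = l.getLastD c` is its end.
-/

set_option autoImplicit false

namespace Cfsg.Agent.ParSys.Free

open Cfsg.Agent.ParSys

variable {C I : Type*}

/-- `l` is the list of the chambers after the first of a gallery of type `f` which starts with `c` -/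
def IsGal (A : I → C → C → Prop) : List I → C → List C → Prop
  | [], _, [] => True
  | [], _, _ :: _ => False
  | _ :: _, _, [] => False
  | i :: f, c, d :: l => A i c d ∧ IsGal A f d l

variable {A : I → C → C → Prop}

@[simp] theorem isGal_nil_iff {c : C} {l : List C} : IsGal A [] c l ↔ l = [] := by
  cases l <;> simp [IsGal]

theorem isGal_cons_iff {i : I} {f : List I} {c : C} {l : List C} :
    IsGal A (i :: f) c l ↔ ∃ d l', l = d :: l' ∧ A i c d ∧ IsGal A f d l' := by
  cases l with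
  | nil => simp [IsGal]
  | cons d l => simp [IsGal]

@[simp] theorem isGal_cons_cons {i : I} {f : List I} {c d : C} {l : List C} :
    IsGal A (i :: f) c (d :: l) ↔ A i c d ∧ IsGal A f d l := Iff.rfl

theorem IsGal.length {f : List I} {c : C} {l : List C} (h : IsGal A f c l) : l.length = f.length := by
  induction f generalizing c l with
  | nil => rw [isGal_nil_iff.1 h]; rfl
  | cons i f ih =>
    obtain ⟨d, l', rfl, -, h'⟩ := isGal_cons_iff.1 h
    simp [ih h']

theorem getLastD_append (c : C) (l₁ l₂ : List C) : (l₁ ++ l₂).getLastD c = l₂.getLastD (l₁.getLastD c) := by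
  induction l₁ generalizing c with
  | nil => rfl
  | cons d l ih => rw [List.cons_append, List.getLastD_cons, List.getLastD_cons, ih]

theorem getLastD_map (g : C → C) (c : C) (l : List C) : (l.map g).getLastD (g c) = g (l.getLastD c) := by
  induction l generalizing c with
  | nil => rfl
  | cons d l ih => rw [List.map_cons, List.getLastD_cons, List.getLastD_cons, ih]

theorem isGal_append {u v : List I} {c : C} {l : List C} :
    IsGal A (u ++ v) c l ↔ ∃ l₁ l₂, l = l₁ ++ l₂ ∧ IsGal A u c l₁ ∧ IsGal A v (l₁.getLastD c) l₂ := by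
  induction u generalizing c l with
  | nil =>
    constructor
    · intro h; exact ⟨[], l, rfl, by simp, h⟩
    · rintro ⟨l₁, l₂, rfl, h1, h2⟩
      rw [isGal_nil_iff] at h1
      subst h1
      exact h2
  | cons i u ih =>
    constructor
    · intro h
      obtain ⟨d, l', rfl, h1, h2⟩ := isGal_cons_iff.1 h
      obtain ⟨l₁, l₂, rfl, h3, h4⟩ := ih.1 h2
      exact ⟨d :: l₁, l₂, rfl, ⟨h1, h3⟩, by rwa [List.getLastD_cons]⟩
    · rintro ⟨l₁, l₂, rfl, h1, h2⟩
      obtain ⟨d, l', rfl, h3, h4⟩ := isGal_cons_iff.1 h1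
      rw [List.getLastD_cons] at h2
      exact ⟨h3, ih.2 ⟨l', l₂, rfl, h4, h2⟩⟩

theorem IsGal.append {u v : List I} {c : C} {l₁ l₂ : List C} (h1 : IsGal A u c l₁)
    (h2 : IsGal A v (l₁.getLastD c) l₂) : IsGal A (u ++ v) c (l₁ ++ l₂) :=
  isGal_append.2 ⟨l₁, l₂, rfl, h1, h2⟩

/-- galleries are mapped to galleries by the maps which preserve adjacency -/
theorem IsGal.map {g : C → C} (hg : ∀ i c d, A i c d → A i (g c) (g d)) {f : List I} {c : C} {l : List C}
    (h : IsGal A f c l) : IsGal A f (g c) (l.map g) := by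
  induction f generalizing c l with
  | nil => rw [isGal_nil_iff.1 h]; simp
  | cons i f ih =>
    obtain ⟨d, l', rfl, h1, h2⟩ := isGal_cons_iff.1 h
    exact ⟨hg _ _ _ h1, ih h2⟩

/-- there are galleries of all types from every chamber if all panels are nontrivial -/
theorem exists_isGal (hA : ∀ i c, ∃ d, A i c d) (f : List I) (c : C) : ∃ l, IsGal A f c l := by
  induction f generalizing c with
  | nil => exact ⟨[], by simp⟩
  | cons i f ih =>
    obtain ⟨d, hd⟩ := hA i c
    obtain ⟨l, hl⟩ := ih d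
    exact ⟨d :: l, hd, hl⟩

/-- the axioms of a chamber system whose rank two residues are generalised polygons -/
structure Cham (A : I → C → C → Prop) (m : I → I → ℕ) : Prop where
  ne : ∀ {i c d}, A i c d → c ≠ d
  symm : ∀ {i c d}, A i c d → A i d c
  trans : ∀ {i c d e}, A i c d → A i c e → d ≠ e → A i d e
  ex : ∀ i c, ∃ d, A i c d
  /-- the chamber at the end of a gallery of type `alt i j (m i j)` is the end of exactly one gallery of type
  `alt j i (m i j)` -/
  gp : ∀ i j, i ≠ j → ∀ c l, IsGal A (alt i j (m i j)) c l →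
    ∃! l', IsGal A (alt j i (m i j)) c l' ∧ l'.getLastD c = l.getLastD c

/-! ### The chamber system of `B ≤ P i` -/

section group

variable {G : Type*} [Group G]

/-- the chambers `c`, `d` are distinct and in the same `i`-panel -/
def adj (B : Subgroup G) (P : I → Subgroup G) (i : I) (c d : G ⧸ B) : Prop :=
  c ≠ d ∧ ∃ x p : G, p ∈ P i ∧ c = (x : G ⧸ B) ∧ d = ((x * p : G) : G ⧸ B)

/-- the rank two residues are generalised `m i j`-gons, in the form of galleries -/
def GP (B : Subgroup G) (P : I → Subgroup G) (m : I → I → ℕ) : Prop :=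
  ∀ i j, i ≠ j → ∀ c l, IsGal (adj B P) (alt i j (m i j)) c l →
    ∃! l', IsGal (adj B P) (alt j i (m i j)) c l' ∧ l'.getLastD c = l.getLastD c

variable {B : Subgroup G} {P : I → Subgroup G}

theorem mk_ne_iff {x y : G} : (x : G ⧸ B) ≠ (y : G ⧸ B) ↔ x⁻¹ * y ∉ B := by
  rw [Ne, QuotientGroup.eq]

theorem adj_mk (hBP : ∀ i, B ≤ P i) {i : I} {x y : G} :
    adj B P i (x : G ⧸ B) (y : G ⧸ B) ↔ x⁻¹ * y ∈ P i ∧ x⁻¹ * y ∉ B := by
  constructor
  · rintro ⟨h1, z, p, hp, h2, h3⟩
    refine ⟨?_, mk_ne_iff.1 h1⟩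
    rw [QuotientGroup.eq] at h2 h3
    have e : x⁻¹ * y = (x⁻¹ * z) * p * (y⁻¹ * (z * p))⁻¹ := by group
    rw [e]
    exact mul_mem (mul_mem (hBP i h2) hp) (inv_mem (hBP i h3))
  · rintro ⟨h1, h2⟩
    exact ⟨mk_ne_iff.2 h2, x, x⁻¹ * y, h1, rfl, by rw [mul_inv_cancel_left]⟩

theorem adj_smul {i : I} {c d : G ⧸ B} (g : G) (h : adj B P i c d) : adj B P i (g • c) (g • d) := by
  obtain ⟨h1, x, p, hp, rfl, rfl⟩ := h
  refine ⟨fun h => h1 (smul_left_cancel g h), g * x, p, hp, rfl, ?_⟩
  rw [mul_assoc]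
  rfl

theorem adj_symm (hBP : ∀ i, B ≤ P i) {i : I} {c d : G ⧸ B} (h : adj B P i c d) : adj B P i d c := by
  induction c using QuotientGroup.induction_on with
  | _ x =>
  induction d using QuotientGroup.induction_on with
  | _ y =>
  rw [adj_mk hBP] at h ⊢
  have e : y⁻¹ * x = (x⁻¹ * y)⁻¹ := by group
  rw [e]
  exact ⟨inv_mem h.1, fun h' => h.2 (by simpa using inv_mem h')⟩

theorem adj_trans (hBP : ∀ i, B ≤ P i) {i : I} {c d e : G ⧸ B} (h : adj B P i c d) (h' : adj B P i c e)
    (hne : d ≠ e) : adj B P i d e := by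
  induction c using QuotientGroup.induction_on with
  | _ x =>
  induction d using QuotientGroup.induction_on with
  | _ y =>
  induction e using QuotientGroup.induction_on with
  | _ z =>
  rw [adj_mk hBP] at h h' ⊢
  refine ⟨?_, mk_ne_iff.1 hne⟩
  have e : y⁻¹ * z = (x⁻¹ * y)⁻¹ * (x⁻¹ * z) := by group
  rw [e]
  exact mul_mem (inv_mem h.1) h'.1

theorem exists_adj (hBP : ∀ i, B ≤ P i) (hne : ∀ i, ∃ x ∈ P i, x ∉ B) (i : I) (c : G ⧸ B) :
    ∃ d, adj B P i c d := by
  induction c using QuotientGroup.induction_on with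
  | _ x =>
  obtain ⟨p, hp, hpB⟩ := hne i
  refine ⟨((x * p : G) : G ⧸ B), ?_⟩
  rw [adj_mk hBP, inv_mul_cancel_left]
  exact ⟨hp, hpB⟩

theorem cham (hBP : ∀ i, B ≤ P i) (hne : ∀ i, ∃ x ∈ P i, x ∉ B) {m : I → I → ℕ} (hgp : GP B P m) :
    Cham (adj B P) m where
  ne h := h.1
  symm h := adj_symm hBP h
  trans h h' hne := adj_trans hBP h h' hne
  ex i c := exists_adj hBP hne i c
  gp := hgp

end group

end Cfsg.Agent.ParSys.Free

end

section


/-!
# Good words
-/

set_option autoImplicit false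

namespace Cfsg.Agent.ParSys

open Subgroup

variable {G : Type*} [Group G] {I : Type*}

/-- The abstract data of a parabolic system in which every rank two residue is a building with a torus. -/
structure Data (B : Subgroup G) (P : I → Subgroup G) (n : I → G) (H : Subgroup G) (U : Subgroup G)
    (m : I → I → ℕ) (Adm : Subgroup G → Prop) : Prop where
  le : ∀ i, B ≤ P i
  gen : ⨆ i, P i = ⊤
  n_mem : ∀ i, n i ∈ P i
  n_not : ∀ i, n i ∉ B
  H_le : H ≤ B
  conj : ∀ i, ∀ h ∈ H, n i * h * (n i)⁻¹ ∈ H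
  conj' : ∀ i, ∀ h ∈ H, (n i)⁻¹ * h * n i ∈ H
  sq : ∀ i, n i * n i ∈ H
  /-- every panel has at least three chambers -/
  three : ∀ i, ∃ x ∈ P i, x ∉ B ∧ (n i)⁻¹ * x ∉ B
  m_two : ∀ i j, i ≠ j → 2 ≤ m i j
  m_symm : ∀ i j, m i j = m j i
  braid : ∀ i j, i ≠ j → (nw n (alt i j (m i j)))⁻¹ * nw n (alt j i (m i j)) ∈ H
  /-- an element of `B` which fixes the end of the standard gallery of type `alt i j (m i j)` fixes the gallery -/
  unq : ∀ i j, i ≠ j → ∀ y ∈ B, (nw n (alt i j (m i j)))⁻¹ * y * nw n (alt i j (m i j)) ∈ B →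
    ∀ k ≤ m i j, (nw n (alt i j k))⁻¹ * y * nw n (alt i j k) ∈ B
  U_le : U ≤ B
  adm_U : Adm U
  adm_le : ∀ T, Adm T → T ≤ U
  adm_stp : ∀ T i, Adm T → Adm (stp B (n i) T)
  pan : ∀ i, Pan B P n U i
  /-- condition (G1) -/
  g1 : ∀ i j, i ≠ j → ∀ T, Adm T → Pan B P n T i → Pan B P n T j → Tr B P n T (alt i j (m i j))

namespace Data

variable {B : Subgroup G} {P : I → Subgroup G} {n : I → G} {H U : Subgroup G} {m : I → I → ℕ}
  {Adm : Subgroup G → Prop} (D : Data B P n H U m Adm)

include D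

theorem adm_B {T : Subgroup G} (h : Adm T) : T ≤ B := (D.adm_le T h).trans D.U_le

theorem adm_St {T : Subgroup G} (h : Adm T) (f : List I) : Adm (St B n T f) := by
  induction f generalizing T with
  | nil => exact h
  | cons i f ih => exact ih (D.adm_stp T i h)

theorem conj_nw (f : List I) : ∀ h ∈ H, nw n f * h * (nw n f)⁻¹ ∈ H := by
  induction f with
  | nil => intro h hh; simpa using hh
  | cons i f ih =>
    intro h hh
    have := D.conj i _ (ih h hh)
    have e : nw n (i :: f) * h * (nw n (i :: f))⁻¹ = n i * (nw n f * h * (nw n f)⁻¹) * (n i)⁻¹ := by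
      rw [nw_cons]; group
    rw [e]; exact this

theorem conj_nw' (f : List I) : ∀ h ∈ H, (nw n f)⁻¹ * h * nw n f ∈ H := by
  induction f with
  | nil => intro h hh; simpa using hh
  | cons i f ih =>
    intro h hh
    have := ih _ (D.conj' i h hh)
    have e : (nw n (i :: f))⁻¹ * h * nw n (i :: f) = (nw n f)⁻¹ * ((n i)⁻¹ * h * n i) * nw n f := by
      rw [nw_cons]; group
    rw [e]; exact this

/-- conjugation of `T` by an element of `H` -/
theorem stp_cnj {T : Subgroup G} {h : G} (hh : h ∈ H) (i : I) :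
    ∃ h' ∈ H, stp B (n i) (cnj h T) = cnj h' (stp B (n i) T) := by
  refine ⟨(n i)⁻¹ * h * n i, D.conj' i h hh, ?_⟩
  have hB : (n i)⁻¹ * h * n i ∈ B := D.H_le (D.conj' i h hh)
  ext x
  simp only [mem_stp, mem_cnj]
  have e1 : h * (n i * x * (n i)⁻¹) * h⁻¹ =
      n i * ((n i)⁻¹ * h * n i * x * ((n i)⁻¹ * h * n i)⁻¹) * (n i)⁻¹ := by group
  rw [e1]
  refine ⟨fun hx => ⟨hx.1, mul_mem (mul_mem hB hx.2) (inv_mem hB)⟩, fun hx => ⟨hx.1, ?_⟩⟩
  have := mul_mem (mul_mem (inv_mem hB) hx.2) hB
  have e2 : ((n i)⁻¹ * h * n i)⁻¹ * ((n i)⁻¹ * h * n i * x * ((n i)⁻¹ * h * n i)⁻¹) * ((n i)⁻¹ * h * n i) = x := by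
    group
  rwa [e2] at this

theorem pan_cnj {T : Subgroup G} {h : G} (hh : h ∈ H) {i : I} (hp : Pan B P n T i) :
    Pan B P n (cnj h T) i := by
  intro x hx hxB
  have hB : h ∈ B := D.H_le hh
  obtain ⟨t, ht, htx⟩ := hp (h * x) (mul_mem (D.le i hB) hx) (fun h1 => hxB (by
    have := mul_mem (inv_mem hB) h1
    rwa [← mul_assoc, inv_mul_cancel, one_mul] at this))
  refine ⟨h⁻¹ * t * h, ?_, ?_⟩
  · rw [mem_cnj]
    have e : h * (h⁻¹ * t * h) * h⁻¹ = t := by group
    rwa [e]
  · have e : (h⁻¹ * t * h * n i)⁻¹ * x = ((n i)⁻¹ * h * n i)⁻¹ * ((t * n i)⁻¹ * (h * x)) := by group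
    rw [e]
    exact mul_mem (inv_mem (D.H_le (D.conj' i h hh))) htx

theorem tr_cnj {T : Subgroup G} {h : G} (hh : h ∈ H) {f : List I} (hf : Tr B P n T f) :
    Tr B P n (cnj h T) f := by
  induction f generalizing T h with
  | nil => trivial
  | cons i f ih =>
    obtain ⟨h', hh', e⟩ := D.stp_cnj (T := T) hh i
    refine ⟨D.pan_cnj hh hf.1, ?_⟩
    rw [e]
    exact ih hh' hf.2

theorem st_cnj {T : Subgroup G} {h : G} (hh : h ∈ H) (f : List I) :
    ∃ h' ∈ H, St B n (cnj h T) f = cnj h' (St B n T f) := by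
  induction f generalizing T h with
  | nil => exact ⟨h, hh, rfl⟩
  | cons i f ih =>
    obtain ⟨h', hh', e⟩ := D.stp_cnj (T := T) hh i
    obtain ⟨h'', hh'', e'⟩ := ih (T := stp B (n i) T) hh'
    refine ⟨h'', hh'', ?_⟩
    show St B n (stp B (n i) (cnj h T)) f = _
    rw [e, e']
    rfl

omit D in
/-- membership in the stabiliser of the standard gallery of type `alt a b k` -/
theorem mem_St_alt {T : Subgroup G} (k : ℕ) (a b : I) {x : G} :
    x ∈ St B n T (alt a b k) → nw n (alt a b k) * x * (nw n (alt a b k))⁻¹ ∈ T := by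
  induction k generalizing a b T x with
  | zero => intro h; simpa [St] using h
  | succ k ih =>
    intro h
    have h1 : x ∈ St B n (stp B (n a) T) (alt b a k) := h
    have h2 := (ih b a h1).1
    have e : nw n (alt a b (k + 1)) * x * (nw n (alt a b (k + 1)))⁻¹ =
        n a * (nw n (alt b a k) * x * (nw n (alt b a k))⁻¹) * (n a)⁻¹ := by
      rw [alt_cons, nw_cons]; group
    rw [e]; exact h2

omit D in
theorem mem_St_of {T : Subgroup G} (k : ℕ) (a b : I) {x : G}
    (h : nw n (alt a b k) * x * (nw n (alt a b k))⁻¹ ∈ T)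
    (h' : ∀ l, 1 ≤ l → l ≤ k → (nw n (alt a b l))⁻¹ * (nw n (alt a b k) * x * (nw n (alt a b k))⁻¹) *
      nw n (alt a b l) ∈ B) : x ∈ St B n T (alt a b k) := by
  induction k generalizing a b T x with
  | zero => simpa [St] using h
  | succ k ih =>
    show x ∈ St B n (stp B (n a) T) (alt b a k)
    have e : ∀ l, (nw n (alt a b (l + 1)))⁻¹ * (nw n (alt a b (k + 1)) * x * (nw n (alt a b (k + 1)))⁻¹) *
        nw n (alt a b (l + 1)) = (nw n (alt b a l))⁻¹ * (nw n (alt b a k) * x * (nw n (alt b a k))⁻¹) *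
        nw n (alt b a l) := by
      intro l
      rw [alt_cons, alt_cons, nw_cons, nw_cons]; group
    apply ih
    · refine ⟨?_, ?_⟩
      · show n a * (nw n (alt b a k) * x * (nw n (alt b a k))⁻¹) * (n a)⁻¹ ∈ T
        have e2 : n a * (nw n (alt b a k) * x * (nw n (alt b a k))⁻¹) * (n a)⁻¹ =
            nw n (alt a b (k + 1)) * x * (nw n (alt a b (k + 1)))⁻¹ := by
          rw [alt_cons, nw_cons]; group
        rw [e2]; exact h
      · have := h' 1 le_rfl (by omega)
        rw [e 0] at this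
        simpa using this
    · intro l hl hlk
      have := h' (l + 1) (by omega) (by omega)
      rwa [e l] at this

/-- the braid move for the stabilisers -/
theorem st_braid {T : Subgroup G} (hT : Adm T) {i j : I} (hij : i ≠ j) :
    ∃ h ∈ H, St B n T (alt j i (m i j)) = cnj h (St B n T (alt i j (m i j))) := by
  have key : ∀ a b : I, a ≠ b → ∀ x, x ∈ St B n T (alt a b (m a b)) ↔
      x ∈ stp B (nw n (alt a b (m a b))) T := by
    intro a b hab x
    constructor
    · intro hx
      exact ⟨mem_St_alt _ a b hx, D.adm_B (D.adm_St hT _) hx⟩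
    · rintro ⟨h1, h2⟩
      have h1' : nw n (alt a b (m a b)) * x * (nw n (alt a b (m a b)))⁻¹ ∈ T := h1
      apply mem_St_of _ a b h1'
      intro l _ hl
      apply D.unq a b hab _ (D.adm_B hT h1') _ l hl
      have e : (nw n (alt a b (m a b)))⁻¹ * (nw n (alt a b (m a b)) * x * (nw n (alt a b (m a b)))⁻¹) *
        nw n (alt a b (m a b)) = x := by group
      rw [e]; exact h2
  refine ⟨(nw n (alt i j (m i j)))⁻¹ * nw n (alt j i (m i j)), D.braid i j hij, ?_⟩
  have hh := D.H_le (D.braid i j hij)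
  ext x
  rw [mem_cnj, key i j hij, D.m_symm i j, key j i hij.symm, D.m_symm j i]
  simp only [mem_stp]
  set g := nw n (alt i j (m i j))
  set g' := nw n (alt j i (m i j))
  have e1 : g * (g⁻¹ * g' * x * (g⁻¹ * g')⁻¹) * g⁻¹ = g' * x * g'⁻¹ := by group
  rw [e1]
  refine ⟨fun h => ⟨h.1, mul_mem (mul_mem hh h.2) (inv_mem hh)⟩, fun h => ⟨h.1, ?_⟩⟩
  have := mul_mem (mul_mem (inv_mem hh) h.2) hh
  have e2 : (g⁻¹ * g')⁻¹ * (g⁻¹ * g' * x * (g⁻¹ * g')⁻¹) * (g⁻¹ * g') = x := by group
  rwa [e2] at this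

/-- the braid move for transitivity -/
theorem tr_braid {T : Subgroup G} (hT : Adm T) {i j : I} (hij : i ≠ j)
    (h : Tr B P n T (alt i j (m i j))) : Tr B P n T (alt j i (m i j)) := by
  have hTB := D.adm_B hT
  have hU : Tr B P n U (alt j i (m i j)) := by
    have := D.g1 j i hij.symm U D.adm_U (D.pan j) (D.pan i)
    rwa [D.m_symm j i] at this
  rw [tr_iff D.le D.n_mem D.n_not U D.U_le] at hU
  rw [tr_iff D.le D.n_mem D.n_not T hTB] at h ⊢
  intro l hl
  obtain ⟨u, hu, hA⟩ := hU l hl
  -- the standard gallery of type `alt i j`, moved by `u`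
  have hm : 2 ≤ m i j := D.m_two i j hij
  obtain ⟨k, hk⟩ : ∃ k, m i j = k + 1 := ⟨m i j - 1, by omega⟩
  have hg : GalE B P (alt i j (m i j)) (u * n i :: (alt j i k).map n) := by
    rw [hk]
    exact galE_mul D.le (D.U_le hu) (galE_std D.n_mem D.n_not (alt i j (k + 1)))
  obtain ⟨t, ht, hA2⟩ := h _ hg
  have h3 := Ag_end hg hA2
  have e3 : (1 : G) * (u * n i :: (alt j i k).map n).prod = u * nw n (alt i j (m i j)) := by
    rw [one_mul, List.prod_cons, prod_map, hk, alt_cons, nw_cons, mul_assoc]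
  rw [e3] at h3
  have hy : t⁻¹ * u ∈ B := mul_mem (inv_mem (hTB ht)) (D.U_le hu)
  have hh := D.H_le (D.braid i j hij)
  have h4 : (nw n (alt j i (m j i)))⁻¹ * (t⁻¹ * u) * nw n (alt j i (m j i)) ∈ B := by
    rw [D.m_symm j i]
    have := mul_mem (mul_mem (inv_mem hh) h3) hh
    have e : ((nw n (alt i j (m i j)))⁻¹ * nw n (alt j i (m i j)))⁻¹ *
        ((t * nw n (alt i j (m i j)))⁻¹ * (u * nw n (alt i j (m i j)))) *
        ((nw n (alt i j (m i j)))⁻¹ * nw n (alt j i (m i j))) =
        (nw n (alt j i (m i j)))⁻¹ * (t⁻¹ * u) * nw n (alt j i (m i j)) := by group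
    rwa [e] at this
  have h5 := D.unq j i hij.symm _ hy h4
  refine ⟨t, ht, ?_⟩
  -- transfer the agreement from `u` to `t`
  have gen : ∀ (k : ℕ) (a b : I) (l : List G) (u t s : G), Ag B n u s (alt a b k) l →
      (∀ q ≤ k, (nw n (alt a b q))⁻¹ * (t⁻¹ * u) * nw n (alt a b q) ∈ B) → Ag B n t s (alt a b k) l := by
    intro k
    induction k with
    | zero =>
      intro a b l u t s h1 h2
      have h3 : u⁻¹ * s ∈ B := h1
      have h4 := h2 0 le_rfl
      show t⁻¹ * s ∈ B
      have e : t⁻¹ * s = ((nw n (alt a b 0))⁻¹ * (t⁻¹ * u) * nw n (alt a b 0)) * (u⁻¹ * s) := by simp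
      rw [e]; exact mul_mem h4 h3
    | succ k ih =>
      intro a b l u t s h1 h2
      cases l with
      | nil => exact h1.elim
      | cons x l =>
        obtain ⟨h3, h4⟩ := h1
        refine ⟨?_, ?_⟩
        · have h4 := h2 0 (by omega)
          have e : t⁻¹ * s = ((nw n (alt a b 0))⁻¹ * (t⁻¹ * u) * nw n (alt a b 0)) * (u⁻¹ * s) := by simp
          rw [e]; exact mul_mem h4 h3
        · apply ih b a l (u * n a) (t * n a) (s * x) h4
          intro q hq
          have := h2 (q + 1) (by omega)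
          rw [alt_cons, nw_cons] at this
          have e : (nw n (alt b a q))⁻¹ * ((t * n a)⁻¹ * (u * n a)) * nw n (alt b a q) =
              (n a * nw n (alt b a q))⁻¹ * (t⁻¹ * u) * (n a * nw n (alt b a q)) := by group
          rw [e]; exact this
  apply gen _ _ _ _ _ _ _ hA
  intro q hq
  exact h5 q (by rwa [D.m_symm j i])

end Data

/-- braid equivalence of words -/
inductive Br (m : I → I → ℕ) : List I → List I → Prop
  | refl (f : List I) : Br m f f
  | move (u v : List I) (i j : I) (g : List I) : i ≠ j → Br m g (u ++ alt i j (m i j) ++ v) →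
      Br m g (u ++ alt j i (m i j) ++ v)

namespace Br

variable {m : I → I → ℕ}

theorem length {f g : List I} (h : Br m f g) : g.length = f.length := by
  induction h with
  | refl f => rfl
  | move u v i j g hij _ ih =>
    rw [← ih]
    have : ∀ (k : ℕ) (a b : I), (alt a b k).length = k := by
      intro k
      induction k with
      | zero => intro a b; rfl
      | succ k ih => intro a b; rw [alt_cons, List.length_cons, ih]
    simp only [List.length_append, this]

theorem trans {f g k : List I} (h1 : Br m f g) (h2 : Br m g k) : Br m f k := by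
  induction h2 with
  | refl f => exact h1
  | move u v i j g hij _ ih => exact Br.move u v i j _ hij (ih h1)

theorem append_right {f g : List I} (h : Br m f g) (w : List I) : Br m (f ++ w) (g ++ w) := by
  induction h with
  | refl f => exact Br.refl _
  | move u v i j g hij _ ih =>
    have := Br.move u (v ++ w) i j (g ++ w) hij (by simpa [List.append_assoc] using ih)
    simpa [List.append_assoc] using this

theorem symm (hm : ∀ i j, m i j = m j i) {f g : List I} (h : Br m f g) : Br m g f := by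
  induction h with
  | refl f => exact Br.refl _
  | move u v i j g hij _ ih =>
    have h1 : Br m (u ++ alt j i (m i j) ++ v) (u ++ alt i j (m i j) ++ v) := by
      have := Br.move (m := m) u v j i (u ++ alt j i (m i j) ++ v) hij.symm
        (by rw [hm j i]; exact Br.refl _)
      rwa [hm j i] at this
    exact h1.trans ih

end Br

namespace Data

variable {B : Subgroup G} {P : I → Subgroup G} {n : I → G} {H U : Subgroup G} {m : I → I → ℕ}
  {Adm : Subgroup G → Prop} (D : Data B P n H U m Adm)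

include D

theorem tr_br {T : Subgroup G} (hT : Adm T) {f g : List I} (h : Br m f g) (hf : Tr B P n T f) :
    Tr B P n T g := by
  induction h with
  | refl f => exact hf
  | move u v i j g hij _ ih =>
    have h1 := ih hf
    rw [Tr_append, Tr_append] at h1 ⊢
    obtain ⟨⟨h1, h2⟩, h3⟩ := h1
    refine ⟨⟨h1, D.tr_braid (D.adm_St hT u) hij h2⟩, ?_⟩
    rw [St_append] at h3 ⊢
    obtain ⟨h, hh, e⟩ := D.st_braid (D.adm_St hT u) hij
    rw [e]
    exact D.tr_cnj hh h3

theorem nw_br {f g : List I} (h : Br m f g) : (nw n f)⁻¹ * nw n g ∈ H := by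
  induction h with
  | refl f => simp [one_mem]
  | move u v i j g hij _ ih =>
    have h1 := D.braid i j hij
    have h2 := D.conj_nw' v _ h1
    have e : (nw n g)⁻¹ * nw n (u ++ alt j i (m i j) ++ v) =
        ((nw n g)⁻¹ * nw n (u ++ alt i j (m i j) ++ v)) *
          ((nw n v)⁻¹ * ((nw n (alt i j (m i j)))⁻¹ * nw n (alt j i (m i j))) * nw n v) := by
      simp only [nw_append]; group
    rw [e]
    exact mul_mem ih h2

/-- a word is good if `U` is transitive on the galleries of this type which start in `B` -/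
theorem good_or (f : List I) : Tr B P n U f → ∀ i, Tr B P n U (f ++ [i]) ∨ ∃ g, Br m f (g ++ [i]) := by
  classical
  induction hN : f.length using Nat.strong_induction_on generalizing f with
  | _ N IH =>
  subst hN
  intro hf i
  rcases List.eq_nil_or_concat f with rfl | ⟨f0, j, rfl⟩
  · left
    exact ⟨D.pan i, trivial⟩
  rw [List.concat_eq_append] at *
  rcases eq_or_ne j i with rfl | hji
  · exact Or.inr ⟨f0, Br.refl _⟩
  -- the inner induction
  have inner : ∀ d k : ℕ, ∀ a b : I, ∀ f' : List I, k + d = m i j → 1 ≤ k →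
      ((a = i ∧ b = j) ∨ (a = j ∧ b = i)) → nxt a b k = i → Br m (f0 ++ [j]) (f' ++ alt a b k) →
      Tr B P n U (f0 ++ [j] ++ [i]) ∨ ∃ g, Br m (f0 ++ [j]) (g ++ [i]) := by
    intro d
    induction d with
    | zero =>
      intro k a b f' hk hk1 hab hnx hbr
      right
      obtain ⟨k', rfl⟩ : ∃ k', k = k' + 1 := ⟨k - 1, by omega⟩
      have hab' : a ≠ b := by
        rcases hab with ⟨rfl, rfl⟩ | ⟨rfl, rfl⟩
        · exact hji.symm
        · exact hji
      have hm : m a b = k' + 1 := by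
        rcases hab with ⟨rfl, rfl⟩ | ⟨rfl, rfl⟩
        · omega
        · rw [D.m_symm]; omega
      have h1 := Br.move (m := m) f' [] a b (f0 ++ [j]) hab' (by rw [hm, List.append_nil]; exact hbr)
      rw [hm, List.append_nil, alt_snoc] at h1
      have h2 : nxt b a k' = i := hnx
      rw [h2, ← List.append_assoc] at h1
      exact ⟨_, h1⟩
    | succ d ihd =>
      intro k a b f' hk hk1 hab hnx hbr
      have hab' : a ≠ b := by
        rcases hab with ⟨rfl, rfl⟩ | ⟨rfl, rfl⟩
        · exact hji.symm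
        · exact hji
      have hm : m a b = m i j := by
        rcases hab with ⟨rfl, rfl⟩ | ⟨rfl, rfl⟩
        · rfl
        · rw [D.m_symm]
      have hgood := D.tr_br D.adm_U hbr hf
      have hlen := hbr.length
      -- `f'` is shorter
      have hlt : f'.length < (f0 ++ [j]).length := by
        have : (alt a b k).length = k := by
          have : ∀ (k : ℕ) (a b : I), (alt a b k).length = k := by
            intro k
            induction k with
            | zero => intro a b; rfl
            | succ k ih => intro a b; rw [alt_cons, List.length_cons, ih]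
          exact this k a b
        rw [List.length_append, this] at hlen
        omega
      rw [Tr_append] at hgood
      have hpa : Pan B P n (St B n U f') a := by
        obtain ⟨k', rfl⟩ : ∃ k', k = k' + 1 := ⟨k - 1, by omega⟩
        exact hgood.2.1
      rcases IH f'.length hlt f' rfl hgood.1 b with hb | ⟨g, hg⟩
      · left
        rw [Tr_append] at hb
        have hpb : Pan B P n (St B n U f') b := hb.2.1
        have h1 := D.g1 a b hab' _ (D.adm_St D.adm_U f') hpa hpb
        obtain ⟨v, hv⟩ := alt_prefix a b (k := k + 1) (l := m a b) (by rw [hm]; omega)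
        rw [hv, Tr_append] at h1
        have h2 : Tr B P n U (f' ++ alt a b (k + 1)) := (Tr_append _ _ _).2 ⟨hgood.1, h1.1⟩
        rw [alt_snoc, hnx, ← List.append_assoc] at h2
        exact D.tr_br D.adm_U ((hbr.symm D.m_symm).append_right [i]) h2
      · have hbr' : Br m (f0 ++ [j]) (g ++ alt b a (k + 1)) := by
          refine hbr.trans ?_
          have := hg.append_right (alt a b k)
          rw [List.append_assoc] at this
          exact this
        apply ihd (k + 1) b a g (by omega) (by omega) ?_ ?_ hbr'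
        · rcases hab with ⟨rfl, rfl⟩ | ⟨rfl, rfl⟩
          · exact Or.inr ⟨rfl, rfl⟩
          · exact Or.inl ⟨rfl, rfl⟩
        · exact hnx
  have hm2 := D.m_two i j hji.symm
  exact inner (m i j - 1) 1 j i f0 (by omega) le_rfl (Or.inr ⟨rfl, rfl⟩) rfl (Br.refl _)

end Data

end Cfsg.Agent.ParSys

end

section


/-!
# Matsumoto's theorem as a statement on braid moves

Two reduced words of a finite Coxeter group with the same product are braid equivalent (`ParSys.Br`).
-/

set_option autoImplicit false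

namespace Cfsg.Agent.ParSys

variable {I : Type*} {m : I → I → ℕ}

namespace Br

theorem append_left {f g : List I} (h : Br m f g) (w : List I) : Br m (w ++ f) (w ++ g) := by
  induction h with
  | refl f => exact Br.refl _
  | move u v i j g hij _ ih =>
    have := Br.move (m := m) (w ++ u) v i j (w ++ g) hij (by simpa [List.append_assoc] using ih)
    simpa [List.append_assoc] using this

theorem append {f f' g g' : List I} (h : Br m f f') (h' : Br m g g') : Br m (f ++ g) (f' ++ g') :=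
  (h.append_right g).trans (h'.append_left f')

end Br

namespace Free

/-- the braid relations -/
inductive BrRel (m : I → I → ℕ) : FreeMonoid I → FreeMonoid I → Prop
  | mk (i j : I) (h : i ≠ j) :
      BrRel m (FreeMonoid.ofList (alt i j (m i j))) (FreeMonoid.ofList (alt j i (m i j)))

theorem br_of_conGen (hm : ∀ i j, m i j = m j i) {f g : FreeMonoid I} (h : ConGen.Rel (BrRel m) f g) :
    Br m f.toList g.toList := by
  induction h with
  | of x y h =>
    obtain ⟨i, j, hij⟩ := h
    have := Br.move (m := m) [] [] i j (alt i j (m i j)) hij (by simpa using Br.refl _)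
    simpa using this
  | refl x => exact Br.refl _
  | symm _ ih => exact ih.symm hm
  | trans _ _ ih1 ih2 => exact ih1.trans ih2
  | mul _ _ ih1 ih2 =>
    rw [FreeMonoid.toList_mul, FreeMonoid.toList_mul]
    exact ih1.append ih2

theorem alt_eq (i j : I) (k : ℕ) : LieExceptional.CoxeterExchange.alt i j k = alt i j k := by
  induction k generalizing i j with
  | zero => rfl
  | succ k ih => rw [LieExceptional.CoxeterExchange.alt_succ, ih, alt_cons]

variable {M : CoxeterMatrix I} {W : Type*} [Group W] (cs : CoxeterSystem M W)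

theorem isRed_iff (ω : List I) : LieExceptional.CoxeterExchange.IsRed cs.simple ω ↔ cs.IsReduced ω := by
  constructor
  · intro h
    obtain ⟨ω', hω', he⟩ := cs.exists_isReduced (cs.wordProd ω)
    have h1 := h ω' he.symm
    have h2 : cs.length (cs.wordProd ω) = ω'.length := by rw [he]; exact hω'
    have h3 := cs.length_wordProd_le ω
    show cs.length (cs.wordProd ω) = ω.length
    omega
  · intro h ω' hω'
    have h1 : cs.wordProd ω' = cs.wordProd ω := hω'
    have h2 := cs.length_wordProd_le ω'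
    rw [h1, h.eq] at h2
    exact h2

theorem exchange : LieExceptional.CoxeterExchange.Exchange cs.simple := by
  intro b ω h1 h2
  rw [isRed_iff] at h1 h2
  have h3 : cs.length (cs.simple b * cs.wordProd ω) < cs.length (cs.wordProd ω) := by
    rcases cs.length_simple_mul (cs.wordProd ω) b with h | h
    · exfalso
      apply h2
      show cs.length (cs.wordProd (b :: ω)) = (b :: ω).length
      rw [cs.wordProd_cons, h, h1.eq, List.length_cons]
    · omega
  obtain ⟨j, hj, he⟩ := Tits.Exchange.exchange_left cs h3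
  refine ⟨ω.take j, ω[j], ω.drop (j + 1), ?_, ?_⟩
  · rw [← List.drop_eq_getElem_cons hj, List.take_append_drop]
  · have e1 : cs.wordProd ω = cs.wordProd (ω.take j) * (cs.simple ω[j] * cs.wordProd (ω.drop (j + 1))) := by
      rw [← cs.wordProd_cons, ← List.drop_eq_getElem_cons hj, ← cs.wordProd_append, List.take_append_drop]
    have e2 : cs.wordProd (ω.eraseIdx j) = cs.wordProd (ω.take j) * cs.wordProd (ω.drop (j + 1)) := by
      rw [List.eraseIdx_eq_take_drop_succ, cs.wordProd_append]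
    rw [e1, e2] at he
    show cs.simple b * cs.wordProd (ω.take j) = cs.wordProd (ω.take j) * cs.simple ω[j]
    have h4 : cs.simple b * cs.wordProd (ω.take j) * cs.simple ω[j] = cs.wordProd (ω.take j) := by
      apply mul_right_cancel (b := cs.wordProd (ω.drop (j + 1)))
      rw [← he]; group
    calc cs.simple b * cs.wordProd (ω.take j)
        = cs.simple b * cs.wordProd (ω.take j) * (cs.simple ω[j] * cs.simple ω[j]) := by
          rw [cs.simple_mul_simple_self, mul_one]
      _ = cs.wordProd (ω.take j) * cs.simple ω[j] := by rw [← mul_assoc, h4]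

/-- **Matsumoto's theorem**: reduced words with the same product are braid equivalent. -/
theorem br_of_reduced [Finite I] [Finite W] {f g : List I} (hf : cs.IsReduced f) (hg : cs.IsReduced g)
    (h : cs.wordProd f = cs.wordProd g) : Br (fun i j => M i j) f g := by
  have hlen : f.length = g.length := by rw [← hf.eq, h, hg.eq]
  have hm : ∀ i j, M i j = M j i := fun i j => M.symmetric i j
  let c : Con (FreeMonoid I) := conGen (BrRel fun i j => M i j)
  have key := LieExceptional.CoxeterExchange.matsumoto (σ := cs.simple) cs.simple_mul_simple_self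
    (Tits.OppRes.Cox.inj (cs := cs)) (exchange cs) (H := c.Quotient)
    (fun i => ((FreeMonoid.of i : FreeMonoid I) : c.Quotient)) ?_ f.length f g rfl hlen.symm
    ((isRed_iff cs f).2 hf) h
  · have e : ∀ l : List I, (l.map fun i => ((FreeMonoid.of i : FreeMonoid I) : c.Quotient)).prod =
        ((FreeMonoid.ofList l : FreeMonoid I) : c.Quotient) := by
      intro l
      induction l with
      | nil => rfl
      | cons i l ih => rw [List.map_cons, List.prod_cons, ih]; rfl
    rw [e, e, Con.eq] at key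
    exact br_of_conGen hm key
  · intro x y hxy _
    have e : ∀ l : List I, (l.map fun i => ((FreeMonoid.of i : FreeMonoid I) : c.Quotient)).prod =
        ((FreeMonoid.ofList l : FreeMonoid I) : c.Quotient) := by
      intro l
      induction l with
      | nil => rfl
      | cons i l ih => rw [List.map_cons, List.prod_cons, ih]; rfl
    rw [e, e, Con.eq, alt_eq, alt_eq, Tits.Generic.orderOf_eq cs x y]
    exact ConGen.Rel.of _ _ (BrRel.mk (m := fun i j => M i j) x y hxy)

end Free

end Cfsg.Agent.ParSys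

end

section


/-!
# A group acting Weyl-transitively on a thick spherical building has a (B,N)-pair

No torus is needed: `N` is the stabiliser of the apartment of a pair of opposite chambers.
-/

set_option autoImplicit false

namespace Cfsg.Agent.ParSys.AptBN

open Cfsg.Agent.Tits.Core Cfsg.Agent.Tits.Core.Bldg Cfsg.Agent.Tits.Exchange Cfsg.Agent.Tits.Ext

variable {I : Type*} {M : CoxeterMatrix I} {W : Type*} [Group W] {cs : CoxeterSystem M W}
  {C : Type*}

/-- `G` acts by isometries, transitively on the pairs of chambers with a given distance. -/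
structure Act (Δ : Bldg cs C) (G : Type*) [Group G] [MulAction G C] : Prop where
  iso : ∀ (g : G) x y, Δ.δ (g • x) (g • y) = Δ.δ x y
  trans : ∀ x y x' y', Δ.δ x y = Δ.δ x' y' → ∃ g : G, g • x = x' ∧ g • y = y'

variable {Δ : Bldg cs C} {G : Type*} [Group G] [MulAction G C] (A : Act Δ G)
  [Finite W] [Finite I] {c d : C} (hcd : Δ.Opp c d)

/-- `g` induces the left multiplication by `w` on the apartment of `c, d` -/
def Ind (Δ : Bldg cs C) (c d : C) (g : G) (w : W) : Prop :=
  ∀ v, g • apt Δ c d v = apt Δ c d (w * v)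

include A hcd in
theorem ind_iff (g : G) (w : W) :
    Ind Δ c d g w ↔ g • c = apt Δ c d w ∧ g • d = apt Δ c d (w * w0 cs) := by
  constructor
  · intro h
    have h1 := h 1
    have h2 := h (w0 cs)
    rw [apt_one Δ hcd, mul_one] at h1
    rw [apt_w0 Δ hcd] at h2
    exact ⟨h1, h2⟩
  · rintro ⟨h1, h2⟩ v
    have e1 : Δ.δ (apt Δ c d w) (g • apt Δ c d v) = v := by
      rw [← h1, A.iso, δ_apt Δ hcd]
    have e2 : Δ.δ (g • apt Δ c d v) (apt Δ c d (w * w0 cs)) = v⁻¹ * w0 cs := by
      rw [← h2, A.iso, (apt_spec Δ hcd v).2]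
    have e3 : Δ.δ (apt Δ c d w) (apt Δ c d (w * v)) = v := apt_δ_mul Δ hcd w v
    have e4 : Δ.δ (apt Δ c d (w * v)) (apt Δ c d (w * w0 cs)) = v⁻¹ * w0 cs := by
      rw [apt_δ Δ hcd]; group
    refine Δ.between_unique ?_ e1 e2 e3 e4
    rw [mul_inv_cancel_left]
    have := length_inv_mul_w0 (cs := cs) v
    omega

include A hcd in
theorem exists_ind (w : W) : ∃ g : G, Ind Δ c d g w := by
  obtain ⟨g, h1, h2⟩ := A.trans c d (apt Δ c d w) (apt Δ c d (w * w0 cs)) (by
    rw [apt_δ_mul Δ hcd, hcd])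
  exact ⟨g, (ind_iff A hcd g w).2 ⟨h1, h2⟩⟩

omit [Finite W] [Finite I] in
theorem Ind.mul {g h : G} {v w : W} (hg : Ind Δ c d g v) (hh : Ind Δ c d h w) :
    Ind Δ c d (g * h) (v * w) := fun u => by
  rw [mul_smul, hh, hg, mul_assoc]

omit [Finite W] [Finite I] in
theorem ind_one : Ind Δ c d (1 : G) 1 := fun u => by rw [one_smul, one_mul]

omit [Finite W] [Finite I] in
theorem Ind.inv {g : G} {v : W} (hg : Ind Δ c d g v) : Ind Δ c d g⁻¹ v⁻¹ := fun u => by
  have := hg (v⁻¹ * u)
  rw [mul_inv_cancel_left] at this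
  rw [← this, inv_smul_smul]

include hcd in
theorem Ind.smul_c {g : G} {v : W} (hg : Ind Δ c d g v) : g • c = apt Δ c d v := by
  have := hg 1
  rwa [apt_one Δ hcd, mul_one] at this

include hcd in
theorem Ind.δ_c {g : G} {v : W} (hg : Ind Δ c d g v) : Δ.δ c (g • c) = v := by
  rw [hg.smul_c hcd, δ_apt Δ hcd]

include hcd in
theorem Ind.unique {g : G} {v w : W} (hg : Ind Δ c d g v) (hh : Ind Δ c d g w) : v = w := by
  rw [← hg.δ_c hcd, hh.δ_c hcd]

/-- the stabiliser of the apartment -/
def N (Δ : Bldg cs C) (G : Type*) [Group G] [MulAction G C] (c d : C) : Subgroup G where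
  carrier := {g | ∃ w, Ind Δ c d g w}
  mul_mem' := by rintro a b ⟨v, hv⟩ ⟨w, hw⟩; exact ⟨_, hv.mul hw⟩
  one_mem' := ⟨1, ind_one⟩
  inv_mem' := by rintro a ⟨v, hv⟩; exact ⟨_, hv.inv⟩

omit [Finite W] [Finite I] in
theorem mem_N {g : G} : g ∈ N Δ G c d ↔ ∃ w, Ind Δ c d g w := Iff.rfl

/-- the representative of `w` in `N` -/
noncomputable def rep (w : W) : G := (exists_ind A hcd w).choose

theorem ind_rep (w : W) : Ind Δ c d (rep A hcd w) w := (exists_ind A hcd w).choose_spec

theorem rep_mem (w : W) : rep A hcd w ∈ N Δ G c d := ⟨w, ind_rep A hcd w⟩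

omit [Finite W] [Finite I] in
include A in
theorem mem_double_iff {g h : G} :
    g ∈ DoubleCoset.doubleCoset h (MulAction.stabilizer G c : Set G) (MulAction.stabilizer G c) ↔
      Δ.δ c (g • c) = Δ.δ c (h • c) := by
  rw [DoubleCoset.mem_doubleCoset]
  constructor
  · rintro ⟨a, ha, b, hb, rfl⟩
    have ha' : a • c = c := ha
    have hb' : b • c = c := hb
    rw [mul_smul, mul_smul, hb']
    nth_rw 1 [← ha']
    rw [A.iso]
  · intro hgh
    obtain ⟨a, h1, h2⟩ := A.trans c (h • c) c (g • c) hgh.symm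
    refine ⟨a, h1, (a * h)⁻¹ * g, ?_, by group⟩
    show ((a * h)⁻¹ * g) • c = c
    rw [mul_smul, inv_smul_eq_iff, mul_smul, h2]

/-- the (B,N)-pair -/
noncomputable def bnPair (hth : Δ.Thick) : Cfsg.BNPair G where
  B := MulAction.stabilizer G c
  N := N Δ G c d
  S := Set.range fun i : I => rep A hcd (cs.simple i)
  sup_eq_top := by
    rw [eq_top_iff]
    intro g _
    have h1 : Δ.δ c (g • c) = Δ.δ c (rep A hcd (Δ.δ c (g • c)) • c) := by
      rw [(ind_rep A hcd _).δ_c hcd]
    rw [← mem_double_iff A, DoubleCoset.mem_doubleCoset] at h1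
    obtain ⟨a, ha, b, hb, e⟩ := h1
    rw [e]
    have l1 : MulAction.stabilizer G c ≤ MulAction.stabilizer G c ⊔ N Δ G c d := le_sup_left
    have l2 : N Δ G c d ≤ MulAction.stabilizer G c ⊔ N Δ G c d := le_sup_right
    exact mul_mem (mul_mem (l1 ha) (l2 (rep_mem A hcd _))) (l1 hb)
  conj_mem := by
    rintro n ⟨w, hw⟩ t ⟨htB, v, hv⟩
    have hv1 : v = 1 := by
      rw [← hv.δ_c hcd, show t • c = c from htB, Δ.δ_self]
    subst hv1
    have := ((hw.mul hv).mul hw.inv).smul_c hcd
    rw [mul_one, mul_inv_cancel, apt_one Δ hcd] at this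
    exact this
  subset := by rintro _ ⟨i, rfl⟩; exact rep_mem A hcd _
  sq_mem := by
    rintro _ ⟨i, rfl⟩
    have := ((ind_rep A hcd (cs.simple i)).mul (ind_rep A hcd (cs.simple i))).smul_c hcd
    rw [cs.simple_mul_simple_self, apt_one Δ hcd] at this
    exact this
  inj := by
    rintro _ ⟨i, rfl⟩ _ ⟨j, rfl⟩ h
    have h1 := ((ind_rep A hcd (cs.simple i)).inv.mul (ind_rep A hcd (cs.simple j))).δ_c hcd
    rw [show ((rep A hcd (cs.simple i))⁻¹ * rep A hcd (cs.simple j)) • c = c from h, Δ.δ_self] at h1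
    have h2 : cs.simple j = cs.simple i := by
      rw [← one_mul (cs.simple j), ← mul_inv_cancel (cs.simple i), mul_assoc, ← h1, mul_one]
    show rep A hcd (cs.simple i) = rep A hcd (cs.simple j)
    rw [h2]
  closure_sup := by
    apply le_antisymm
    · rw [sup_le_iff, Subgroup.closure_le]
      exact ⟨by rintro _ ⟨i, rfl⟩; exact rep_mem A hcd _, inf_le_right⟩
    · rintro g ⟨w, hw⟩
      have key : ∀ ω : List I, ∃ k ∈ Subgroup.closure (Set.range fun i : I => rep A hcd (cs.simple i)),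
          Ind Δ c d k (cs.wordProd ω) := by
        intro ω
        induction ω with
        | nil => exact ⟨1, one_mem _, by rw [cs.wordProd_nil]; exact ind_one⟩
        | cons i ω ih =>
          obtain ⟨k, hk, h⟩ := ih
          refine ⟨rep A hcd (cs.simple i) * k, mul_mem (Subgroup.subset_closure ⟨i, rfl⟩) hk, ?_⟩
          rw [cs.wordProd_cons]
          exact (ind_rep A hcd _).mul h
      obtain ⟨ω, rfl⟩ := cs.wordProd_surjective w
      obtain ⟨k, hk, h⟩ := key ω
      have h1 := h.inv.mul hw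
      rw [inv_mul_cancel] at h1
      have h2 : k⁻¹ * g ∈ MulAction.stabilizer G c ⊓ N Δ G c d := by
        refine ⟨?_, 1, h1⟩
        have := h1.smul_c hcd
        rw [apt_one Δ hcd] at this
        exact this
      have : g = k * (k⁻¹ * g) := by group
      rw [this]
      exact mul_mem ((le_sup_left : Subgroup.closure _ ≤ _) hk)
        ((le_sup_right : MulAction.stabilizer G c ⊓ N Δ G c d ≤ _) h2)
  mul_mem_union := by
    rintro _ ⟨i, rfl⟩ n ⟨w, hn⟩ b hb
    have hbc : b • c = c := hb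
    set s := rep A hcd (cs.simple i) with hs
    have hi := ind_rep A hcd (cs.simple i)
    rw [← hs] at hi
    have h0 : Δ.δ c (n • c) = w := hn.δ_c hcd
    have h1 : Δ.δ c ((s * n) • c) = cs.simple i * w := (hi.mul hn).δ_c hcd
    have h2 : Δ.δ (s⁻¹ • c) c = cs.simple i := by
      rw [← A.iso s, smul_inv_smul, hi.δ_c hcd]
    have h3 : Δ.δ c ((b * n) • c) = w := by
      rw [mul_smul]
      nth_rw 1 [← hbc]
      rw [A.iso, h0]
    have h4 : Δ.δ c ((s * b * n) • c) = Δ.δ (s⁻¹ • c) ((b * n) • c) := by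
      rw [← A.iso s⁻¹, ← mul_smul]
      congr 2
      group
    rcases Δ.step_left h2 (z := (b * n) • c) with h | h
    · left
      rw [mem_double_iff A, h1, h4, h, h3]
    · right
      rw [mem_double_iff A, h0, h4, h, h3]
  conj_ne := by
    rintro _ ⟨i, rfl⟩ h
    set s := rep A hcd (cs.simple i) with hs
    have hi := ind_rep A hcd (cs.simple i)
    rw [← hs] at hi
    obtain ⟨y, z, hyz, hy, hz⟩ := hth c i
    have key : ∀ y, Δ.δ c y = cs.simple i → y = s • c := by
      intro y hy
      obtain ⟨b, h1, h2⟩ := A.trans c (s • c) c y (by rw [hi.δ_c hcd, hy])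
      have h3 : s * b * s ∈ (MulAction.stabilizer G c : Set G) := by
        rw [← h]; exact ⟨b, h1, rfl⟩
      have h4 : (s * b * s) • c = c := h3
      have h5 : s⁻¹ • c = s • c := by
        have := (hi.mul hi).smul_c hcd
        rw [cs.simple_mul_simple_self, apt_one Δ hcd, mul_smul] at this
        rw [inv_smul_eq_iff, this]
      rw [mul_smul, mul_smul, h2] at h4
      rw [← h5, ← h4, inv_smul_smul]
    exact hyz ((key y hy).trans (key z hz).symm)

theorem bnPair_B (hth : Δ.Thick) : (bnPair A hcd hth).B = MulAction.stabilizer G c := rfl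

theorem rep_simple_injective : Function.Injective fun i : I => rep A hcd (cs.simple i) := by
  intro i j h
  have h' : rep A hcd (cs.simple i) = rep A hcd (cs.simple j) := h
  have h1 := ind_rep A hcd (cs.simple i)
  rw [h'] at h1
  exact simple_injective (cs := cs) (h1.unique hcd (ind_rep A hcd (cs.simple j)))

theorem rank_bnPair (hth : Δ.Thick) : (bnPair A hcd hth).rank = Nat.card I :=
  Nat.card_congr (Equiv.ofInjective _ (rep_simple_injective A hcd)).symm

/-- the type of the pair -/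
theorem bnPair_irreducible (hth : Δ.Thick)
    (hconn : ∀ J : Set I, J.Nonempty → Jᶜ.Nonempty → ∃ i ∈ J, ∃ j ∈ Jᶜ, M i j ≠ 2) :
    (bnPair A hcd hth).Irreducible := by
  intro J hJ hne hne'
  obtain ⟨i, hi, j, hj, hij⟩ := hconn {i | rep A hcd (cs.simple i) ∈ J}
    (by
      obtain ⟨s, hs⟩ := hne
      obtain ⟨i, rfl⟩ := hJ hs
      exact ⟨i, hs⟩)
    (by
      obtain ⟨s, hs, hs'⟩ := hne'
      obtain ⟨i, rfl⟩ := hs
      exact ⟨i, hs'⟩)
  refine ⟨_, hi, _, ⟨⟨j, rfl⟩, hj⟩, fun h => hij ?_⟩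
  have e1 := ind_rep A hcd (cs.simple i)
  have e2 := ind_rep A hcd (cs.simple j)
  have h1 := (((e1.mul e2).mul e1.inv).mul e2.inv).δ_c hcd
  have h2 : ((rep A hcd (cs.simple i)) * (rep A hcd (cs.simple j)) * (rep A hcd (cs.simple i))⁻¹ *
    (rep A hcd (cs.simple j))⁻¹) • c = c := h
  have hne1 : i ≠ j := by rintro rfl; exact hj hi
  rw [h2, Δ.δ_self, cs.inv_simple, cs.inv_simple] at h1
  have h3 : (cs.simple i * cs.simple j) ^ 2 = 1 := by rw [pow_two, ← mul_assoc]; exact h1.symm
  have h4 := orderOf_dvd_of_pow_eq_one h3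
  rw [Cfsg.Agent.Tits.Generic.orderOf_eq] at h4
  have h5 : M i j ≠ 1 := M.off_diagonal i j hne1
  exact ((Nat.dvd_prime Nat.prime_two).1 h4).resolve_left h5

end Cfsg.Agent.ParSys.AptBN

end

section


/-!
# Bruhat decomposition for free (helper703, bb 10931 (0)), and the (B,N)-pair

Input: a Coxeter system, for each `w` ONE double coset `D w` of `B`, such that `D w (P i \ B) ⊆ D (w s_i)` if
`l(w s_i) > l(w)`; the `P i` generate; every panel has at least three chambers.
Output: the `D w` are a Bruhat decomposition, `G ⧸ B` is a building; if `W` is finite: a (B,N)-pair, of type `M`.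
-/

set_option autoImplicit false

namespace Cfsg.Agent.ParSys.Bruhat

open Cfsg.Agent.Tits.Core Cfsg.Agent.Tits.Core.Bldg

variable {I : Type*} {M : CoxeterMatrix I} {W : Type*} [Group W] {G : Type*} [Group G]

/-- For each `w` one double coset `D w`, increasing with the length. -/
structure Cosets (cs : CoxeterSystem M W) (B : Subgroup G) (P : I → Subgroup G) (D : W → Set G) : Prop where
  single : ∀ w, ∃ x, D w = DoubleCoset.doubleCoset x (B : Set G) B
  one : 1 ∈ D 1
  le : ∀ i, B ≤ P i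
  up : ∀ w i, cs.length w < cs.length (w * cs.simple i) → ∀ x ∈ D w, ∀ p ∈ P i, p ∉ B →
    x * p ∈ D (w * cs.simple i)
  gen : ⨆ i, P i = ⊤
  three : ∀ i, ∃ x ∈ P i, ∃ y ∈ P i, x ∉ B ∧ y ∉ B ∧ x⁻¹ * y ∉ B

namespace Cosets

variable {cs : CoxeterSystem M W} {B : Subgroup G} {P : I → Subgroup G} {D : W → Set G}
  (h : Cosets cs B P D)

include h

theorem nonempty (w : W) : (D w).Nonempty := by
  obtain ⟨x, hx⟩ := h.single w
  exact ⟨x, by rw [hx, DoubleCoset.mem_doubleCoset]; exact ⟨1, one_mem _, 1, one_mem _, by simp⟩⟩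

theorem exists_of_mem {w : W} {x y : G} (hx : x ∈ D w) (hy : y ∈ D w) :
    ∃ a ∈ B, ∃ b ∈ B, y = a * x * b := by
  obtain ⟨z, hz⟩ := h.single w
  rw [hz, DoubleCoset.mem_doubleCoset] at hx hy
  obtain ⟨a, ha, b, hb, rfl⟩ := hx
  obtain ⟨a', ha', b', hb', rfl⟩ := hy
  exact ⟨a' * a⁻¹, mul_mem ha' (inv_mem ha), b⁻¹ * b', mul_mem (inv_mem hb) hb', by group⟩

theorem mul_mem' {w : W} {x a b : G} (hx : x ∈ D w) (ha : a ∈ B) (hb : b ∈ B) : a * x * b ∈ D w := by
  obtain ⟨z, hz⟩ := h.single w
  rw [hz, DoubleCoset.mem_doubleCoset] at hx ⊢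
  obtain ⟨a', ha', b', hb', rfl⟩ := hx
  exact ⟨a * a', mul_mem ha ha', b' * b, mul_mem hb' hb, by group⟩

theorem mul_right {w : W} {x b : G} (hx : x ∈ D w) (hb : b ∈ B) : x * b ∈ D w := by
  have := h.mul_mem' hx (one_mem B) hb
  rwa [one_mul] at this

theorem mul_left {w : W} {x b : G} (hx : x ∈ D w) (hb : b ∈ B) : b * x ∈ D w := by
  have := h.mul_mem' hx hb (one_mem B)
  rwa [mul_one] at this

theorem eq_of_mem {v w : W} {x : G} (h1 : x ∈ D v) (h2 : x ∈ D w) : D v = D w := by
  ext y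
  constructor
  · intro hy
    obtain ⟨a, ha, b, hb, rfl⟩ := h.exists_of_mem h1 hy
    exact h.mul_mem' h2 ha hb
  · intro hy
    obtain ⟨a, ha, b, hb, rfl⟩ := h.exists_of_mem h2 hy
    exact h.mul_mem' h1 ha hb

theorem D_one : D 1 = (B : Set G) := by
  ext y
  constructor
  · intro hy
    obtain ⟨a, ha, b, hb, rfl⟩ := h.exists_of_mem h.one hy
    exact mul_mem (mul_mem ha (one_mem B)) hb
  · intro hy
    have := h.mul_right h.one hy
    rwa [one_mul] at this

theorem not_mem_simple {i : I} {p : G} (hp : p ∈ D (cs.simple i)) : p ∈ P i ∧ p ∉ B := by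
  obtain ⟨x, hx, -, -, hxB, -⟩ := h.three i
  have h1 := h.up 1 i (by rw [one_mul, cs.length_one, cs.length_simple]; omega) 1 h.one x hx hxB
  rw [one_mul, one_mul] at h1
  obtain ⟨a, ha, b, hb, rfl⟩ := h.exists_of_mem h1 hp
  refine ⟨mul_mem (mul_mem (h.le i ha) hx) (h.le i hb), fun h2 => hxB ?_⟩
  have e : x = a⁻¹ * (a * x * b) * b⁻¹ := by group
  rw [e]; exact mul_mem (mul_mem (inv_mem ha) h2) (inv_mem hb)

theorem mem_simple_iff {i : I} {p : G} : p ∈ D (cs.simple i) ↔ p ∈ P i ∧ p ∉ B := by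
  refine ⟨h.not_mem_simple, fun ⟨h1, h2⟩ => ?_⟩
  have := h.up 1 i (by rw [one_mul, cs.length_one, cs.length_simple]; omega) 1 h.one p h1 h2
  rwa [one_mul, one_mul] at this

/-- splitting off the last step -/
theorem split {w : W} {i : I} (hl : cs.length w < cs.length (w * cs.simple i)) {x : G}
    (hx : x ∈ D (w * cs.simple i)) : ∃ y ∈ D w, ∃ p ∈ P i, p ∉ B ∧ x = y * p := by
  obtain ⟨y, hy⟩ := h.nonempty w
  obtain ⟨p, hp, -, -, hpB, -⟩ := h.three i
  obtain ⟨a, ha, b, hb, rfl⟩ := h.exists_of_mem (h.up w i hl y hy p hp hpB) hx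
  refine ⟨a * y, h.mul_left hy ha, p * b, mul_mem hp (h.le i hb), fun h1 => hpB ?_, by group⟩
  have e : p = p * b * b⁻¹ := by group
  rw [e]; exact mul_mem h1 (inv_mem hb)

theorem up_left {i : I} (n : ℕ) : ∀ w, cs.length w = n → cs.length w < cs.length (cs.simple i * w) →
    ∀ x ∈ D w, ∀ p ∈ P i, p ∉ B → p * x ∈ D (cs.simple i * w) := by
  induction n with
  | zero =>
    intro w hw _ x hx p hp hpB
    rw [cs.length_eq_zero_iff] at hw
    subst hw
    rw [mul_one, h.mem_simple_iff]
    have hx' : x ∈ B := by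
      have : x ∈ (B : Set G) := by rw [← h.D_one]; exact hx
      exact this
    refine ⟨mul_mem hp (h.le i hx'), fun h1 => hpB ?_⟩
    have e : p = p * x * x⁻¹ := by group
    rw [e]; exact mul_mem h1 (inv_mem hx')
  | succ n ih =>
    intro w hw hl x hx p hp hpB
    have hne : w ≠ 1 := fun h1 => by rw [h1, cs.length_one] at hw; omega
    obtain ⟨j, hj⟩ := cs.exists_rightDescent_of_ne_one hne
    rw [cs.isRightDescent_iff] at hj
    set v := w * cs.simple j with hv
    have e : v * cs.simple j = w := by rw [hv, cs.simple_mul_simple_cancel_right]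
    have hx' : x ∈ D (v * cs.simple j) := by rw [e]; exact hx
    obtain ⟨y, hy, q, hq, hqB, rfl⟩ := h.split (by rw [e]; omega) hx'
    have l1 : cs.length (cs.simple i * w) = n + 2 := by
      rcases cs.length_simple_mul w i with h1 | h1 <;> omega
    have l2 : cs.length (cs.simple i * v) = n + 1 := by
      have := cs.length_simple_mul v i
      have h3 := cs.length_mul_simple (cs.simple i * v) j
      rw [mul_assoc, e] at h3
      omega
    have h1 := ih v (by omega) (by omega) y hy p hp hpB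
    have h2 := h.up (cs.simple i * v) j (by rw [mul_assoc, e]; omega) _ h1 q hq hqB
    rw [mul_assoc (cs.simple i), e, mul_assoc p] at h2
    exact h2

theorem inv_mem' (n : ℕ) : ∀ w, cs.length w = n → ∀ x ∈ D w, x⁻¹ ∈ D w⁻¹ := by
  induction n with
  | zero =>
    intro w hw x hx
    rw [cs.length_eq_zero_iff] at hw
    subst hw
    rw [inv_one, h.D_one]
    have hx' : x ∈ B := by
      have : x ∈ (B : Set G) := by rw [← h.D_one]; exact hx
      exact this
    exact inv_mem hx'
  | succ n ih =>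
    intro w hw x hx
    have hne : w ≠ 1 := fun h1 => by rw [h1, cs.length_one] at hw; omega
    obtain ⟨j, hj⟩ := cs.exists_rightDescent_of_ne_one hne
    rw [cs.isRightDescent_iff] at hj
    set v := w * cs.simple j with hv
    have e : v * cs.simple j = w := by rw [hv, cs.simple_mul_simple_cancel_right]
    have e' : cs.simple j * v⁻¹ = w⁻¹ := by
      have := congrArg (·⁻¹) e
      simpa [mul_inv_rev] using this
    have hx' : x ∈ D (v * cs.simple j) := by rw [e]; exact hx
    obtain ⟨y, hy, q, hq, hqB, rfl⟩ := h.split (by rw [e]; omega) hx'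
    rw [mul_inv_rev, ← e']
    exact h.up_left _ _ rfl (by rw [e', cs.length_inv, cs.length_inv]; omega) _ (ih v (by omega) y hy) _
      (inv_mem hq) (fun h1 => hqB (by simpa using inv_mem h1))

theorem inv_mem_iff {w : W} {x : G} (hx : x ∈ D w) : x⁻¹ ∈ D w⁻¹ := h.inv_mem' _ w rfl x hx

/-- multiplication by an element of `P i` -/
theorem mul_P {w : W} {i : I} {x p : G} (hx : x ∈ D w) (hp : p ∈ P i) :
    x * p ∈ D (w * cs.simple i) ∨ x * p ∈ D w := by
  by_cases hpB : p ∈ B
  · exact Or.inr (h.mul_right hx hpB)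
  rcases lt_or_gt_of_ne (cs.length_mul_simple_ne w i) with hl | hl
  · have e : w * cs.simple i * cs.simple i = w := cs.simple_mul_simple_cancel_right i
    have hx' : x ∈ D (w * cs.simple i * cs.simple i) := by rw [e]; exact hx
    obtain ⟨y, hy, q, hq, hqB, rfl⟩ := h.split (by rw [e]; exact hl) hx'
    by_cases hqp : q * p ∈ B
    · left
      rw [mul_assoc]; exact h.mul_right hy hqp
    · right
      have := h.up _ i (by rw [e]; exact hl) y hy (q * p) (mul_mem hq hp) hqp
      rwa [e, ← mul_assoc] at this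
  · exact Or.inl (h.up w i hl x hx p hp hpB)

theorem inj_aux (n : ℕ) : ∀ w w', cs.length w = n → cs.length w ≤ cs.length w' → D w = D w' → w = w' := by
  induction n using Nat.strong_induction_on with
  | _ n ih =>
    intro w w' hw hl heq
    rcases eq_or_ne w 1 with rfl | hne
    · by_contra hne'
      obtain ⟨i, hi⟩ := cs.exists_leftDescent_of_ne_one (Ne.symm hne')
      rw [cs.isLeftDescent_iff] at hi
      obtain ⟨y, hy⟩ := h.nonempty (cs.simple i * w')
      obtain ⟨a, ha, b, hb, haB, hbB, hab⟩ := h.three i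
      have e : cs.simple i * (cs.simple i * w') = w' := cs.simple_mul_simple_cancel_left i
      have key : ∀ p ∈ P i, p ∉ B → p * y ∈ B := by
        intro p hp hpB
        have h1 := h.up_left (i := i) _ (cs.simple i * w') rfl (by rw [e]; omega) y hy p hp hpB
        rw [e, ← heq, h.D_one] at h1
        exact h1
      have h1 := key a⁻¹ (inv_mem ha) (fun h2 => haB (by simpa using inv_mem h2))
      have h2 := key b⁻¹ (inv_mem hb) (fun h2 => hbB (by simpa using inv_mem h2))
      apply hab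
      have e2 : a⁻¹ * b = (a⁻¹ * y) * (b⁻¹ * y)⁻¹ := by group
      rw [e2]; exact mul_mem h1 (inv_mem h2)
    · obtain ⟨i, hi⟩ := cs.exists_rightDescent_of_ne_one hne
      rw [cs.isRightDescent_iff] at hi
      have e : w * cs.simple i * cs.simple i = w := cs.simple_mul_simple_cancel_right i
      obtain ⟨y, hy⟩ := h.nonempty (w * cs.simple i)
      obtain ⟨a, ha, -, -, haB, -⟩ := h.three i
      have h1 := h.up (w * cs.simple i) i (by rw [e]; omega) y hy a ha haB
      rw [e, heq] at h1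
      have l1 := cs.length_mul_simple w' i
      rcases h.mul_P h1 (inv_mem ha) with h2 | h2
      · rw [mul_inv_cancel_right] at h2
        have h3 := ih (cs.length (w * cs.simple i)) (by omega) _ _ rfl (by omega) (h.eq_of_mem hy h2)
        exact mul_right_cancel h3
      · rw [mul_inv_cancel_right] at h2
        have h3 := ih (cs.length (w * cs.simple i)) (by omega) _ _ rfl (by omega) (h.eq_of_mem hy h2)
        rw [← h3] at hl
        omega

/-- the double cosets are pairwise different -/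
theorem inj {v w : W} (e : D v = D w) : v = w := by
  rcases le_total (cs.length v) (cs.length w) with hl | hl
  · exact h.inj_aux _ v w rfl hl e
  · exact (h.inj_aux _ w v rfl hl e.symm).symm

theorem eq_of_mem_mem {v w : W} {x : G} (h1 : x ∈ D v) (h2 : x ∈ D w) : v = w := h.inj (h.eq_of_mem h1 h2)

theorem exists_mem (g : G) : ∃ w, g ∈ D w := by
  have hg : g ∈ Subgroup.closure (⋃ i, (P i : Set G)) := by
    rw [← Subgroup.iSup_eq_closure, h.gen]; exact Subgroup.mem_top g
  induction hg using Subgroup.closure_induction_right with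
  | one => exact ⟨1, h.one⟩
  | mul_right x hx y hy ih =>
    obtain ⟨w, hw⟩ := ih
    obtain ⟨i, hi⟩ := Set.mem_iUnion.1 hy
    rcases h.mul_P hw (show y ∈ P i from hi) with h1 | h1 <;> exact ⟨_, h1⟩
  | mul_inv_cancel x hx y hy ih =>
    obtain ⟨w, hw⟩ := ih
    obtain ⟨i, hi⟩ := Set.mem_iUnion.1 hy
    rcases h.mul_P hw (inv_mem (show y ∈ P i from hi)) with h1 | h1 <;> exact ⟨_, h1⟩

omit h in
open Classical in
/-- the type of an element -/
noncomputable def wt (D : W → Set G) (g : G) : W := if hg : ∃ w, g ∈ D w then hg.choose else 1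

theorem mem_wt (g : G) : g ∈ D (wt D g) := by
  unfold wt
  rw [dif_pos (h.exists_mem g)]
  exact (h.exists_mem g).choose_spec

theorem wt_eq_iff {g : G} {w : W} : wt D g = w ↔ g ∈ D w :=
  ⟨fun e => e ▸ h.mem_wt g, fun hg => h.eq_of_mem_mem (h.mem_wt g) hg⟩

theorem wt_mul {g a b : G} (ha : a ∈ B) (hb : b ∈ B) : wt D (a * g * b) = wt D g :=
  h.wt_eq_iff.2 (h.mul_mem' (h.mem_wt g) ha hb)

omit h in
/-- the Weyl distance -/
noncomputable def dist (B : Subgroup G) (D : W → Set G) (x y : G ⧸ B) : W := wt D (x.out⁻¹ * y.out)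

theorem dist_mk (a b : G) : dist B D (QuotientGroup.mk a) (QuotientGroup.mk b) = wt D (a⁻¹ * b) := by
  obtain ⟨u, hu⟩ := QuotientGroup.mk_out_eq_mul B a
  obtain ⟨v, hv⟩ := QuotientGroup.mk_out_eq_mul B b
  unfold dist
  rw [hu, hv, mul_inv_rev]
  have h1 : (u : G)⁻¹ * a⁻¹ * (b * v) = (u : G)⁻¹ * (a⁻¹ * b) * v := by group
  rw [h1, h.wt_mul (inv_mem u.2) v.2]

theorem dist_mk_eq_iff {a b : G} {w : W} :
    dist B D (QuotientGroup.mk a) (QuotientGroup.mk b) = w ↔ a⁻¹ * b ∈ D w := by
  rw [h.dist_mk, h.wt_eq_iff]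

/-- the building -/
noncomputable def bldg : Bldg cs (G ⧸ B) where
  δ := dist B D
  eq_one := by
    intro x y
    induction x using QuotientGroup.induction_on with | _ a =>
    induction y using QuotientGroup.induction_on with | _ b =>
    rw [h.dist_mk_eq_iff, h.D_one, QuotientGroup.eq]
    rfl
  symm := by
    intro x y
    induction x using QuotientGroup.induction_on with | _ a =>
    induction y using QuotientGroup.induction_on with | _ b =>
    rw [h.dist_mk_eq_iff, h.dist_mk]
    have := h.inv_mem_iff (h.mem_wt (a⁻¹ * b))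
    rwa [mul_inv_rev, inv_inv] at this
  step := by
    intro x y z i hyz
    induction x using QuotientGroup.induction_on with | _ a =>
    induction y using QuotientGroup.induction_on with | _ b =>
    induction z using QuotientGroup.induction_on with | _ c =>
    rw [h.dist_mk_eq_iff] at hyz
    rw [h.dist_mk_eq_iff, h.dist_mk_eq_iff, h.dist_mk]
    have := h.mul_P (h.mem_wt (a⁻¹ * b)) (h.mem_simple_iff.1 hyz).1
    have e : a⁻¹ * b * (b⁻¹ * c) = a⁻¹ * c := by group
    rwa [e] at this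
  step_lt := by
    intro x y z i hyz hl
    induction x using QuotientGroup.induction_on with | _ a =>
    induction y using QuotientGroup.induction_on with | _ b =>
    induction z using QuotientGroup.induction_on with | _ c =>
    rw [h.dist_mk_eq_iff, h.mem_simple_iff] at hyz
    rw [h.dist_mk] at hl
    rw [h.dist_mk_eq_iff, h.dist_mk]
    have := h.up _ i hl _ (h.mem_wt (a⁻¹ * b)) _ hyz.1 hyz.2
    have e : a⁻¹ * b * (b⁻¹ * c) = a⁻¹ * c := by group
    rwa [e] at this
  exists_step := by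
    intro x y i
    induction x using QuotientGroup.induction_on with | _ a =>
    induction y using QuotientGroup.induction_on with | _ b =>
    rw [h.dist_mk]
    set w := wt D (a⁻¹ * b) with hw
    have hm := h.mem_wt (a⁻¹ * b)
    rw [← hw] at hm
    rcases lt_or_gt_of_ne (cs.length_mul_simple_ne w i) with hl | hl
    · have e : w * cs.simple i * cs.simple i = w := cs.simple_mul_simple_cancel_right i
      have hx' : a⁻¹ * b ∈ D (w * cs.simple i * cs.simple i) := by rw [e]; exact hm
      obtain ⟨y, hy, q, hq, hqB, e2⟩ := h.split (by rw [e]; exact hl) hx'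
      refine ⟨QuotientGroup.mk (a * y), ?_, ?_⟩
      · rw [h.dist_mk_eq_iff, h.mem_simple_iff]
        have e3 : b⁻¹ * (a * y) = q⁻¹ := by
          have : b = a * (y * q) := by rw [← e2]; group
          rw [this]; group
        rw [e3]
        exact ⟨inv_mem hq, fun h1 => hqB (by simpa using inv_mem h1)⟩
      · rw [h.dist_mk_eq_iff, inv_mul_cancel_left]; exact hy
    · obtain ⟨p, hp, -, -, hpB, -⟩ := h.three i
      refine ⟨QuotientGroup.mk (b * p), ?_, ?_⟩
      · rw [h.dist_mk_eq_iff, inv_mul_cancel_left, h.mem_simple_iff]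
        exact ⟨hp, hpB⟩
      · rw [h.dist_mk_eq_iff, ← mul_assoc]
        exact h.up w i hl _ hm p hp hpB

theorem bldg_δ (a b : G) (w : W) :
    h.bldg.δ (QuotientGroup.mk a) (QuotientGroup.mk b) = w ↔ a⁻¹ * b ∈ D w := h.dist_mk_eq_iff

theorem act : AptBN.Act h.bldg G where
  iso := by
    intro g x y
    induction x using QuotientGroup.induction_on with | _ a =>
    induction y using QuotientGroup.induction_on with | _ b =>
    show dist B D (QuotientGroup.mk (g * a)) (QuotientGroup.mk (g * b)) = dist B D _ _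
    rw [h.dist_mk, h.dist_mk]
    congr 1; group
  trans := by
    intro x y x' y' e
    induction x using QuotientGroup.induction_on with | _ a =>
    induction y using QuotientGroup.induction_on with | _ b =>
    induction x' using QuotientGroup.induction_on with | _ a' =>
    induction y' using QuotientGroup.induction_on with | _ b' =>
    have e' : dist B D (QuotientGroup.mk a) (QuotientGroup.mk b) =
      dist B D (QuotientGroup.mk a') (QuotientGroup.mk b') := e
    rw [h.dist_mk_eq_iff, h.dist_mk] at e'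
    obtain ⟨u, hu, v, hv, e2⟩ := h.exists_of_mem e' (h.mem_wt (a'⁻¹ * b'))
    refine ⟨a' * u * a⁻¹, ?_, ?_⟩
    · show (QuotientGroup.mk (a' * u * a⁻¹ * a) : G ⧸ B) = QuotientGroup.mk a'
      rw [QuotientGroup.eq]
      have : (a' * u * a⁻¹ * a)⁻¹ * a' = u⁻¹ := by group
      rw [this]; exact inv_mem hu
    · show (QuotientGroup.mk (a' * u * a⁻¹ * b) : G ⧸ B) = QuotientGroup.mk b'
      rw [QuotientGroup.eq]
      have h1 : b' = a' * (u * (a⁻¹ * b) * v) := by rw [← e2]; group
      have : (a' * u * a⁻¹ * b)⁻¹ * b' = v := by rw [h1]; group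
      rw [this]; exact hv

theorem thick : h.bldg.Thick := by
  intro x i
  induction x using QuotientGroup.induction_on with | _ a =>
  obtain ⟨p, hp, q, hq, hpB, hqB, hpq⟩ := h.three i
  refine ⟨QuotientGroup.mk (a * p), QuotientGroup.mk (a * q), fun e => hpq ?_, ?_, ?_⟩
  · rw [QuotientGroup.eq] at e
    have e2 : (a * p)⁻¹ * (a * q) = p⁻¹ * q := by group
    rwa [e2] at e
  · rw [h.bldg_δ, inv_mul_cancel_left, h.mem_simple_iff]; exact ⟨hp, hpB⟩
  · rw [h.bldg_δ, inv_mul_cancel_left, h.mem_simple_iff]; exact ⟨hq, hqB⟩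

/-- THE (B,N)-PAIR: no torus needed. -/
theorem exists_bnPair [Finite W] [Finite I] :
    ∃ Q : Cfsg.BNPair G, Q.B = B ∧ Q.rank = Nat.card I ∧
      (∃ e : I ≃ Q.S, ∀ i, (e i : G) ∈ P i) ∧
      ((∀ J : Set I, J.Nonempty → Jᶜ.Nonempty → ∃ i ∈ J, ∃ j ∈ Jᶜ, M i j ≠ 2) → Q.Irreducible) := by
  obtain ⟨d, hd⟩ := h.bldg.exists_δ (QuotientGroup.mk 1 : G ⧸ B) (w0 cs)
  have hcd : h.bldg.Opp (QuotientGroup.mk 1 : G ⧸ B) d := hd
  refine ⟨AptBN.bnPair h.act hcd h.thick, ?_, AptBN.rank_bnPair h.act hcd h.thick,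
    ⟨Equiv.ofInjective _ (AptBN.rep_simple_injective h.act hcd), fun i => ?_⟩,
    AptBN.bnPair_irreducible h.act hcd h.thick⟩
  · rw [AptBN.bnPair_B]
    exact MulAction.stabilizer_quotient B
  · have h1 := (AptBN.ind_rep h.act hcd (cs.simple i)).δ_c hcd
    have h2 : h.bldg.δ (QuotientGroup.mk 1 : G ⧸ B)
      (QuotientGroup.mk (AptBN.rep h.act hcd (cs.simple i) * 1)) = cs.simple i := h1
    rw [h.bldg_δ, inv_one, one_mul, mul_one] at h2
    exact (h.mem_simple_iff.1 h2).1

end Cosets

end Cfsg.Agent.ParSys.Bruhat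

end

section


/-!
# THEOREM FREE (bb #11242)

(1) an automorphism `g` of a chamber system with generalised polygons as residues of rank two which fixes a gallery of
type `w0` and which fixes a panel pointwise as soon as it fixes two of its chambers is the identity.
(2) hence, if `|U| = q_{w0}`, `U` is transitive on the galleries of reduced type from `B`, and there is a
(B,N)-pair.
-/

set_option autoImplicit false

namespace Cfsg.Agent.ParSys.Free

open Cfsg.Agent.ParSys

variable {C I : Type*} {A : I → C → C → Prop} {m : I → I → ℕ}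

/-! ### Fixed galleries -/

/-- `g` fixes all chambers of a gallery of type `f` from `c` to `d` -/
def FG (A : I → C → C → Prop) (g : C → C) (f : List I) (c d : C) : Prop :=
  g c = c ∧ ∃ l, IsGal A f c l ∧ (∀ x ∈ l, g x = x) ∧ l.getLastD c = d

variable {g : C → C}

theorem fix_getLastD {c : C} {l : List C} (hc : g c = c) (hl : ∀ x ∈ l, g x = x) : g (l.getLastD c) = l.getLastD c := by
  induction l generalizing c with
  | nil => exact hc
  | cons d l ih =>
    rw [List.getLastD_cons]
    exact ih (hl d (by simp)) fun x hx => hl x (by simp [hx])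

theorem FG.left {f : List I} {c d : C} (h : FG A g f c d) : g c = c := h.1

theorem FG.right {f : List I} {c d : C} (h : FG A g f c d) : g d = d := by
  obtain ⟨hc, l, -, hl, rfl⟩ := h
  exact fix_getLastD hc hl

theorem fg_append {u v : List I} {c d : C} : FG A g (u ++ v) c d ↔ ∃ e, FG A g u c e ∧ FG A g v e d := by
  constructor
  · rintro ⟨hc, l, hl, hfix, rfl⟩
    obtain ⟨l₁, l₂, rfl, h1, h2⟩ := isGal_append.1 hl
    have hf1 : ∀ x ∈ l₁, g x = x := fun x hx => hfix x (by simp [hx])
    exact ⟨_, ⟨hc, l₁, h1, hf1, rfl⟩, fix_getLastD hc hf1, l₂, h2, fun x hx => hfix x (by simp [hx]),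
      (getLastD_append _ _ _).symm⟩
  · rintro ⟨_, ⟨hc, l₁, h1, hf1, rfl⟩, -, l₂, h2, hf2, rfl⟩
    refine ⟨hc, l₁ ++ l₂, h1.append h2, ?_, getLastD_append _ _ _⟩
    intro x hx
    rcases List.mem_append.1 hx with hx | hx
    · exact hf1 x hx
    · exact hf2 x hx

theorem fg_cons {i : I} {f : List I} {c d : C} :
    FG A g (i :: f) c d ↔ ∃ e, (g c = c ∧ A i c e) ∧ FG A g f e d := by
  constructor
  · rintro ⟨hc, l, hl, hfix, rfl⟩
    obtain ⟨e, l', rfl, h1, h2⟩ := isGal_cons_iff.1 hl
    exact ⟨e, ⟨hc, h1⟩, hfix e (by simp), l', h2, fun x hx => hfix x (by simp [hx]), List.getLastD_cons.symm⟩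
  · rintro ⟨e, ⟨hc, h1⟩, he, l, hl, hfix, rfl⟩
    refine ⟨hc, e :: l, ⟨h1, hl⟩, ?_, List.getLastD_cons⟩
    intro x hx
    rcases List.mem_cons.1 hx with rfl | hx
    · exact he
    · exact hfix x hx

theorem fg_nil {c d : C} : FG A g [] c d ↔ g c = c ∧ c = d := by
  constructor
  · rintro ⟨hc, l, hl, -, rfl⟩
    rw [isGal_nil_iff] at hl
    subst hl
    exact ⟨hc, rfl⟩
  · rintro ⟨hc, rfl⟩
    exact ⟨hc, [], by simp, by simp, rfl⟩

theorem fg_snoc {i : I} {f : List I} {c d : C} :
    FG A g (f ++ [i]) c d ↔ ∃ e, FG A g f c e ∧ A i e d ∧ g d = d := by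
  rw [fg_append]
  constructor
  · rintro ⟨e, h1, h2⟩
    obtain ⟨e', ⟨-, h3⟩, h4⟩ := fg_cons.1 h2
    obtain ⟨h5, rfl⟩ := fg_nil.1 h4
    exact ⟨e, h1, h3, h5⟩
  · rintro ⟨e, h1, h2, h3⟩
    exact ⟨e, h1, fg_cons.2 ⟨d, ⟨h1.right, h2⟩, fg_nil.2 ⟨h3, rfl⟩⟩⟩

variable (hC : Cham A m) (hg : ∀ i c d, A i c d → A i (g c) (g d))
include hC hg

/-- the braid move: the unique gallery of the other type with the same ends is fixed too -/
theorem FG.braid {i j : I} (hij : i ≠ j) {c d : C} (h : FG A g (alt i j (m i j)) c d) :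
    FG A g (alt j i (m i j)) c d := by
  obtain ⟨hc, l, hl, hfix, rfl⟩ := h
  obtain ⟨l', ⟨h1, h2⟩, huniq⟩ := hC.gp i j hij c l hl
  have h3 : l'.map g = l' := by
    apply huniq
    have h4 := h1.map hg
    rw [hc] at h4
    refine ⟨h4, ?_⟩
    have h5 := getLastD_map g c l'
    rw [hc] at h5
    rw [h5, h2, fix_getLastD hc hfix]
  refine ⟨hc, l', h1, ?_, h2⟩
  intro x hx
  obtain ⟨n, hn, rfl⟩ := List.getElem_of_mem hx
  have h6 : (l'.map g)[n]'(by simpa using hn) = l'[n] := by simp only [h3]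
  rwa [List.getElem_map] at h6

theorem FG.br {f f' : List I} (h : Br m f f') {c d : C} (hf : FG A g f c d) : FG A g f' c d := by
  induction h with
  | refl f => exact hf
  | move u v i j g' hij _ ih =>
    have h1 := ih hf
    rw [fg_append, ] at h1 ⊢
    obtain ⟨e, h2, h3⟩ := h1
    rw [fg_append] at h2
    obtain ⟨e', h4, h5⟩ := h2
    exact ⟨e, fg_append.2 ⟨e', h4, FG.braid hC hg hij h5⟩, h3⟩

/-- the property 'fixes a gallery of type `F` from `c`' spreads to the neighbours -/
theorem spread (hm : ∀ i j, m i j = m j i)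
    (hpan : ∀ i c d e, g c = c → g d = d → A i c d → A i c e → g e = e) {F : List I}
    (hF : ∀ i, ∃ f i', Br m F (i :: f) ∧ Br m F (f ++ [i'])) {c d : C} (h : FG A g F c d) {i : I} {x : C}
    (hx : A i c x) : ∃ d', FG A g F x d' := by
  obtain ⟨f, i', hf1, hf2⟩ := hF i
  have h1 := FG.br hC hg hf1 h
  obtain ⟨c1, ⟨hc, h2⟩, h3⟩ := fg_cons.1 h1
  have hgx : g x = x := hpan i c c1 x hc h3.left h2 hx
  by_cases hxc : x = c1
  · subst hxc
    have h4 := FG.br hC hg hf2 h
    obtain ⟨e, h5, h6, h7⟩ := fg_snoc.1 h4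
    refine ⟨e, FG.br hC hg (hf2.symm hm) (fg_snoc.2 ⟨d, h3, hC.symm h6, h5.right⟩)⟩
  · refine ⟨d, FG.br hC hg (hf1.symm hm) (fg_cons.2 ⟨c1, ⟨hgx, hC.trans hx h2 hxc⟩, h3⟩)⟩

/-- **THEOREM FREE (1)** -/
theorem fix_all (hm : ∀ i j, m i j = m j i)
    (hpan : ∀ i c d e, g c = c → g d = d → A i c d → A i c e → g e = e) {F : List I}
    (hF : ∀ i, ∃ f i', Br m F (i :: f) ∧ Br m F (f ++ [i'])) {c d : C} (h : FG A g F c d) {x : C}
    (hconn : Relation.ReflTransGen (fun y z => ∃ i, A i y z) c x) : g x = x := by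
  have key : ∃ d', FG A g F x d' := by
    induction hconn with
    | refl => exact ⟨d, h⟩
    | tail _ hbc ih =>
      obtain ⟨d', hd'⟩ := ih
      obtain ⟨i, hi⟩ := hbc
      exact spread hC hg hm hpan hF hd' hi
  exact key.choose_spec.left

end Cfsg.Agent.ParSys.Free

end

section


/-!
# The Bruhat decomposition for free: words

`B ≤ P i ≤ G`, `cs : CoxeterSystem M W` (`W` an arbitrary Coxeter group with finitely many simple reflections).
`E f = (P i₁ \ B) (P i₂ \ B) ⋯ (P iₖ \ B) B` for a word `f = i₁ … iₖ`.  If `E f` is one double coset of `B` for every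
reduced word `f`, if the panels are thick and if the words `i j i …`, `j i j …` of length `M i j` give the same set, then
`C w = E f`, `w = π f`, does not depend on the reduced word `f` (Matsumoto) and is a `Cosets` structure of
`ParSys/Bruhat.lean`: the `C w` are pairwise different, they cover `G = ⟨P i⟩`, `G ⧸ B` is a thick building, `W` is finite
if `G` is, and `G` has a (B,N)-pair.
-/

set_option autoImplicit false
set_option linter.unusedSectionVars false

namespace Cfsg.Agent.ParSys.Words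

open scoped Pointwise

/-! ### Coxeter groups -/

section order

open Cfsg.Agent.LieRecognition.CoxForm

variable {A : Type*} [Fintype A] [DecidableEq A] {M : CoxeterMatrix A} {W : Type*} [Group W]
  (cs : CoxeterSystem M W)

theorem eq_zero_of_pow (a b : A) (h0 : M a b = 0) {n : ℕ} (hpow : (cs.simple a * cs.simple b) ^ n = 1) :
    n = 0 := by
  have hab : a ≠ b := by
    rintro rfl
    rw [M.diagonal] at h0
    exact one_ne_zero h0
  have hK : K M a b = -1 := by simp [K, h0]
  have key : ∀ k : ℕ, ((sg M a * sg M b) ^ k) (bs a) = bs a + (2 * k : ℝ) • (bs a + bs b) := by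
    intro k
    induction k with
    | zero => simp
    | succ k ih =>
      rw [pow_succ', Module.End.mul_apply, ih, step_eq M a b 1 hK]
      simp only [map_add, map_smul, fn_bs, K_self, hK, K_symm M b a, smul_eq_mul]
      ext d
      simp only [Pi.add_apply, Pi.smul_apply, smul_eq_mul]
      push_cast
      ring
  have h1 : (sg M a * sg M b) ^ n = 1 := by
    rw [← rep_simple cs a, ← rep_simple cs b, ← map_mul, ← map_pow, hpow, map_one]
  have h2 := key n
  rw [h1, Module.End.one_apply] at h2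
  have h3 := congrFun h2 b
  simpa [bs, hab.symm] using h3

/-- `s_a s_b` has order `M a b` (`0` means infinite order). -/
theorem orderOf_eq_aux (a b : A) : orderOf (cs.simple a * cs.simple b) = M a b := by
  apply Nat.dvd_antisymm
  · exact orderOf_dvd_of_pow_eq_one (cs.simple_mul_simple_pow a b)
  by_cases hab : a = b
  · subst hab
    rw [M.diagonal]
    exact one_dvd _
  by_cases h0 : M a b = 0
  · rw [eq_zero_of_pow cs a b h0 (pow_orderOf_eq_one _)]
    exact dvd_zero _
  have h1 := M.off_diagonal a b hab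
  have hm : 2 ≤ M a b := by omega
  have hK : K M a b = - Real.cos (Real.pi / M a b) := by simp [K, h0]
  set n := orderOf (cs.simple a * cs.simple b) with hn
  have hpow : (sg M a * sg M b) ^ n = 1 := by
    rw [← rep_simple cs a, ← rep_simple cs b, ← map_mul, ← map_pow, hn, pow_orderOf_eq_one, map_one]
  rcases Nat.eq_or_lt_of_le hm with h2 | h3
  · -- m = 2
    have hc0 : Real.cos (Real.pi / M a b) = 0 := by
      rw [← h2]; push_cast; exact Real.cos_pi_div_two
    have key : ∀ k : ℕ, fn M a (((sg M a * sg M b) ^ k) (bs a)) = (-1) ^ k := by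
      intro k
      induction k with
      | zero => simp [fn_bs, K_self]
      | succ k ih =>
        rw [pow_succ', Module.End.mul_apply, fn_a_step M a b _ hK, ih, hc0]
        ring
    have := key n
    rw [hpow, Module.End.one_apply, fn_bs, K_self] at this
    rw [← h2]
    have hev : Even n := by
      by_contra ho
      rw [Nat.not_even_iff_odd] at ho
      rw [ho.neg_one_pow] at this
      norm_num at this
    exact hev.two_dvd
  · have hpi := Real.pi_pos
    have hm' : (3 : ℝ) ≤ M a b := by exact_mod_cast h3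
    set θ := Real.pi / M a b with hθ
    have hp1 : 0 < θ := by positivity
    have h4 : 2 * θ < Real.pi := by
      rw [hθ, ← mul_div_assoc, div_lt_iff₀ (by positivity)]
      nlinarith
    have hpos := Real.sin_pos_of_pos_of_lt_pi (by linarith : 0 < 2 * θ) h4
    have hs := rec_sol (fun k => fn M a (((sg M a * sg M b) ^ k) (bs a))) θ
      (rec_a M a b (Real.cos θ) hK (bs a)) n
    simp only [hpow, Module.End.one_apply, pow_zero, pow_one, fn_bs, K_self,
      fn_a_step M a b (Real.cos θ) hK, K_symm M b a, hK] at hs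
    have hcos : Real.cos (2 * n * θ) = 1 := by
      have e : (-1 : ℝ) - 2 * Real.cos θ * -Real.cos θ = Real.cos (2 * θ) := by
        rw [Real.cos_two_mul]; ring
      rw [e, Real.sin_sub] at hs
      have : (Real.cos (2 * n * θ) - 1) * Real.sin (2 * θ) = 0 := by linear_combination -hs
      rcases mul_eq_zero.1 this with h | h
      · linarith
      · exact absurd h hpos.ne'
    rw [Real.cos_eq_one_iff] at hcos
    obtain ⟨z, hz⟩ := hcos
    have hz' : (z : ℝ) * (M a b : ℝ) = n := by
      have h5 : (z : ℝ) * (2 * Real.pi) = 2 * n * (Real.pi / M a b) := by rw [hz]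
      have hM0 : (M a b : ℝ) ≠ 0 := by positivity
      field_simp at h5
      linarith
    have hz2 : z * (M a b : ℤ) = (n : ℤ) := by exact_mod_cast hz'
    have : (M a b : ℤ) ∣ (n : ℤ) := ⟨z, by rw [← hz2, mul_comm]⟩
    exact_mod_cast this

end order

section cox

open Cfsg.Agent.LieExceptional

variable {I : Type*} {M : CoxeterMatrix I} {W : Type*} [Group W] (cs : CoxeterSystem M W)

theorem orderOf_eq [Finite I] (a b : I) : orderOf (cs.simple a * cs.simple b) = M a b := by
  classical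
  have := Fintype.ofFinite I
  exact orderOf_eq_aux cs a b

theorem simple_injective [Finite I] : Function.Injective cs.simple := by
  intro i j h
  by_contra hij
  have h1 := orderOf_eq cs i j
  rw [h, cs.simple_mul_simple_self, orderOf_one] at h1
  exact M.off_diagonal i j hij h1.symm

theorem isRed_iff {f : List I} : CoxeterExchange.IsRed cs.simple f ↔ cs.IsReduced f := by
  constructor
  · intro h
    obtain ⟨g, hg, e⟩ := cs.exists_isReduced (cs.wordProd f)
    have h1 := h g e.symm
    refine le_antisymm (cs.length_wordProd_le f) ?_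
    rw [e, hg.eq]
    exact h1
  · intro h g e
    have e' : cs.wordProd g = cs.wordProd f := e
    rw [← h.eq, ← e']
    exact cs.length_wordProd_le g

theorem exchange : CoxeterExchange.Exchange cs.simple := by
  intro b f hf hbf
  rw [isRed_iff] at hf hbf
  have hlt : cs.length (cs.simple b * cs.wordProd f) < cs.length (cs.wordProd f) := by
    rcases cs.length_simple_mul (cs.wordProd f) b with h | h
    · exfalso
      apply hbf
      show cs.length (cs.wordProd (b :: f)) = (b :: f).length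
      rw [cs.wordProd_cons, h, hf.eq, List.length_cons]
    · omega
  obtain ⟨j, hj, e⟩ := Tits.Exchange.exchange_left cs hlt
  refine ⟨f.take j, f[j], f.drop (j + 1), ?_, ?_⟩
  · rw [List.getElem_cons_drop, List.take_append_drop]
  · show cs.simple b * cs.wordProd (f.take j) = cs.wordProd (f.take j) * cs.simple f[j]
    have e1 : cs.wordProd f
        = cs.wordProd (f.take j) * (cs.simple f[j] * cs.wordProd (f.drop (j + 1))) := by
      rw [← cs.wordProd_cons, List.getElem_cons_drop, ← cs.wordProd_append, List.take_append_drop]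
    rw [List.eraseIdx_eq_take_drop_succ, cs.wordProd_append, e1] at e
    have e2 : cs.simple b * cs.wordProd (f.take j) * cs.simple f[j] = cs.wordProd (f.take j) := by
      have := congrArg (· * (cs.wordProd (f.drop (j + 1)))⁻¹) e
      simpa [mul_assoc] using this
    rw [← mul_assoc] at *
    calc cs.simple b * cs.wordProd (f.take j)
        = cs.simple b * cs.wordProd (f.take j) * cs.simple f[j] * cs.simple f[j] := by
          rw [mul_assoc _ (cs.simple f[j]), cs.simple_mul_simple_self, mul_one]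
      _ = cs.wordProd (f.take j) * cs.simple f[j] := by rw [e2]

theorem alt_eq (a b : I) (k : ℕ) : CoxeterExchange.alt a b k = alt a b k := by
  induction k generalizing a b with
  | zero => rfl
  | succ k ih => rw [CoxeterExchange.alt_succ, ih, alt_cons]

/-- Matsumoto's theorem: a map which satisfies the braid relations has the same value on the reduced words of an
element of an arbitrary Coxeter group (with finitely many simple reflections). -/
theorem matsumoto [Finite I] {H : Type*} [Monoid H] (d : I → H)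
    (hd : ∀ i j, i ≠ j → M i j ≠ 0 → ((alt i j (M i j)).map d).prod = ((alt j i (M i j)).map d).prod)
    {f g : List I} (hf : cs.IsReduced f) (hg : cs.IsReduced g) (e : cs.wordProd f = cs.wordProd g) :
    (f.map d).prod = (g.map d).prod := by
  refine CoxeterExchange.matsumoto (σ := cs.simple) cs.simple_mul_simple_self (simple_injective cs)
    (exchange cs) d ?_ f.length f g rfl ?_ ((isRed_iff cs).2 hf) e
  · intro i j hij hpos
    rw [orderOf_eq] at hpos ⊢
    rw [alt_eq, alt_eq]
    exact hd i j hij hpos.ne'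
  · rw [← hg.eq, ← e, hf.eq]

theorem length_alt (a b : I) (k : ℕ) : (alt a b k).length = k := by
  rw [← alt_eq, CoxeterExchange.length_alt]

/-- The alternating words of length at most `M i j` are reduced. -/
theorem isReduced_alt [Finite I] {i j : I} {k : ℕ} (hk : M i j ≠ 0 → k ≤ M i j) : cs.IsReduced (alt i j k) := by
  induction k generalizing i j with
  | zero =>
    show cs.length (cs.wordProd []) = 0
    rw [cs.wordProd_nil, cs.length_one]
  | succ k ih =>
    have h1 : cs.IsReduced (alt j i k) := ih fun h0 => by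
      rw [M.symmetric j i] at h0 ⊢
      have := hk h0
      omega
    by_contra hn
    rw [← isRed_iff] at h1 hn
    obtain ⟨u, a, v, e1, e2⟩ := exchange cs i (alt j i k) h1 hn
    have hl := congrArg List.length e1
    rw [length_alt, List.length_append, List.length_cons] at hl
    obtain ⟨v', hv'⟩ := alt_prefix j i (k := u.length + 1) (l := k) (by omega)
    have e3 : (u ++ [a]) ++ v = alt j i (u.length + 1) ++ v' := by
      rw [← hv', e1, List.append_assoc, List.singleton_append]
    have e4 := (List.append_inj e3 (by rw [length_alt, List.length_append, List.length_singleton])).1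
    have e5 := (List.append_inj (e4.trans (alt_snoc j i u.length)) (by rw [length_alt])).1
    have e6 : CoxeterExchange.wp cs.simple (CoxeterExchange.alt i j (u.length + 1))
        = CoxeterExchange.wp cs.simple (CoxeterExchange.alt j i (u.length + 1)) := by
      rw [alt_eq, alt_eq, ← e4, alt_cons, CoxeterExchange.wp_cons, CoxeterExchange.wp_append, ← e5, e2,
        CoxeterExchange.wp_cons, CoxeterExchange.wp_nil, mul_one]
    have e7 := (CoxeterExchange.pow_eq_one_iff (σ := cs.simple) cs.simple_mul_simple_self _).2 e6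
    have e8 := orderOf_dvd_of_pow_eq_one e7
    rw [orderOf_eq] at e8
    by_cases h0 : M i j = 0
    · rw [h0, zero_dvd_iff] at e8
      omega
    · have := hk h0
      have := Nat.le_of_dvd (by omega) e8
      omega

end cox

/-! ### Words of double cosets -/

section words

variable {G : Type*} [Group G] {I : Type*}

/-- `P i` without `B` -/
def D (B : Subgroup G) (P : I → Subgroup G) (i : I) : Set G := {x | x ∈ P i ∧ x ∉ B}

/-- the ends of the galleries of type `f` which start in `B` -/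
def E (B : Subgroup G) (P : I → Subgroup G) (f : List I) : Set G := (f.map (D B P)).prod * (B : Set G)

variable {B : Subgroup G} {P : I → Subgroup G}

theorem mem_D {i : I} {x : G} : x ∈ D B P i ↔ x ∈ P i ∧ x ∉ B := Iff.rfl

theorem B_mul_B : (B : Set G) * (B : Set G) = B := by
  ext x
  constructor
  · rintro ⟨a, ha, b, hb, rfl⟩
    exact mul_mem ha hb
  · intro hx
    exact ⟨x, hx, 1, one_mem _, mul_one x⟩

theorem inv_mem_D {i : I} {x : G} (hx : x ∈ D B P i) : x⁻¹ ∈ D B P i :=
  ⟨inv_mem hx.1, fun h => hx.2 (by simpa using inv_mem h)⟩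

theorem inv_D (i : I) : (D B P i)⁻¹ = D B P i := by
  ext x
  rw [Set.mem_inv]
  exact ⟨fun h => by simpa using inv_mem_D h, inv_mem_D⟩

theorem mul_mem_D (hBP : ∀ i, B ≤ P i) {i : I} {x b : G} (hx : x ∈ D B P i) (hb : b ∈ B) : x * b ∈ D B P i :=
  ⟨mul_mem hx.1 (hBP i hb), fun h => hx.2 (by simpa using mul_mem h (inv_mem hb))⟩

theorem mul_mem_D' (hBP : ∀ i, B ≤ P i) {i : I} {x b : G} (hx : x ∈ D B P i) (hb : b ∈ B) : b * x ∈ D B P i :=
  ⟨mul_mem (hBP i hb) hx.1, fun h => hx.2 (by simpa using mul_mem (inv_mem hb) h)⟩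

theorem D_mul_B (hBP : ∀ i, B ≤ P i) (i : I) : D B P i * (B : Set G) = D B P i := by
  ext x
  constructor
  · rintro ⟨a, ha, b, hb, rfl⟩
    exact mul_mem_D hBP ha hb
  · intro hx
    exact ⟨x, hx, 1, one_mem _, mul_one x⟩

theorem B_mul_D (hBP : ∀ i, B ≤ P i) (i : I) : (B : Set G) * D B P i = D B P i := by
  ext x
  constructor
  · rintro ⟨b, hb, a, ha, rfl⟩
    exact mul_mem_D' hBP ha hb
  · intro hx
    exact ⟨1, one_mem _, x, hx, one_mul x⟩

@[simp] theorem E_nil : E B P [] = B := by simp [E]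

theorem E_cons (i : I) (f : List I) : E B P (i :: f) = D B P i * E B P f := by
  rw [E, List.map_cons, List.prod_cons, mul_assoc]
  rfl

theorem B_mul_E (hBP : ∀ i, B ≤ P i) (f : List I) : (B : Set G) * E B P f = E B P f := by
  cases f with
  | nil => rw [E_nil, B_mul_B]
  | cons i f => rw [E_cons, ← mul_assoc, B_mul_D hBP]

theorem E_mul_B (f : List I) : E B P f * (B : Set G) = E B P f := by
  rw [E, mul_assoc, B_mul_B]

theorem E_append (hBP : ∀ i, B ≤ P i) (f g : List I) : E B P (f ++ g) = E B P f * E B P g := by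
  induction f with
  | nil => rw [List.nil_append, E_nil, B_mul_E hBP]
  | cons i f ih => rw [List.cons_append, E_cons, E_cons, ih, mul_assoc]

theorem E_singleton (hBP : ∀ i, B ≤ P i) (i : I) : E B P [i] = D B P i := by
  rw [E_cons, E_nil, D_mul_B hBP]

theorem E_snoc (hBP : ∀ i, B ≤ P i) (f : List I) (i : I) : E B P (f ++ [i]) = E B P f * D B P i := by
  rw [E_append hBP, E_singleton hBP]

theorem inv_E (hBP : ∀ i, B ≤ P i) (f : List I) : (E B P f)⁻¹ = E B P f.reverse := by
  induction f with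
  | nil =>
    rw [List.reverse_nil, E_nil]
    ext x
    simp
  | cons i f ih => rw [E_cons, mul_inv_rev, ih, inv_D, List.reverse_cons, E_snoc hBP]

theorem prod_mul_B (hBP : ∀ i, B ≤ P i) {f : List I} (hf : f ≠ []) :
    (f.map (D B P)).prod * (B : Set G) = (f.map (D B P)).prod := by
  induction f with
  | nil => exact absurd rfl hf
  | cons i f ih =>
    rw [List.map_cons, List.prod_cons, mul_assoc]
    cases f with
    | nil => rw [List.map_nil, List.prod_nil, one_mul, mul_one, D_mul_B hBP]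
    | cons j f => rw [ih (by simp)]

theorem E_nonempty (hD : ∀ i, (D B P i).Nonempty) (f : List I) : (E B P f).Nonempty := by
  induction f with
  | nil => rw [E_nil]; exact ⟨1, one_mem _⟩
  | cons i f ih => rw [E_cons]; exact (hD i).mul ih

theorem mem_E_iff {f : List I} {x : G} : x ∈ E B P f ↔ ∃ l, GalE B P f l ∧ ∃ b ∈ B, x = l.prod * b := by
  induction f generalizing x with
  | nil =>
    rw [E_nil]
    constructor
    · intro hx
      exact ⟨[], trivial, x, hx, by simp⟩
    · rintro ⟨l, hl, b, hb, rfl⟩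
      cases l with
      | nil => simpa using hb
      | cons y l => exact hl.elim
  | cons i f ih =>
    rw [E_cons]
    constructor
    · rintro ⟨y, hy, z, hz, rfl⟩
      obtain ⟨l, hl, b, hb, rfl⟩ := ih.1 hz
      exact ⟨y :: l, ⟨hy, hl⟩, b, hb, by simp [mul_assoc]⟩
    · rintro ⟨l, hl, b, hb, rfl⟩
      cases l with
      | nil => exact hl.elim
      | cons y l => exact ⟨y, hl.1, l.prod * b, ih.2 ⟨l, hl.2, b, hb, rfl⟩, by simp [mul_assoc]⟩

/-- If `U ≤ B` is transitive on the galleries of type `f` starting in `B`, then `E f` is one double coset. -/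
theorem one_of_tr {n : I → G} (hBP : ∀ i, B ≤ P i) (hP : ∀ i, n i ∈ P i) (hB : ∀ i, n i ∉ B) {U : Subgroup G}
    (hU : U ≤ B) {f : List I} (h : Tr B P n U f) {x y : G} (hx : x ∈ E B P f) (hy : y ∈ E B P f) :
    ∃ b ∈ B, ∃ b' ∈ B, y = b * x * b' := by
  have key : ∀ z ∈ E B P f, ∃ b ∈ B, ∃ b' ∈ B, z = b * nw n f * b' := by
    intro z hz
    obtain ⟨l, hl, b, hb, rfl⟩ := mem_E_iff.1 hz
    obtain ⟨t, ht, hA⟩ := (tr_iff hBP hP hB U hU f).1 h l hl
    have h1 := Ag_end hl hA
    refine ⟨t, hU ht, (t * nw n f)⁻¹ * (1 * l.prod) * b, mul_mem h1 hb, ?_⟩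
    group
  obtain ⟨a, ha, a', ha', rfl⟩ := key x hx
  obtain ⟨c, hc, c', hc', rfl⟩ := key y hy
  refine ⟨c * a⁻¹, mul_mem hc (inv_mem ha), a'⁻¹ * c', mul_mem (inv_mem ha') hc', ?_⟩
  group

end words

/-! ### The Bruhat decomposition -/

variable {G : Type*} [Group G] {I : Type*} {M : CoxeterMatrix I} {W : Type*} [Group W]

/-- The hypotheses of the Bruhat decomposition. -/
structure Geo (cs : CoxeterSystem M W) (B : Subgroup G) (P : I → Subgroup G) : Prop where
  le : ∀ i, B ≤ P i
  gen : ⨆ i, P i = ⊤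
  /-- the chambers `B`, `x B`, `y B` of the panel `P i / B` are different -/
  three : ∀ i, ∃ x ∈ D B P i, ∃ y ∈ D B P i, x⁻¹ * y ∉ B
  one : ∀ f, cs.IsReduced f → ∀ x ∈ E B P f, ∀ y ∈ E B P f, ∃ b ∈ B, ∃ b' ∈ B, y = b * x * b'
  braid : ∀ i j, i ≠ j → M i j ≠ 0 → E B P (alt i j (M i j)) = E B P (alt j i (M i j))

variable {cs : CoxeterSystem M W} {B : Subgroup G} {P : I → Subgroup G}

namespace Geo

/-- For the braid relations it is enough that the two sets have a common element. -/
theorem of_inter [Finite I] (le : ∀ i, B ≤ P i) (gen : ⨆ i, P i = ⊤)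
    (three : ∀ i, ∃ x ∈ D B P i, ∃ y ∈ D B P i, x⁻¹ * y ∉ B)
    (one : ∀ f, cs.IsReduced f → ∀ x ∈ E B P f, ∀ y ∈ E B P f, ∃ b ∈ B, ∃ b' ∈ B, y = b * x * b')
    (inter : ∀ i j, i ≠ j → M i j ≠ 0 → (E B P (alt i j (M i j)) ∩ E B P (alt j i (M i j))).Nonempty) :
    Geo cs B P where
  le := le
  gen := gen
  three := three
  one := one
  braid := by
    intro i j hij h0
    obtain ⟨x, hx, hx'⟩ := inter i j hij h0
    have key : ∀ f g : List I, cs.IsReduced f → x ∈ E B P f → x ∈ E B P g → E B P f ⊆ E B P g := by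
      intro f g hf hxf hxg y hy
      obtain ⟨b, hb, b', hb', rfl⟩ := one f hf x hxf y hy
      rw [← E_mul_B, ← B_mul_E le]
      exact Set.mul_mem_mul (Set.mul_mem_mul hb hxg) hb'
    refine Set.Subset.antisymm (key _ _ (isReduced_alt cs fun _ => le_rfl) hx hx')
      (key _ _ (isReduced_alt cs fun _ => ?_) hx' hx)
    rw [M.symmetric i j]

section

variable (h : Geo cs B P)

include h

theorem D_nonempty (i : I) : (D B P i).Nonempty := by
  obtain ⟨x, hx, -⟩ := h.three i
  exact ⟨x, hx⟩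

variable [Finite I]

theorem E_eq {f g : List I} (hf : cs.IsReduced f) (hg : cs.IsReduced g) (e : cs.wordProd f = cs.wordProd g) :
    E B P f = E B P g := by
  have h1 : (f.map (D B P)).prod = (g.map (D B P)).prod := by
    refine matsumoto cs (D B P) ?_ hf hg e
    intro i j hij h0
    have h2 := h.braid i j hij h0
    obtain ⟨m, hm⟩ : ∃ m, M i j = m + 1 := ⟨M i j - 1, by omega⟩
    rw [hm] at h2 ⊢
    unfold E at h2
    rwa [prod_mul_B h.le (by rw [alt_cons]; simp), prod_mul_B h.le (by rw [alt_cons]; simp)] at h2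
  rw [E, E, h1]

end

end Geo

/-- the double coset of `w` -/
noncomputable def C (cs : CoxeterSystem M W) (B : Subgroup G) (P : I → Subgroup G) (w : W) : Set G :=
  E B P (cs.exists_isReduced w).choose

namespace Geo

section

variable [Finite I] (h : Geo cs B P)

include h

theorem C_eq {f : List I} (hf : cs.IsReduced f) : C cs B P (cs.wordProd f) = E B P f :=
  h.E_eq (cs.exists_isReduced _).choose_spec.1 hf (cs.exists_isReduced (cs.wordProd f)).choose_spec.2.symm

theorem C_one : C cs B P 1 = B := by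
  have h1 : cs.IsReduced [] := by
    show cs.length (cs.wordProd []) = 0
    rw [cs.wordProd_nil, cs.length_one]
  have := h.C_eq h1
  rwa [cs.wordProd_nil, E_nil] at this

theorem C_simple (i : I) : C cs B P (cs.simple i) = D B P i := by
  have h1 : cs.IsReduced [i] := by
    show cs.length (cs.wordProd [i]) = 1
    rw [cs.wordProd_singleton, cs.length_simple]
  have := h.C_eq h1
  rwa [cs.wordProd_singleton, E_singleton h.le] at this

theorem C_nonempty (w : W) : (C cs B P w).Nonempty := E_nonempty h.D_nonempty _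

theorem C_up {w : W} {i : I} (hl : cs.length w < cs.length (w * cs.simple i)) :
    C cs B P w * D B P i = C cs B P (w * cs.simple i) := by
  obtain ⟨f, hf, rfl⟩ := cs.exists_isReduced w
  have h1 : cs.IsReduced (f ++ [i]) := by
    show cs.length (cs.wordProd (f ++ [i])) = (f ++ [i]).length
    rw [cs.wordProd_append, cs.wordProd_singleton, List.length_append, List.length_singleton, ← hf.eq]
    rcases cs.length_mul_simple (cs.wordProd f) i with h2 | h2
    · exact h2
    · omega
  have h2 := h.C_eq h1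
  rw [cs.wordProd_append, cs.wordProd_singleton] at h2
  rw [h.C_eq hf, h2, E_snoc h.le]

theorem C_down {w : W} {i : I} (hl : cs.length (w * cs.simple i) < cs.length w) :
    C cs B P w = C cs B P (w * cs.simple i) * D B P i := by
  have := h.C_up (w := w * cs.simple i) (i := i) (by rwa [cs.simple_mul_simple_cancel_right])
  rw [this, cs.simple_mul_simple_cancel_right]

theorem C_up_left {w : W} {i : I} (hl : cs.length w < cs.length (cs.simple i * w)) :
    D B P i * C cs B P w = C cs B P (cs.simple i * w) := by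
  obtain ⟨f, hf, rfl⟩ := cs.exists_isReduced w
  have h1 : cs.IsReduced (i :: f) := by
    show cs.length (cs.wordProd (i :: f)) = (i :: f).length
    rw [cs.wordProd_cons, List.length_cons, ← hf.eq]
    rcases cs.length_simple_mul (cs.wordProd f) i with h2 | h2
    · exact h2
    · omega
  have h2 := h.C_eq h1
  rw [cs.wordProd_cons] at h2
  rw [h.C_eq hf, h2, E_cons]

theorem C_mul_B (w : W) : C cs B P w * (B : Set G) = C cs B P w := by
  obtain ⟨f, hf, rfl⟩ := cs.exists_isReduced w
  rw [h.C_eq hf, E_mul_B]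

theorem B_mul_C (w : W) : (B : Set G) * C cs B P w = C cs B P w := by
  obtain ⟨f, hf, rfl⟩ := cs.exists_isReduced w
  rw [h.C_eq hf, B_mul_E h.le]

theorem inv_C (w : W) : (C cs B P w)⁻¹ = C cs B P w⁻¹ := by
  obtain ⟨f, hf, rfl⟩ := cs.exists_isReduced w
  rw [h.C_eq hf, inv_E h.le, ← cs.wordProd_reverse, h.C_eq hf.reverse]

theorem mul_mem_C {w : W} {x b : G} (hx : x ∈ C cs B P w) (hb : b ∈ B) : x * b ∈ C cs B P w := by
  rw [← h.C_mul_B]
  exact Set.mul_mem_mul hx hb

theorem mul_mem_C' {w : W} {x b : G} (hx : x ∈ C cs B P w) (hb : b ∈ B) : b * x ∈ C cs B P w := by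
  rw [← h.B_mul_C]
  exact Set.mul_mem_mul hb hx

theorem one_C {w : W} {x y : G} (hx : x ∈ C cs B P w) (hy : y ∈ C cs B P w) :
    ∃ b ∈ B, ∃ b' ∈ B, y = b * x * b' := by
  obtain ⟨f, hf, rfl⟩ := cs.exists_isReduced w
  rw [h.C_eq hf] at hx hy
  exact h.one f hf x hx y hy

/-- `C` is a Bruhat decomposition. -/
theorem cosets : Bruhat.Cosets cs B P (C cs B P) where
  single := by
    intro w
    obtain ⟨x, hx⟩ := h.C_nonempty w
    refine ⟨x, ?_⟩
    ext y
    rw [DoubleCoset.mem_doubleCoset]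
    constructor
    · intro hy
      obtain ⟨b, hb, b', hb', rfl⟩ := h.one_C hx hy
      exact ⟨b, hb, b', hb', rfl⟩
    · rintro ⟨b, hb, b', hb', rfl⟩
      exact h.mul_mem_C (h.mul_mem_C' hx hb) hb'
  one := by rw [h.C_one]; exact one_mem _
  le := h.le
  up := by
    intro w i hl x hx p hp hpB
    rw [← h.C_up hl]
    exact Set.mul_mem_mul hx ⟨hp, hpB⟩
  gen := h.gen
  three := by
    intro i
    obtain ⟨x, hx, y, hy, hxy⟩ := h.three i
    exact ⟨x, hx.1, y, hy.1, hx.2, hy.2, hxy⟩

include h in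
/-- **`W` is finite if `G` is.** -/
theorem finite_W [Finite G] : Finite W :=
  Finite.of_injective (C cs B P) fun _ _ e => h.cosets.inj e

/-- a reduced word of `w` ends in the double coset of `w`, and only there -/
theorem E_inj {f g : List I} (hf : cs.IsReduced f) (hg : cs.IsReduced g) (e : (E B P f ∩ E B P g).Nonempty) :
    cs.wordProd f = cs.wordProd g := by
  obtain ⟨x, hx, hy⟩ := e
  rw [← h.C_eq hf] at hx
  rw [← h.C_eq hg] at hy
  exact h.cosets.eq_of_mem_mem hx hy

end

end Geo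

end Cfsg.Agent.ParSys.Words

end

section


/-!
# THEOREM PAR, front end (a): the Hall part

`B` a finite group, `U = O_p(B)`, `H` a `p'`-subgroup of `B` with `U H` normal in `B` and of
`p`-power index.  Then

* `HallData.le_sup`: every `p'`-subgroup of `B` lies in `U H`;
* `HallData.conj`: the subgroups of `B` of order `|H|` are conjugate to `H` under `U`;
* `HallData.H0`: every `p`-subgroup of `B` normalised by `H` lies in `U`;
* `HallData.exists_fixed`, `HallData.fixed_unique`: orbits of `U` and fixed points of `H`;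
* `HallData.exists_n`: if `U` is transitive on `P / B - {B}` then some `n ∈ P - B` normalises `H`.
-/

set_option autoImplicit false
set_option linter.style.haveILetI false
set_option linter.unusedSectionVars false

namespace Cfsg.Agent.ParSys.Hall

open Pointwise

variable {G : Type*} [Group G]

/-- `x ^ a ∈ K` and `x ^ b ∈ K` with `a`, `b` coprime give `x ∈ K`. -/
theorem mem_of_pow_mem_of_coprime {K : Subgroup G} {x : G} {a b : ℕ} (ha : x ^ a ∈ K)
    (hb : x ^ b ∈ K) (hab : a.Coprime b) : x ∈ K := by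
  have h := Nat.gcd_eq_gcd_ab a b
  rw [hab] at h
  have h1 : x = (x ^ a) ^ (Nat.gcdA a b) * (x ^ b) ^ (Nat.gcdB a b) := by
    rw [← zpow_natCast, ← zpow_natCast, ← zpow_mul, ← zpow_mul, ← zpow_add, ← h]
    simp
  rw [h1]
  exact K.mul_mem (K.zpow_mem ha _) (K.zpow_mem hb _)

theorem pow_card_of_mem {K : Subgroup G} {x : G} (hx : x ∈ K) : x ^ (Nat.card K) = 1 := by
  have h : ((⟨x, hx⟩ : K) ^ (Nat.card K) : K) = 1 := pow_card_eq_one'
  have h2 := congrArg Subtype.val h
  rwa [Subgroup.coe_pow, Subgroup.coe_one] at h2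

/-- If `x ∈ B`, `N ≤ B` is normalised by `B`, then `x ^ [B : N] ∈ N`. -/
theorem pow_relIndex_mem {B N : Subgroup G} (hNB : B ≤ Subgroup.normalizer (N : Set G)) {x : G}
    (hx : x ∈ B) : x ^ (N.relIndex B) ∈ N := by
  haveI : (N.subgroupOf B).Normal := by
    constructor
    intro n hn g
    rw [Subgroup.mem_subgroupOf] at hn ⊢
    have := (Subgroup.mem_normalizer_iff.mp (hNB g.2) (n : G)).mp hn
    simpa using this
  have h := Subgroup.pow_index_mem (N.subgroupOf B) (⟨x, hx⟩ : B)
  rw [Subgroup.mem_subgroupOf] at h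
  simpa [Subgroup.relIndex] using h

/-- The Hall situation in a Borel-like subgroup. -/
structure HallData (p : ℕ) (B U H : Subgroup G) : Prop where
  U_le : U ≤ B
  H_le : H ≤ B
  U_norm : B ≤ Subgroup.normalizer (U : Set G)
  U_pgroup : IsPGroup p U
  H_cop : p.Coprime (Nat.card H)
  UH_norm : B ≤ Subgroup.normalizer ((U ⊔ H : Subgroup G) : Set G)
  index : ∃ k : ℕ, (U ⊔ H).relIndex B = p ^ k
  core : ∀ T : Subgroup G, T ≤ B → IsPGroup p T → B ≤ Subgroup.normalizer (T : Set G) → T ≤ U

namespace HallData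

variable {p : ℕ} {B U H : Subgroup G}

theorem le_sup (D : HallData p B U H) {K : Subgroup G} (hK : K ≤ B)
    (hp : p.Coprime (Nat.card K)) : K ≤ U ⊔ H := by
  intro x hx
  obtain ⟨k, hk⟩ := D.index
  have h1 : x ^ (p ^ k) ∈ U ⊔ H := by
    rw [← hk]; exact pow_relIndex_mem D.UH_norm (hK hx)
  have h2 : x ^ (Nat.card K) ∈ U ⊔ H := by
    rw [pow_card_of_mem hx]; exact Subgroup.one_mem _
  exact mem_of_pow_mem_of_coprime h1 h2 (hp.pow_left k)

variable [Finite G] [hp : Fact p.Prime]

theorem card_cop (D : HallData p B U H) : (Nat.card H).Coprime (Nat.card U) := by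
  obtain ⟨k, hk⟩ := (IsPGroup.iff_card (p := p)).mp D.U_pgroup
  rw [hk]
  exact (D.H_cop.pow_left k).symm

theorem U_solvable (D : HallData p B U H) : Group.IsSolvable U := by
  haveI := D.U_pgroup.isNilpotent
  infer_instance

theorem H_norm_U (D : HallData p B U H) : H ≤ Subgroup.normalizer (U : Set G) :=
  D.H_le.trans D.U_norm

/-- Subgroups of order `|H|` of `B` are conjugate to `H` under `U`. -/
theorem conj (D : HallData p B U H) {K : Subgroup G} (hK : K ≤ B)
    (hc : Nat.card K = Nat.card H) : ∃ u ∈ U, MulAut.conj u • H = K := by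
  refine Solvable.Glauberman.exists_conj_of_le_sup H U D.H_norm_U D.card_cop
    (Or.inr D.U_solvable) K ?_ hc
  rw [sup_comm]
  exact D.le_sup hK (by rw [hc]; exact D.H_cop)

/-- A `U`-orbit which is `H`-stable contains an `H`-fixed point. -/
theorem exists_fixed (D : HallData p B U H) {X : Type*} [MulAction G X] (x : X)
    (hx : ∀ a ∈ H, ∃ k ∈ U, a • x = k • x) : ∃ k ∈ U, ∀ a ∈ H, a • k • x = k • x :=
  Solvable.Glauberman.exists_smul_fixed H U D.H_norm_U D.card_cop (Or.inr D.U_solvable) x hx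

/-- `C_U(H)` is transitive on the `H`-fixed points of a `U`-orbit. -/
theorem fixed_trans (D : HallData p B U H) {X : Type*} [MulAction G X] (x y : X)
    (hx : ∀ a ∈ H, a • x = x) (hy : ∀ a ∈ H, a • y = y) {k : G} (hk : k ∈ U) (hkx : k • x = y) :
    ∃ c ∈ U, c ∈ Subgroup.centralizer (H : Set G) ∧ c • x = y :=
  Solvable.Glauberman.exists_centralizer_smul H U D.H_norm_U D.card_cop (Or.inr D.U_solvable)
    x y hx hy hk hkx

/-- If `C_U(H) = 1`, an orbit of `U` has at most one `H`-fixed point. -/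
theorem fixed_unique (D : HallData p B U H) (hC : U ⊓ Subgroup.centralizer (H : Set G) = ⊥)
    {X : Type*} [MulAction G X] (x y : X)
    (hx : ∀ a ∈ H, a • x = x) (hy : ∀ a ∈ H, a • y = y) {k : G} (hk : k ∈ U) (hkx : k • x = y) :
    y = x := by
  obtain ⟨c, hcU, hcC, hc⟩ := D.fixed_trans x y hx hy hk hkx
  have h1 : c ∈ U ⊓ Subgroup.centralizer (H : Set G) := ⟨hcU, hcC⟩
  rw [hC, Subgroup.mem_bot] at h1
  rw [← hc, h1, one_smul]

theorem pow_card_mem (D : HallData p B U H) {x : G} (hx : x ∈ U ⊔ H) :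
    x ^ (Nat.card H) ∈ U := by
    rw [sup_comm] at hx
    obtain ⟨u, hu, a, ha, rfl⟩ := Solvable.Glauberman.exists_mul_of_mem_sup H U D.H_norm_U hx
    -- `(u a) ^ m ∈ U a ^ m`
    have key : ∀ m : ℕ, ∃ v ∈ U, (u * a) ^ m = v * a ^ m := by
      intro m
      induction m with
      | zero => exact ⟨1, U.one_mem, by simp⟩
      | succ m ih =>
        obtain ⟨v, hv, hvm⟩ := ih
        refine ⟨v * (a ^ m * u * (a ^ m)⁻¹), U.mul_mem hv ?_, ?_⟩
        · exact (Subgroup.mem_normalizer_iff.mp (D.H_norm_U (H.pow_mem ha m)) u).mp hu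
        · rw [pow_succ, hvm, pow_succ]; group
    obtain ⟨v, hv, hvm⟩ := key (Nat.card H)
    rw [hvm, pow_card_of_mem ha, mul_one]
    exact hv

/-- A `p`-subgroup of `U H` lies in `U`. -/
theorem pgroup_le_of_le_sup (D : HallData p B U H) {x : G} (hx : x ∈ U ⊔ H) {k : ℕ}
    (hk : x ^ (p ^ k) = 1) : x ∈ U := by
  have h1 : x ^ (Nat.card H) ∈ U := D.pow_card_mem hx
  have h2 : x ^ (p ^ k) ∈ U := by rw [hk]; exact U.one_mem
  exact mem_of_pow_mem_of_coprime h2 h1 (D.H_cop.pow_left k)

/-- **(H0)**: every `p`-subgroup of `B` normalised by `H` lies in `U = O_p(B)`. -/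
theorem H0 (D : HallData p B U H) {T : Subgroup G} (hTB : T ≤ B) (hT : IsPGroup p T)
    (hH : H ≤ Subgroup.normalizer (T : Set G)) : T ≤ U := by
  classical
  -- commutators of `T` and `H` lie in `U`
  have hcomm : ∀ t ∈ T, ∀ a ∈ H, t * a * t⁻¹ * a⁻¹ ∈ U := by
    intro t ht a ha
    have h1 : t * a * t⁻¹ * a⁻¹ ∈ T := by
      have : t * a * t⁻¹ * a⁻¹ = t * (a * t⁻¹ * a⁻¹) := by group
      rw [this]
      exact T.mul_mem ht ((Subgroup.mem_normalizer_iff.mp (hH ha) t⁻¹).mp (T.inv_mem ht))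
    have h2 : t * a * t⁻¹ * a⁻¹ ∈ U ⊔ H := by
      refine Subgroup.mul_mem _ ?_ (Subgroup.inv_mem _ (Subgroup.mem_sup_right ha))
      exact (Subgroup.mem_normalizer_iff.mp (D.UH_norm (hTB ht)) a).mp (Subgroup.mem_sup_right ha)
    obtain ⟨k, hk⟩ := hT ⟨_, h1⟩
    refine D.pgroup_le_of_le_sup h2 (k := k) ?_
    simpa using congrArg Subtype.val hk
  haveI hU' : (U.subgroupOf B).Normal := by
    constructor
    intro n hn g
    rw [Subgroup.mem_subgroupOf] at hn ⊢
    have := (Subgroup.mem_normalizer_iff.mp (D.U_norm g.2) (n : G)).mp hn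
    simpa using this
  haveI hUH' : ((U ⊔ H).subgroupOf B).Normal := by
    constructor
    intro n hn g
    rw [Subgroup.mem_subgroupOf] at hn ⊢
    have := (Subgroup.mem_normalizer_iff.mp (D.UH_norm g.2) (n : G)).mp hn
    simpa using this
  set π : B →* B ⧸ (U.subgroupOf B) := QuotientGroup.mk' (U.subgroupOf B) with hπ
  have hsurj : Function.Surjective π := QuotientGroup.mk'_surjective _
  have hker : ∀ b : B, π b = 1 ↔ (b : G) ∈ U := by
    intro b
    rw [hπ, QuotientGroup.mk'_apply, QuotientGroup.eq_one_iff, Subgroup.mem_subgroupOf]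
  set Hq : Subgroup (B ⧸ (U.subgroupOf B)) := ((U ⊔ H).subgroupOf B).map π with hHq
  haveI hHqn : Hq.Normal := Subgroup.Normal.map hUH' π hsurj
  have hHqpow : ∀ y ∈ Hq, y ^ (Nat.card H) = 1 := by
    intro y hy
    obtain ⟨b, hb, rfl⟩ := Subgroup.mem_map.mp hy
    rw [← map_pow, hker]
    rw [Subgroup.mem_subgroupOf] at hb
    simpa using D.pow_card_mem hb
  set Cq : Subgroup (B ⧸ (U.subgroupOf B)) := Subgroup.centralizer (Hq : Set _) with hCq
  haveI hCqn : Cq.Normal := inferInstance
  obtain ⟨k, hk⟩ := D.index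
  have hpow : ∀ y : B ⧸ (U.subgroupOf B), y ^ (p ^ k) ∈ Hq := by
    intro y
    obtain ⟨b, rfl⟩ := hsurj y
    rw [← map_pow]
    refine Subgroup.mem_map_of_mem _ ?_
    rw [Subgroup.mem_subgroupOf]
    have := pow_relIndex_mem D.UH_norm b.2
    rw [hk] at this
    simpa using this
  -- `Cq` is nilpotent
  have hZ : (Hq.subgroupOf Cq) ≤ Subgroup.center Cq := by
    intro z hz
    rw [Subgroup.mem_subgroupOf] at hz
    rw [Subgroup.mem_center_iff]
    intro c
    apply Subtype.ext
    have := Subgroup.mem_centralizer_iff.mp c.2 (z : B ⧸ (U.subgroupOf B)) hz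
    simpa using this.symm
  haveI hnil : Group.IsNilpotent Cq := by
    haveI hN : (Hq.subgroupOf Cq).Normal := inferInstance
    have hpg : IsPGroup p (Cq ⧸ (Hq.subgroupOf Cq)) := by
      intro y
      obtain ⟨c, rfl⟩ := QuotientGroup.mk'_surjective (Hq.subgroupOf Cq) y
      refine ⟨k, ?_⟩
      rw [← map_pow, QuotientGroup.mk'_apply, QuotientGroup.eq_one_iff, Subgroup.mem_subgroupOf]
      simpa using hpow (c : B ⧸ (U.subgroupOf B))
    have h2 : Group.IsNilpotent (Cq ⧸ (Hq.subgroupOf Cq)) := hpg.isNilpotent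
    refine Subgroup.isNilpotent_of_ker_le_center (QuotientGroup.mk' (Hq.subgroupOf Cq)) ?_
    rw [QuotientGroup.ker_mk']
    exact hZ
  -- a normal Sylow subgroup
  obtain ⟨P⟩ : Nonempty (Sylow p Cq) := inferInstance
  haveI hPn : (P : Subgroup Cq).Normal := inferInstance
  haveI hPc : (P : Subgroup Cq).Characteristic := P.characteristic_of_normal hPn
  haveI hPm : ((P : Subgroup Cq).map Cq.subtype).Normal := inferInstance
  have hPp : ∀ y ∈ (P : Subgroup Cq).map Cq.subtype, ∃ j : ℕ, y ^ (p ^ j) = 1 := by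
    intro y hy
    obtain ⟨c, hc, rfl⟩ := Subgroup.mem_map.mp hy
    obtain ⟨j, hj⟩ := P.isPGroup' ⟨c, hc⟩
    refine ⟨j, ?_⟩
    have h1 : c ^ (p ^ j) = 1 := by simpa using congrArg Subtype.val hj
    rw [← map_pow, h1, map_one]
  have hPbot : ((P : Subgroup Cq).map Cq.subtype) = ⊥ := by
    set W : Subgroup G := (((P : Subgroup Cq).map Cq.subtype).comap π).map B.subtype with hW
    have hWU : W ≤ U := by
      refine D.core W ?_ ?_ ?_
      · rintro _ ⟨b, -, rfl⟩
        exact b.2
      · rintro ⟨w, hw⟩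
        obtain ⟨b, hb, hbw⟩ := hw
        obtain ⟨j, hj⟩ := hPp _ hb
        rw [← map_pow, hker] at hj
        obtain ⟨i, hi⟩ := D.U_pgroup ⟨_, hj⟩
        refine ⟨j + i, ?_⟩
        apply Subtype.ext
        have h1 : (((b ^ p ^ j : B) : G)) ^ p ^ i = 1 := by simpa using congrArg Subtype.val hi
        have h2 : (b : G) ^ (p ^ (j + i)) = 1 := by
          rw [pow_add, pow_mul]
          simpa using h1
        simpa [← hbw] using h2
      · intro b hb
        rw [Subgroup.mem_normalizer_iff]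
        have key : ∀ c ∈ B, ∀ x ∈ W, c * x * c⁻¹ ∈ W := by
          rintro c hc _ ⟨x, hx, rfl⟩
          refine ⟨(⟨c, hc⟩ : B) * x * (⟨c, hc⟩ : B)⁻¹, ?_, by simp⟩
          rw [SetLike.mem_coe, Subgroup.mem_comap]
          rw [map_mul, map_mul, map_inv]
          exact hPm.conj_mem (π x) hx (π ⟨c, hc⟩)
        intro x
        constructor
        · exact key b hb x
        · intro hx
          have := key b⁻¹ (B.inv_mem hb) _ hx
          simpa [mul_assoc] using this
    rw [eq_bot_iff]
    intro y hy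
    obtain ⟨b, rfl⟩ := hsurj y
    rw [Subgroup.mem_bot, hker]
    exact hWU ⟨b, hy, rfl⟩
  have hcardC : ¬ p ∣ Nat.card Cq := by
    intro hd
    have h1 : (P : Subgroup Cq) = ⊥ :=
      (Subgroup.map_eq_bot_iff_of_injective _ Cq.subtype_injective).mp hPbot
    have h2 := P.dvd_card_of_dvd_card hd
    rw [h1, Subgroup.card_bot] at h2
    exact hp.out.one_lt.ne' (Nat.dvd_one.mp h2)
  intro t ht
  have htB : t ∈ B := hTB ht
  rw [show t = ((⟨t, htB⟩ : B) : G) from rfl, ← hker]
  have htC : π ⟨t, htB⟩ ∈ Cq := by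
    rw [hCq, Subgroup.mem_centralizer_iff]
    rintro _ ⟨b, hb, rfl⟩
    rw [SetLike.mem_coe, Subgroup.mem_subgroupOf] at hb
    rw [sup_comm] at hb
    obtain ⟨u, hu, a, ha, hua⟩ := Solvable.Glauberman.exists_mul_of_mem_sup H U D.H_norm_U hb
    have h1 : π b = π ⟨a, D.H_le ha⟩ := by
      have h2 : π ⟨u, D.U_le hu⟩ = 1 := (hker _).mpr hu
      have h3 : b = (⟨u, D.U_le hu⟩ : B) * ⟨a, D.H_le ha⟩ := Subtype.ext (by simpa using hua)
      rw [h3, map_mul, h2, one_mul]
    rw [h1, ← mul_inv_eq_one, ← map_mul, ← map_mul, ← map_inv, ← map_mul, hker]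
    have h4 := hcomm t ht a ha
    have h5 := U.inv_mem h4
    have h6 : (((⟨a, D.H_le ha⟩ : B) * ⟨t, htB⟩ * ((⟨t, htB⟩ : B) * ⟨a, D.H_le ha⟩)⁻¹ : B) : G)
        = (t * a * t⁻¹ * a⁻¹)⁻¹ := by
      push_cast
      group
    rw [h6]
    exact h5
  obtain ⟨j, hj⟩ := hT ⟨t, ht⟩
  have h1 : (⟨π ⟨t, htB⟩, htC⟩ : Cq) ^ (p ^ j) = 1 := by
    apply Subtype.ext
    have h2 : t ^ (p ^ j) = 1 := by simpa using congrArg Subtype.val hj
    have h3 : (⟨t, htB⟩ : B) ^ (p ^ j) = 1 := Subtype.ext (by simpa using h2)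
    change (π ⟨t, htB⟩) ^ (p ^ j) = 1
    rw [← map_pow, h3, map_one]
  have h2 : (⟨π ⟨t, htB⟩, htC⟩ : Cq) ^ (Nat.card Cq) = 1 := pow_card_eq_one'
  have hcop : (p ^ j).Coprime (Nat.card Cq) :=
    Nat.Coprime.pow_left j ((Nat.Prime.coprime_iff_not_dvd hp.out).mpr hcardC)
  have h3 : (⟨π ⟨t, htB⟩, htC⟩ : Cq) = 1 := by
    have := mem_of_pow_mem_of_coprime (K := (⊥ : Subgroup Cq)) (x := ⟨π ⟨t, htB⟩, htC⟩)
      (a := p ^ j) (b := Nat.card Cq) (by rw [h1]; exact Subgroup.one_mem _)
      (by rw [h2]; exact Subgroup.one_mem _) hcop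
    exact Subgroup.mem_bot.mp this
  exact congrArg Subtype.val h3

/-- If `U` is transitive on `P / B - {B}` then some `n ∈ P - B` normalises `H`. -/
theorem exists_n (D : HallData p B U H) {P : Subgroup G} (hBP : B ≤ P) (hne : ∃ g ∈ P, g ∉ B)
    (htr : ∀ g ∈ P, g ∉ B → ∀ g' ∈ P, g' ∉ B → ∃ u ∈ U, ∃ b ∈ B, g' = u * g * b) :
    ∃ n ∈ P, n ∉ B ∧ n ∈ Subgroup.normalizer (H : Set G) := by
  obtain ⟨g, hgP, hgB⟩ := hne
  obtain ⟨u, hu, hfix⟩ := D.exists_fixed (X := G ⧸ B) ((g : G) : G ⧸ B) (by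
    intro a ha
    have haB := D.H_le ha
    obtain ⟨v, hv, b, hb, hvb⟩ := htr g hgP hgB (a * g) (P.mul_mem (hBP haB) hgP)
      (fun h => hgB (by simpa using B.mul_mem (B.inv_mem haB) h))
    refine ⟨v, hv, ?_⟩
    change ((a * g : G) : G ⧸ B) = ((v * g : G) : G ⧸ B)
    rw [hvb]
    exact QuotientGroup.mk_mul_of_mem _ hb)
  have huB := D.U_le hu
  have hugP : u * g ∈ P := P.mul_mem (hBP huB) hgP
  have hugB : u * g ∉ B := fun h => hgB (by simpa using B.mul_mem (B.inv_mem huB) h)
  have hHB : MulAut.conj (u * g)⁻¹ • H ≤ B := by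
    intro x hx
    rw [Subgroup.mem_smul_pointwise_iff_exists] at hx
    obtain ⟨a, ha, rfl⟩ := hx
    have h1 : ((a * (u * g) : G) : G ⧸ B) = ((u * g : G) : G ⧸ B) := hfix a ha
    have h2 := QuotientGroup.eq.mp h1.symm
    have h3 : (MulAut.conj (u * g)⁻¹) • a = (u * g)⁻¹ * (a * (u * g)) := by
      rw [MulAut.smul_def, MulAut.conj_apply]; group
    rw [h3]
    exact h2
  obtain ⟨v, hv, hvH⟩ := D.conj hHB (Nat.card_congr
    (Subgroup.equivSMul (MulAut.conj (u * g)⁻¹) H).symm.toEquiv)
  have hvB := D.U_le hv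
  refine ⟨u * g * v, P.mul_mem hugP (hBP hvB), fun h => hugB ?_, ?_⟩
  · have := B.mul_mem h (B.inv_mem hvB)
    simpa [mul_assoc] using this
  · have h1 : MulAut.conj (u * g * v) • H = H := by
      rw [map_mul, mul_smul, hvH, ← mul_smul, ← map_mul, mul_inv_cancel, map_one, one_smul]
    rw [Subgroup.mem_normalizer_iff]
    intro h
    constructor
    · intro hh
      have := Subgroup.smul_mem_pointwise_smul h (MulAut.conj (u * g * v)) H hh
      rw [h1] at this
      exact this
    · intro hh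
      have h2 : h ∈ MulAut.conj (u * g * v)⁻¹ • H := by
        rw [Subgroup.mem_smul_pointwise_iff_exists]
        refine ⟨_, hh, ?_⟩
        rw [MulAut.smul_def, MulAut.conj_apply]; group
      have h3 : MulAut.conj (u * g * v)⁻¹ • H = H := by
        conv_lhs => rw [← h1]
        rw [← mul_smul, ← map_mul, inv_mul_cancel, map_one, one_smul]
      rwa [h3] at h2

/-- The transitivity of `U` on the chambers `≠ B` of the panel `P / B`. -/
def PTr (B U P : Subgroup G) : Prop :=
  ∀ g ∈ P, g ∉ B → ∀ g' ∈ P, g' ∉ B → ∃ u ∈ U, ∃ b ∈ B, g' = u * g * b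

/-- If `C_U(H) = 1`, then `H` fixes only one chamber `≠ B` of a panel on which `U` is transitive. -/
theorem panel_unique (D : HallData p B U H) (hC : U ⊓ Subgroup.centralizer (H : Set G) = ⊥)
    {P : Subgroup G} (htr : PTr B U P) {g g' : G} (hg : g ∈ P) (hgB : g ∉ B) (hg' : g' ∈ P)
    (hgB' : g' ∉ B) (hfix : ∀ a ∈ H, g⁻¹ * a * g ∈ B) (hfix' : ∀ a ∈ H, g'⁻¹ * a * g' ∈ B) :
    g⁻¹ * g' ∈ B := by
  obtain ⟨u, hu, b, hb, he⟩ := htr g hg hgB g' hg' hgB'
  have h1 := D.fixed_unique hC (X := G ⧸ B) ((g : G) : G ⧸ B) ((g' : G) : G ⧸ B) (by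
      intro a ha
      change ((a * g : G) : G ⧸ B) = _
      refine (QuotientGroup.eq.mpr ?_).symm
      rw [← mul_assoc]
      exact hfix a ha) (by
      intro a ha
      change ((a * g' : G) : G ⧸ B) = _
      refine (QuotientGroup.eq.mpr ?_).symm
      rw [← mul_assoc]
      exact hfix' a ha) hu (by
      change ((u * g : G) : G ⧸ B) = _
      rw [he]
      exact (QuotientGroup.mk_mul_of_mem _ hb).symm)
  exact QuotientGroup.eq.mp h1.symm

theorem norm_conj_mem {n a : G} (hn : n ∈ Subgroup.normalizer (H : Set G)) (ha : a ∈ H) :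
    n⁻¹ * a * n ∈ H := by
  have := (Subgroup.mem_normalizer_iff.mp ((Subgroup.normalizer (H : Set G)).inv_mem hn) a).mp ha
  simpa using this

/-- `n` conjugates `N_B(H)` into `B`. -/
theorem conj_mem (D : HallData p B U H) (hC : U ⊓ Subgroup.centralizer (H : Set G) = ⊥)
    {P : Subgroup G} (hBP : B ≤ P) (htr : PTr B U P) {n : G} (hn : n ∈ P) (hnB : n ∉ B)
    (hnH : n ∈ Subgroup.normalizer (H : Set G)) {y : G} (hy : y ∈ B)
    (hyH : y ∈ Subgroup.normalizer (H : Set G)) : n⁻¹ * y * n ∈ B := by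
  have h1 : ∀ a ∈ H, n⁻¹ * a * n ∈ B := fun a ha => D.H_le (norm_conj_mem hnH ha)
  have h2 : ∀ a ∈ H, (y * n)⁻¹ * a * (y * n) ∈ B := by
    intro a ha
    have : (y * n)⁻¹ * a * (y * n) = n⁻¹ * (y⁻¹ * a * y) * n := by group
    rw [this]
    exact h1 _ (norm_conj_mem hyH ha)
  have h3 : y * n ∉ B := fun h => hnB (by simpa using B.mul_mem (B.inv_mem hy) h)
  have := D.panel_unique hC htr hn hnB (P.mul_mem (hBP hy) hn) h3 h1 h2
  rwa [← mul_assoc] at this

theorem conj_mem' (D : HallData p B U H) (hC : U ⊓ Subgroup.centralizer (H : Set G) = ⊥)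
    {P : Subgroup G} (hBP : B ≤ P) (htr : PTr B U P) {n : G} (hn : n ∈ P) (hnB : n ∉ B)
    (hnH : n ∈ Subgroup.normalizer (H : Set G)) {y : G} (hy : y ∈ B)
    (hyH : y ∈ Subgroup.normalizer (H : Set G)) : n * y * n⁻¹ ∈ B := by
  have := D.conj_mem hC hBP htr (P.inv_mem hn) (fun h => hnB (by simpa using B.inv_mem h))
    (Subgroup.inv_mem _ hnH) hy hyH
  simpa using this

theorem sq_mem (D : HallData p B U H) (hC : U ⊓ Subgroup.centralizer (H : Set G) = ⊥)
    {P : Subgroup G} (htr : PTr B U P) {n : G} (hn : n ∈ P) (hnB : n ∉ B)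
    (hnH : n ∈ Subgroup.normalizer (H : Set G)) : n * n ∈ B := by
  by_contra hnn
  have h1 : ∀ a ∈ H, n⁻¹ * a * n ∈ B := fun a ha => D.H_le (norm_conj_mem hnH ha)
  have h2 : ∀ a ∈ H, (n * n)⁻¹ * a * (n * n) ∈ B := by
    intro a ha
    have : (n * n)⁻¹ * a * (n * n) = n⁻¹ * (n⁻¹ * a * n) * n := by group
    rw [this]
    exact h1 _ (norm_conj_mem hnH ha)
  have := D.panel_unique hC htr hn hnB (P.mul_mem hn hn) hnn h1 h2
  exact hnB (by simpa using this)

/-- The admissible subgroups: `T ≤ U`, normalised by `H`. -/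
def Adm (U H T : Subgroup G) : Prop := T ≤ U ∧ H ≤ Subgroup.normalizer (T : Set G)

/-- `stp` preserves admissibility. -/
theorem adm_stp (D : HallData p B U H) {T : Subgroup G} (hT : Adm U H T) {n : G}
    (hnH : n ∈ Subgroup.normalizer (H : Set G)) : Adm U H (stp B n T) := by
  have hnorm : H ≤ Subgroup.normalizer ((stp B n T : Subgroup G) : Set G) := by
    have key : ∀ a ∈ H, ∀ y ∈ stp B n T, a * y * a⁻¹ ∈ stp B n T := by
      intro a ha y hy
      rw [mem_stp] at hy ⊢
      refine ⟨?_, B.mul_mem (B.mul_mem (D.H_le ha) hy.2) (B.inv_mem (D.H_le ha))⟩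
      have h1 : n * a * n⁻¹ ∈ H := (Subgroup.mem_normalizer_iff.mp hnH a).mp ha
      have h2 := (Subgroup.mem_normalizer_iff.mp (hT.2 h1) _).mp hy.1
      have h3 : n * (a * y * a⁻¹) * n⁻¹ = (n * a * n⁻¹) * (n * y * n⁻¹) * (n * a * n⁻¹)⁻¹ := by group
      rw [h3]
      exact h2
    intro a ha
    rw [Subgroup.mem_normalizer_iff]
    intro y
    constructor
    · exact key a ha y
    · intro hy
      have := key a⁻¹ (H.inv_mem ha) _ hy
      simpa [mul_assoc] using this
  refine ⟨D.H0 (fun y hy => (mem_stp.mp hy).2) ?_ hnorm, hnorm⟩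
  rintro ⟨y, hy⟩
  have h1 : n * y * n⁻¹ ∈ U := hT.1 (mem_stp.mp hy).1
  obtain ⟨k, hk⟩ := D.U_pgroup ⟨_, h1⟩
  refine ⟨k, Subtype.ext ?_⟩
  have h2 : (n * y * n⁻¹) ^ p ^ k = 1 := by simpa using congrArg Subtype.val hk
  rw [conj_pow] at h2
  have h3 : y ^ p ^ k = 1 := by
    have := congrArg (fun z => n⁻¹ * z * n) h2
    simpa [mul_assoc] using this
  simpa using h3

end HallData

end Cfsg.Agent.ParSys.Hall

end

section


/-!
# Counting roots: `W` is finite, the length of `w₀` and the product of parameters along a reduced word of `w₀`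

`PosRoots A R` : `R` is a finite set of nonnegative nonzero vectors of the root lattice, containing the simple
roots, and `s_i` maps `R \ {α_i}` into itself.  Then `W` is finite, and for a weight `wt` which is invariant under
the `s_i`, `∏ wt` over `R` is the product of the `wt α_i` along any reduced word of `w₀`.
-/

set_option autoImplicit false

namespace Cfsg.Agent.ParSys.RootCount

open Cfsg.Agent.ChevalleyStructure.CoxeterGeom Cfsg.Agent.Tits.Core

variable {B : Type*} [Fintype B] [DecidableEq B]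

/-- a finite set of positive roots -/
structure PosRoots (A : B → B → ℤ) (R : Finset (B → ℤ)) : Prop where
  simple_mem : ∀ i, Pi.single i 1 ∈ R
  pos : ∀ v ∈ R, 0 ≤ v
  ne : (0 : B → ℤ) ∉ R
  perm : ∀ i, ∀ v ∈ R, v ≠ Pi.single i 1 → refl A i v ∈ R

variable {W : Type*} [Group W] {M : CoxeterMatrix B} {A : B → B → ℤ} {R : Finset (B → ℤ)}

theorem refl_refl (h : IsCartan M A) (i : B) (v : B → ℤ) : refl A i (refl A i v) = v := by
  have := refl_mul_self A i (h.diag i)
  have h2 := LinearMap.congr_fun this v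
  simpa using h2

namespace PosRoots

variable (hR : PosRoots A R) (h : IsCartan M A) (cs : CoxeterSystem M W)

include hR in
theorem not_both {v : B → ℤ} (h1 : v ∈ R) (h2 : -v ∈ R) : False := by
  have h3 := hR.pos v h1
  have h4 := hR.pos _ h2
  have h5 : v = 0 := le_antisymm (neg_nonneg.1 h4) h3
  exact hR.ne (h5 ▸ h1)

include hR in
theorem rep_mem (w : W) : ∀ v ∈ R, rep cs h w v ∈ R ∨ -(rep cs h w v) ∈ R := by
  refine cs.simple_induction_left (p := fun w => ∀ v ∈ R, rep cs h w v ∈ R ∨ -(rep cs h w v) ∈ R) w ?_ ?_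
  · intro v hv
    left
    rw [map_one, Module.End.one_apply]; exact hv
  · intro w i ih v hv
    rw [rep_mul_apply, rep_simple]
    rcases ih v hv with h1 | h1
    · by_cases h2 : rep cs h w v = Pi.single i 1
      · right
        rw [h2, refl_single_self h, neg_neg]; exact hR.simple_mem i
      · left; exact hR.perm i _ h1 h2
    · by_cases h2 : -(rep cs h w v) = Pi.single i 1
      · left
        have : rep cs h w v = - Pi.single i 1 := by rw [← h2, neg_neg]
        rw [this, map_neg, refl_single_self h, neg_neg]; exact hR.simple_mem i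
      · right
        rw [← map_neg]; exact hR.perm i _ h1 h2

include hR in
theorem rep_mem_iff (w : W) {v : B → ℤ} (hv : v ∈ R) : rep cs h w v ∉ R ↔ -(rep cs h w v) ∈ R :=
  ⟨fun h1 => (hR.rep_mem h cs w v hv).resolve_left h1, fun h1 h2 => hR.not_both h2 h1⟩

include hR h cs in
theorem finite : Finite W := by
  classical
  let T : Finset (B → ℤ) := R ∪ R.image (fun v => -v)
  have hT : ∀ (w : W) (i : B), rep cs h w (Pi.single i 1) ∈ T := by
    intro w i
    rcases hR.rep_mem h cs w _ (hR.simple_mem i) with h1 | h1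
    · exact Finset.mem_union_left _ h1
    · exact Finset.mem_union_right _ (Finset.mem_image.2 ⟨_, h1, neg_neg _⟩)
  refine Finite.of_injective (fun (w : W) (i : B) => (⟨rep cs h w (Pi.single i 1), hT w i⟩ : T)) ?_
  intro v w hvw
  have h1 : ∀ i, rep cs h v (Pi.single i 1) = rep cs h w (Pi.single i 1) := fun i =>
    congrArg Subtype.val (congrFun hvw i)
  have h2 : w⁻¹ * v = 1 := by
    refine eq_one_of_fix cs h _ fun i => ?_
    rw [rep_mul_apply, h1, ← rep_mul_apply, inv_mul_cancel, map_one, Module.End.one_apply]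
  exact (inv_mul_eq_one.1 h2).symm

open Classical in
/-- the inversion set -/
noncomputable def invs (h : IsCartan M A) (cs : CoxeterSystem M W) (R : Finset (B → ℤ)) (w : W) : Finset (B → ℤ) :=
  R.filter fun v => rep cs h w v ∉ R

theorem mem_invs {w : W} {v : B → ℤ} : v ∈ invs h cs R w ↔ v ∈ R ∧ rep cs h w v ∉ R := by
  unfold invs; rw [Finset.mem_filter]

include hR in
theorem mem_of_lt {w : W} {i : B} (hl : cs.length w < cs.length (w * cs.simple i)) :
    rep cs h w (Pi.single i 1) ∈ R := by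
  rcases hR.rep_mem h cs w _ (hR.simple_mem i) with h1 | h1
  · exact h1
  · exfalso
    have h2 := (lt_iff' cs h w i).1 hl
    have h3 := hR.pos _ h1
    exact rep_single_ne_zero cs h w i (le_antisymm (neg_nonneg.1 h3) h2)

include hR in
theorem not_mem_of_lt {w : W} {i : B} (hl : cs.length (w * cs.simple i) < cs.length w) :
    rep cs h w (Pi.single i 1) ∉ R := fun h1 =>
  rep_single_ne_zero cs h w i (le_antisymm ((lt_iff cs h w i).1 hl) (hR.pos _ h1))

include hR in
theorem invs_mul {w : W} {i : B} (hl : cs.length w < cs.length (w * cs.simple i)) :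
    invs h cs R (w * cs.simple i) = insert (Pi.single i 1) ((invs h cs R w).image (refl A i)) := by
  have hm := hR.mem_of_lt h cs hl
  have hns : -(Pi.single i 1 : B → ℤ) ∉ R := fun h1 => hR.not_both (hR.simple_mem i) h1
  ext v
  rw [mem_invs, Finset.mem_insert, Finset.mem_image]
  constructor
  · rintro ⟨h1, h2⟩
    by_cases h3 : v = Pi.single i 1
    · exact Or.inl h3
    · right
      refine ⟨refl A i v, ?_, refl_refl h i v⟩
      rw [mem_invs]
      rw [rep_mul_apply, rep_simple] at h2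
      exact ⟨hR.perm i v h1 h3, h2⟩
  · rintro (rfl | ⟨u, hu, rfl⟩)
    · refine ⟨hR.simple_mem i, fun h1 => ?_⟩
      rw [rep_mul_simple_single] at h1
      exact hR.not_both hm h1
    · rw [mem_invs] at hu
      obtain ⟨h1, h2⟩ := hu
      have h3 : u ≠ Pi.single i 1 := fun h4 => h2 (h4 ▸ hm)
      refine ⟨hR.perm i u h1 h3, ?_⟩
      rw [rep_mul_apply, rep_simple, refl_refl h]
      exact h2

include hR in
theorem not_mem_image {w : W} {i : B} :
    (Pi.single i 1 : B → ℤ) ∉ (invs h cs R w).image (refl A i) := by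
  rw [Finset.mem_image]
  rintro ⟨u, hu, h1⟩
  rw [mem_invs] at hu
  have h2 : u = - Pi.single i 1 := by
    rw [← refl_refl h i u, h1, refl_single_self h]
  exact hR.not_both (hR.simple_mem i) (h2 ▸ hu.1)

include hR in
/-- the product of a weight along a reduced word -/
theorem prod_word {T : Type*} [CommMonoid T] (wt : (B → ℤ) → T)
    (hwt : ∀ i, ∀ v ∈ R, v ≠ Pi.single i 1 → wt (refl A i v) = wt v) (F : List B) (hF : cs.IsReduced F) :
    (F.map fun i => wt (Pi.single i 1)).prod = ∏ v ∈ invs h cs R (cs.wordProd F), wt v := by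
  induction F using List.reverseRecOn with
  | nil =>
    rw [List.map_nil, List.prod_nil, cs.wordProd_nil]
    have : invs h cs R (1 : W) = ∅ := by
      ext v
      rw [mem_invs, map_one, Module.End.one_apply]
      simp
    rw [this, Finset.prod_empty]
  | append_singleton F i ih =>
    have hF' : cs.IsReduced F := by
      have := hF.take F.length
      rwa [List.take_left'] at this
      rfl
    have e : cs.wordProd (F ++ [i]) = cs.wordProd F * cs.simple i := by
      rw [cs.wordProd_append, cs.wordProd_singleton]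
    have hl : cs.length (cs.wordProd F) < cs.length (cs.wordProd F * cs.simple i) := by
      rw [← e, hF.eq, hF'.eq]; simp
    rw [e, hR.invs_mul h cs hl, Finset.prod_insert (hR.not_mem_image h cs), Finset.prod_image
      (fun x _ y _ hxy => by rw [← refl_refl h i x, hxy, refl_refl h]), List.map_append, List.prod_append,
      ih hF', List.map_singleton, List.prod_singleton, mul_comm]
    congr 1
    refine (Finset.prod_congr rfl fun v hv => ?_)
    rw [mem_invs] at hv
    refine (hwt i v hv.1 fun h4 => hv.2 ?_).symm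
    rw [h4]; exact hR.mem_of_lt h cs hl

include hR in
theorem invs_of_max {w : W} (hw : ∀ i, cs.length (w * cs.simple i) < cs.length w) : invs h cs R w = R := by
  ext v
  rw [mem_invs]
  refine ⟨fun h1 => h1.1, fun h1 => ⟨h1, fun h2 => ?_⟩⟩
  have h3 : rep cs h w v ≤ 0 := by
    have e : v = ∑ i, v i • (Pi.single i 1 : B → ℤ) := by
      conv_lhs => rw [← Finset.univ_sum_single v]
      exact Finset.sum_congr rfl fun i _ => by rw [single_eq_smul i (v i)]
    rw [e, map_sum]
    refine Finset.sum_nonpos fun i _ => ?_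
    rw [map_smul]
    have h4 := (lt_iff cs h w i).1 (hw i)
    have h5 := hR.pos v h1 i
    exact smul_nonpos_of_nonneg_of_nonpos h5 h4
  have h6 : rep cs h w v = 0 := le_antisymm h3 (hR.pos _ h2)
  rw [h6] at h2
  exact hR.ne h2

include hR h in
theorem prod_w0 [Finite W] {T : Type*} [CommMonoid T] (wt : (B → ℤ) → T)
    (hwt : ∀ i, ∀ v ∈ R, v ≠ Pi.single i 1 → wt (refl A i v) = wt v) (F : List B) (hF : cs.IsReduced F)
    (hw : cs.wordProd F = w0 cs) :
    (F.map fun i => wt (Pi.single i 1)).prod = ∏ v ∈ R, wt v := by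
  rw [hR.prod_word h cs wt hwt F hF, hR.invs_of_max h cs]
  intro i
  rw [hw]
  have := Tits.Exchange.length_w0_mul cs (cs.simple i)
  rw [cs.length_simple] at this
  omega

include hR h in
theorem length_w0 [Finite W] (F : List B) (hF : cs.IsReduced F) (hw : cs.wordProd F = w0 cs) :
    F.length = R.card := by
  have h1 := hR.prod_w0 h cs (fun _ => 2) (fun _ _ _ _ => rfl) F hF hw
  simp only [List.map_const', List.prod_replicate, Finset.prod_const] at h1
  exact Nat.pow_right_injective le_rfl h1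

end PosRoots

/-! ### Roots in another lattice -/

/-- positive roots, in a lattice `L` in which the root lattice is embedded -/
structure Roots (A : B → B → ℤ) {L : Type*} [AddCommGroup L] (f : (B → ℤ) →+ L) (ρ : B → L → L) (Φ : Finset L) :
    Prop where
  inj : Function.Injective f
  comm : ∀ i v, f (refl A i v) = ρ i (f v)
  simple_mem : ∀ i, f (Pi.single i 1) ∈ Φ
  pos : ∀ α ∈ Φ, ∃ v, 0 ≤ v ∧ f v = α
  ne : (0 : L) ∉ Φ
  perm : ∀ i, ∀ α ∈ Φ, α ≠ f (Pi.single i 1) → ρ i α ∈ Φ

namespace Roots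

variable {L : Type*} [AddCommGroup L] {f : (B → ℤ) →+ L} {ρ : B → L → L} {Φ : Finset L}

theorem posRoots (hΦ : Roots A f ρ Φ) : PosRoots A (Φ.preimage f hΦ.inj.injOn) where
  simple_mem i := by rw [Finset.mem_preimage]; exact hΦ.simple_mem i
  pos v hv := by
    rw [Finset.mem_preimage] at hv
    obtain ⟨u, hu, h1⟩ := hΦ.pos _ hv
    rw [← hΦ.inj h1]; exact hu
  ne h0 := by
    rw [Finset.mem_preimage, map_zero] at h0
    exact hΦ.ne h0
  perm i v hv hne := by
    rw [Finset.mem_preimage] at hv ⊢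
    rw [hΦ.comm]
    exact hΦ.perm i _ hv fun h1 => hne (hΦ.inj h1)

theorem finite (hΦ : Roots A f ρ Φ) (h : IsCartan M A) (cs : CoxeterSystem M W) : Finite W :=
  hΦ.posRoots.finite h cs

theorem prod_w0 (hΦ : Roots A f ρ Φ) (h : IsCartan M A) (cs : CoxeterSystem M W) [Finite W] {T : Type*}
    [CommMonoid T] (wt : L → T) (hwt : ∀ i, ∀ α ∈ Φ, α ≠ f (Pi.single i 1) → wt (ρ i α) = wt α) (F : List B)
    (hF : cs.IsReduced F) (hw : cs.wordProd F = w0 cs) :
    (F.map fun i => wt (f (Pi.single i 1))).prod = ∏ α ∈ Φ, wt α := by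
  rw [hΦ.posRoots.prod_w0 h cs (fun v => wt (f v)) ?_ F hF hw]
  · refine Finset.prod_preimage f Φ hΦ.inj.injOn wt ?_
    intro α hα hα2
    obtain ⟨v, -, h1⟩ := hΦ.pos α hα
    exact absurd ⟨v, h1⟩ hα2
  · intro i v hv hne
    rw [Finset.mem_preimage] at hv
    show wt (f (refl A i v)) = wt (f v)
    rw [hΦ.comm]
    exact hwt i _ hv fun h1 => hne (hΦ.inj h1)

theorem length_w0 (hΦ : Roots A f ρ Φ) (h : IsCartan M A) (cs : CoxeterSystem M W) [Finite W] (F : List B)
    (hF : cs.IsReduced F) (hw : cs.wordProd F = w0 cs) : F.length = Φ.card := by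
  have h1 := hΦ.prod_w0 h cs (fun _ => 2) (fun _ _ _ _ => rfl) F hF hw
  simp only [List.map_const', List.prod_replicate, Finset.prod_const] at h1
  exact Nat.pow_right_injective le_rfl h1

end Roots

end Cfsg.Agent.ParSys.RootCount

end

section


/-!
# Positive roots of type `A`, `B`, `D` in `ε`-coordinates

`TypeA/B/D M` describe the Coxeter matrices on `Fin n` (Mathlib's `CoxeterMatrix.D` is not of type `D_n`).
-/

set_option autoImplicit false
set_option linter.unusedSectionVars false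

namespace Cfsg.Agent.ParSys.RootEps

open Cfsg.Agent.ChevalleyStructure.CoxeterGeom Cfsg.Agent.Tits.Core Cfsg.Agent.ParSys.RootCount

/-! ### General construction -/

section general

variable {B : Type*} [Fintype B] [DecidableEq B] {L : Type*} [AddCommGroup L] (a : B → L) (c : B → L →+ ℤ)

/-- the Cartan matrix of a system of simple roots and coroots -/
def car (i j : B) : ℤ := c i (a j)

/-- the linear combination of simple roots -/
def lin : (B → ℤ) →+ L where
  toFun v := ∑ i, v i • a i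
  map_zero' := by simp
  map_add' u v := by simp [add_smul, Finset.sum_add_distrib]

theorem lin_apply (v : B → ℤ) : lin a v = ∑ i, v i • a i := rfl

theorem lin_single (i : B) (x : ℤ) : lin a (Pi.single i x) = x • a i := by
  rw [lin_apply, Finset.sum_eq_single i]
  · rw [Pi.single_eq_same]
  · intro j _ hj
    rw [Pi.single_eq_of_ne hj, zero_smul]
  · intro h; exact absurd (Finset.mem_univ i) h

/-- the reflection -/
def rho (i : B) (x : L) : L := x - c i x • a i

theorem rho_add (i : B) (x y : L) : rho a c i (x + y) = rho a c i x + rho a c i y := by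
  unfold rho; rw [map_add, add_smul]; abel

theorem rho_neg (i : B) (x : L) : rho a c i (-x) = - rho a c i x := by
  unfold rho; rw [map_neg, neg_smul]; abel

theorem rho_sub (i : B) (x y : L) : rho a c i (x - y) = rho a c i x - rho a c i y := by
  rw [sub_eq_add_neg, rho_add, rho_neg, ← sub_eq_add_neg]

theorem lin_refl (i : B) (v : B → ℤ) : lin a (refl (car a c) i v) = rho a c i (lin a v) := by
  rw [refl_apply, map_sub, lin_single]
  unfold rho
  congr 2
  unfold pairing car
  rw [lin_apply, map_sum]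
  exact Finset.sum_congr rfl fun j _ => by rw [map_zsmul, smul_eq_mul, mul_comm]

/-- the cone of the simple roots -/
def cone : AddSubmonoid L := AddSubmonoid.closure (Set.range a)

theorem mem_cone (i : B) : a i ∈ cone a := AddSubmonoid.subset_closure ⟨i, rfl⟩

theorem exists_of_cone {x : L} (hx : x ∈ cone a) : ∃ v, 0 ≤ v ∧ lin a v = x := by
  induction hx using AddSubmonoid.closure_induction with
  | mem x hx =>
    obtain ⟨i, rfl⟩ := hx
    exact ⟨Pi.single i 1, Pi.single_nonneg.2 zero_le_one, by rw [lin_single, one_smul]⟩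
  | zero => exact ⟨0, le_rfl, map_zero _⟩
  | add x y _ _ hx hy =>
    obtain ⟨u, hu, rfl⟩ := hx
    obtain ⟨v, hv, rfl⟩ := hy
    exact ⟨u + v, add_nonneg hu hv, map_add _ _ _⟩

theorem lin_injective (ω : B → L →+ ℤ) (h0 : ∀ i j, i ≠ j → ω j (a i) = 0) (h1 : ∀ j, ω j (a j) ≠ 0) :
    Function.Injective (lin a) := by
  rw [injective_iff_map_eq_zero]
  intro v hv
  funext j
  have h2 := congrArg (ω j) hv
  rw [lin_apply, map_sum, map_zero, Finset.sum_eq_single j] at h2
  · rw [map_zsmul, smul_eq_mul] at h2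
    exact (mul_eq_zero.1 h2).resolve_right (h1 j)
  · intro i _ hij
    rw [map_zsmul, h0 i j hij, smul_zero]
  · intro h; exact absurd (Finset.mem_univ j) h

theorem roots_mk {Φ : Finset L} (ω : B → L →+ ℤ) (h0 : ∀ i j, i ≠ j → ω j (a i) = 0)
    (h1 : ∀ j, ω j (a j) ≠ 0) (hs : ∀ i, a i ∈ Φ) (hc : ∀ α ∈ Φ, α ∈ cone a) (hne : (0 : L) ∉ Φ)
    (hp : ∀ i, ∀ α ∈ Φ, α ≠ a i → rho a c i α ∈ Φ) : Roots (car a c) (lin a) (rho a c) Φ where
  inj := lin_injective a ω h0 h1
  comm := lin_refl a c
  simple_mem i := by rw [lin_single, one_smul]; exact hs i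
  pos α hα := exists_of_cone a (hc α hα)
  ne := hne
  perm i α hα hn := hp i α hα (by rwa [lin_single, one_smul] at hn)

end general

/-! ### The lattice -/

/-- the vector `ε_k` -/
def E (k : ℕ) : ℕ → ℤ := Pi.single k 1

theorem E_apply (k i : ℕ) : E k i = if i = k then 1 else 0 := Pi.single_apply k 1 i

/-- coordinate -/
def co (k : ℕ) : (ℕ → ℤ) →+ ℤ := Pi.evalAddMonoidHom (fun _ => ℤ) k

theorem co_apply (k : ℕ) (x : ℕ → ℤ) : co k x = x k := rfl

/-- sum of the first coordinates -/
def S (j : ℕ) : (ℕ → ℤ) →+ ℤ := ∑ k ∈ Finset.range j, co k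

theorem S_apply (j : ℕ) (x : ℕ → ℤ) : S j x = ∑ k ∈ Finset.range j, x k := by
  unfold S; rw [AddMonoidHom.finsetSum_apply]; rfl

theorem S_E (j k : ℕ) : S j (E k) = if k < j then 1 else 0 := by
  rw [S_apply]
  simp only [E_apply]
  rw [Finset.sum_ite_eq']
  simp

theorem E_injective : Function.Injective E := by
  intro i j h
  by_contra hne
  have := congrFun h i
  rw [E_apply, E_apply, if_pos rfl, if_neg hne] at this
  exact one_ne_zero this

/-- pairs `i < j < n` -/
def pairs (n : ℕ) : Finset ((_ : ℕ) × ℕ) := (Finset.range n).sigma fun j => Finset.range j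

theorem mem_pairs {n : ℕ} {x : (_ : ℕ) × ℕ} : x ∈ pairs n ↔ x.1 < n ∧ x.2 < x.1 := by
  unfold pairs; rw [Finset.mem_sigma, Finset.mem_range, Finset.mem_range]

theorem card_pairs (n : ℕ) : (pairs n).card = n * (n - 1) / 2 := by
  unfold pairs
  rw [Finset.card_sigma]
  simp only [Finset.card_range]
  exact Finset.sum_range_id n

theorem card_pairs_two (n : ℕ) : (pairs n).card * 2 = n * (n - 1) := by
  unfold pairs
  rw [Finset.card_sigma]
  simp only [Finset.card_range]
  exact Finset.sum_range_id_mul_two n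

section

open Classical

/-- `ε_i - ε_j`, `i < j < n` -/
noncomputable def minus (n : ℕ) : Finset (ℕ → ℤ) := (pairs n).image fun x => E x.2 - E x.1

/-- `ε_i + ε_j`, `i < j < n` -/
noncomputable def plus (n : ℕ) : Finset (ℕ → ℤ) := (pairs n).image fun x => E x.2 + E x.1

/-- `ε_i`, `i < n` -/
noncomputable def short (n : ℕ) : Finset (ℕ → ℤ) := (Finset.range n).image E

theorem mem_minus {n : ℕ} {α : ℕ → ℤ} : α ∈ minus n ↔ ∃ i j, i < j ∧ j < n ∧ α = E i - E j := by
  unfold minus
  rw [Finset.mem_image]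
  constructor
  · rintro ⟨x, hx, rfl⟩
    rw [mem_pairs] at hx
    exact ⟨_, _, hx.2, hx.1, rfl⟩
  · rintro ⟨i, j, h1, h2, rfl⟩
    exact ⟨⟨j, i⟩, mem_pairs.2 ⟨h2, h1⟩, rfl⟩

theorem mem_plus {n : ℕ} {α : ℕ → ℤ} : α ∈ plus n ↔ ∃ i j, i < j ∧ j < n ∧ α = E i + E j := by
  unfold plus
  rw [Finset.mem_image]
  constructor
  · rintro ⟨x, hx, rfl⟩
    rw [mem_pairs] at hx
    exact ⟨_, _, hx.2, hx.1, rfl⟩
  · rintro ⟨i, j, h1, h2, rfl⟩
    exact ⟨⟨j, i⟩, mem_pairs.2 ⟨h2, h1⟩, rfl⟩

theorem mem_short {n : ℕ} {α : ℕ → ℤ} : α ∈ short n ↔ ∃ i, i < n ∧ α = E i := by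
  unfold short
  rw [Finset.mem_image]
  constructor
  · rintro ⟨x, hx, rfl⟩
    exact ⟨x, Finset.mem_range.1 hx, rfl⟩
  · rintro ⟨i, h1, rfl⟩
    exact ⟨i, Finset.mem_range.2 h1, rfl⟩

theorem card_minus (n : ℕ) : (minus n).card = (pairs n).card := by
  unfold minus
  apply Finset.card_image_of_injOn
  rintro ⟨j, i⟩ hx ⟨j', i'⟩ hy h
  have hx' := mem_pairs.1 (Finset.mem_coe.1 hx)
  have hy' := mem_pairs.1 (Finset.mem_coe.1 hy)
  have h : E i - E j = E i' - E j' := h
  simp only at hx' hy'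
  have h1 := congrFun h i
  have h2 := congrFun h j
  simp only [Pi.sub_apply, E_apply, reduceIte] at h1 h2
  have e1 : i = i' := by
    by_contra hne
    split_ifs at h1 <;> omega
  have e2 : j = j' := by
    by_contra hne
    split_ifs at h2 <;> omega
  rw [e1, e2]

theorem card_plus (n : ℕ) : (plus n).card = (pairs n).card := by
  unfold plus
  apply Finset.card_image_of_injOn
  rintro ⟨j, i⟩ hx ⟨j', i'⟩ hy h
  have hx' := mem_pairs.1 (Finset.mem_coe.1 hx)
  have hy' := mem_pairs.1 (Finset.mem_coe.1 hy)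
  have h : E i + E j = E i' + E j' := h
  simp only at hx' hy'
  have h1 := congrFun h i
  have h2 := congrFun h j
  have h3 := congrFun h i'
  simp only [Pi.add_apply, E_apply, reduceIte] at h1 h2 h3
  have e1 : i = i' := by
    by_contra hne
    split_ifs at h1 h3 <;> omega
  have e2 : j = j' := by
    by_contra hne
    split_ifs at h2 <;> omega
  rw [e1, e2]

theorem card_short (n : ℕ) : (short n).card = n := by
  unfold short
  rw [Finset.card_image_of_injective _ E_injective, Finset.card_range]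

end

/-! ### Type A -/

section A

variable {n : ℕ}

def aA (i : Fin n) : ℕ → ℤ := E i - E (i + 1)
def cA (i : Fin n) : (ℕ → ℤ) →+ ℤ := co i - co (i + 1)

theorem cA_apply (i : Fin n) (x : ℕ → ℤ) : cA i x = x i - x (i + 1) := rfl

/-- type `A_n` -/
def TypeA (M : CoxeterMatrix (Fin n)) : Prop :=
  ∀ i j : Fin n, i ≠ j → M i j = if (i : ℕ) + 1 = j ∨ (j : ℕ) + 1 = i then 3 else 2

theorem car_A (i j : Fin n) : car aA cA i j =
    if i = j then 2 else if (i : ℕ) + 1 = j ∨ (j : ℕ) + 1 = i then -1 else 0 := by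
  unfold car
  rw [cA_apply]
  unfold aA
  simp only [Pi.sub_apply, E_apply, Fin.ext_iff]
  split_ifs <;> omega

theorem isCartan_A {M : CoxeterMatrix (Fin n)} (hM : TypeA M) : IsCartan M (car (aA (n := n)) cA) where
  diag i := by rw [car_A, if_pos rfl]
  rel i j hij := by
    rw [hM i j hij, car_A, car_A, if_neg hij, if_neg (Ne.symm hij)]
    by_cases h : (i : ℕ) + 1 = j ∨ (j : ℕ) + 1 = i
    · rw [if_pos h, if_pos h, if_pos h.symm]; right; left; exact ⟨rfl, rfl, rfl⟩
    · rw [if_neg h, if_neg h, if_neg (fun h' => h h'.symm)]; left; exact ⟨rfl, rfl, rfl⟩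

/-- the transposition reflection on `ε_j` -/
theorem rho_A (i : Fin n) (j : ℕ) : rho aA cA i (E j) =
    if j = i then E (i + 1) else if j = i + 1 then E i else E j := by
  unfold rho
  rw [cA_apply]
  unfold aA
  simp only [E_apply]
  by_cases h1 : j = i
  · subst h1
    rw [if_pos rfl, if_pos rfl, if_neg (by omega), sub_zero, one_smul]; abel
  · by_cases h2 : j = i + 1
    · subst h2
      rw [if_neg (by omega), if_neg h1, if_pos rfl, if_pos rfl, zero_sub, neg_smul, one_smul]; abel
    · rw [if_neg h1, if_neg h2, if_neg (Ne.symm h1), if_neg (Ne.symm h2), sub_zero, zero_smul, sub_zero]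

theorem cone_A {i j : ℕ} (hij : i < j) (hj : j ≤ n) : E i - E j ∈ cone (aA (n := n)) := by
  induction j with
  | zero => omega
  | succ j ih =>
    have h1 : E j - E (j + 1) ∈ cone (aA (n := n)) := mem_cone aA (⟨j, by omega⟩ : Fin n)
    rcases Nat.lt_or_ge i j with h | h
    · have h2 := add_mem (ih h (by omega)) h1
      have e : E i - E j + (E j - E (j + 1)) = E i - E (j + 1) := by abel
      rwa [e] at h2
    · obtain rfl : i = j := by omega
      exact h1

theorem perm_A {i : Fin n} {a b : ℕ} (hab : a < b) (hb : b ≤ n) (hne : E a - E b ≠ aA i) :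
    ∃ a' b', a' < b' ∧ b' ≤ n ∧ rho aA cA i (E a - E b) = E a' - E b' := by
  have hi := i.2
  have hne' : ¬ (a = i ∧ b = i + 1) := by
    rintro ⟨rfl, rfl⟩; exact hne rfl
  rw [rho_sub, rho_A, rho_A]
  by_cases h1 : a = i
  · rw [if_pos h1, if_neg (by omega), if_neg (by omega)]
    exact ⟨_, _, by omega, hb, rfl⟩
  · rw [if_neg h1]
    by_cases h2 : a = i + 1
    · rw [if_pos h2, if_neg (by omega), if_neg (by omega)]
      exact ⟨_, _, by omega, hb, rfl⟩
    · rw [if_neg h2]
      by_cases h3 : b = i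
      · rw [if_pos h3]
        exact ⟨_, _, by omega, by omega, rfl⟩
      · rw [if_neg h3]
        by_cases h4 : b = i + 1
        · rw [if_pos h4]
          exact ⟨_, _, by omega, by omega, rfl⟩
        · rw [if_neg h4]
          exact ⟨_, _, hab, hb, rfl⟩

theorem sub_ne_zero' {a b : ℕ} (hab : a ≠ b) : E a - E b ≠ 0 := by
  intro h
  exact hab (E_injective (sub_eq_zero.1 h))

theorem add_ne_zero' (a b : ℕ) : E a + E b ≠ 0 := by
  intro h
  have := congrFun h a
  simp only [Pi.add_apply, E_apply, Pi.zero_apply] at this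
  split_ifs at this <;> omega

theorem E_ne_zero (a : ℕ) : E a ≠ 0 := by
  intro h
  have := congrFun h a
  simp only [E_apply, Pi.zero_apply] at this
  split_ifs at this <;> omega

theorem roots_A : Roots (car (aA (n := n)) cA) (lin aA) (rho aA cA) (minus (n + 1)) := by
  refine roots_mk aA cA (fun j => S (j + 1)) ?_ ?_ ?_ ?_ ?_ ?_
  · intro i j hij
    unfold aA
    rw [map_sub, S_E, S_E]
    have : (i : ℕ) ≠ j := fun h => hij (Fin.ext h)
    split_ifs <;> omega
  · intro j
    unfold aA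
    rw [map_sub, S_E, S_E]
    split_ifs <;> omega
  · intro i
    rw [mem_minus]
    exact ⟨i, i + 1, by omega, by omega, rfl⟩
  · intro α hα
    rw [mem_minus] at hα
    obtain ⟨i, j, h1, h2, rfl⟩ := hα
    exact cone_A h1 (by omega)
  · intro h0
    rw [mem_minus] at h0
    obtain ⟨i, j, h1, -, h3⟩ := h0
    exact sub_ne_zero' (by omega) h3.symm
  · intro i α hα hne
    rw [mem_minus] at hα
    obtain ⟨a, b, h1, h2, rfl⟩ := hα
    obtain ⟨a', b', h3, h4, h5⟩ := perm_A h1 (by omega) hne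
    rw [mem_minus]
    exact ⟨a', b', h3, by omega, h5⟩

end A

end Cfsg.Agent.ParSys.RootEps

end

section


/-!
# The residues of rank two over full stabilisers: digons, projective planes, generalised quadrangles

`Inc`: the subgroup `H` of `G` acts on points and lines, `B = Stab_H(p₀, L₀)`, `P i = Stab_H(L₀)` is transitive on the
points of `L₀` and `P j = Stab_H(p₀)` is transitive on the lines through `p₀`.

`Inc.rk_two`, `Inc.rk_three`, `Inc.rk_four` : the condition `GP` of the chamber system of the cosets of `B`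
(definitionally `RankTwo.GPp`), if the points and lines form a digon, a projective plane, a generalised quadrangle;
`Inc.symm` exchanges points and lines.
-/

set_option autoImplicit false

namespace Cfsg.Agent.ParSys.Polar.Incid

open Cfsg.Agent.ParSys Cfsg.Agent.ParSys.Free

variable {G : Type*} [Group G] {I : Type*} {B : Subgroup G} {P : I → Subgroup G}

/-- the condition `GP` for one pair (the same as `RankTwo.GPp`) -/
def Rk (B : Subgroup G) (P : I → Subgroup G) (i j : I) (m : ℕ) : Prop :=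
  ∀ c l, IsGal (adj B P) (alt i j m) c l →
    ∃! l', IsGal (adj B P) (alt j i m) c l' ∧ l'.getLastD c = l.getLastD c

theorem gp_iff {m : I → I → ℕ} : GP B P m ↔ ∀ i j, i ≠ j → Rk B P i j (m i j) := Iff.rfl

theorem isGal_smul {f : List I} {c : G ⧸ B} {l : List (G ⧸ B)} (g : G) (h : IsGal (adj B P) f c l) :
    IsGal (adj B P) f (g • c) (l.map (g • ·)) :=
  IsGal.map (g := fun c : G ⧸ B => g • c) (fun _ _ _ hcd => adj_smul g hcd) h

theorem last_smul (g : G) (c : G ⧸ B) (l : List (G ⧸ B)) :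
    (l.map (g • ·)).getLastD (g • c) = g • l.getLastD c :=
  getLastD_map (fun c : G ⧸ B => g • c) c l

/-- it suffices to look at the galleries which start in `B` -/
theorem rk_of_one {i j : I} {m : ℕ} (h : ∀ l, IsGal (adj B P) (alt i j m) ((1 : G) : G ⧸ B) l →
    ∃! l', IsGal (adj B P) (alt j i m) ((1 : G) : G ⧸ B) l' ∧
      l'.getLastD ((1 : G) : G ⧸ B) = l.getLastD ((1 : G) : G ⧸ B)) : Rk B P i j m := by
  intro c l hl
  induction c using QuotientGroup.induction_on with
  | _ x =>
  have ex : ((x : G) : G ⧸ B) = x • ((1 : G) : G ⧸ B) := by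
    show ((x : G) : G ⧸ B) = ((x * 1 : G) : G ⧸ B)
    rw [mul_one]
  have e1 : x⁻¹ • ((x : G) : G ⧸ B) = ((1 : G) : G ⧸ B) := by rw [ex, inv_smul_smul]
  have h1 := isGal_smul x⁻¹ hl
  rw [e1] at h1
  obtain ⟨l', ⟨h2, h3⟩, h4⟩ := h _ h1
  have e2 := last_smul x⁻¹ ((x : G) : G ⧸ B) l
  rw [e1] at e2
  rw [e2] at h3
  refine ⟨l'.map (x • ·), ⟨?_, ?_⟩, ?_⟩
  · have := isGal_smul x h2
    rwa [← ex] at this
  · have := last_smul x ((1 : G) : G ⧸ B) l'
    rw [← ex] at this
    rw [this, h3, smul_inv_smul]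
  · rintro l'' ⟨h5, h6⟩
    have h7 := isGal_smul x⁻¹ h5
    rw [e1] at h7
    have e3 := last_smul x⁻¹ ((x : G) : G ⧸ B) l''
    rw [e1] at e3
    have h8 := h4 _ ⟨h7, by show (l''.map (x⁻¹ • ·)).getLastD _ = _; rw [e3, e2, h6]⟩
    rw [← h8, List.map_map]
    have : ((fun c : G ⧸ B => x • c) ∘ fun c : G ⧸ B => x⁻¹ • c) = id := by
      funext c; exact smul_inv_smul x c
    rw [this, List.map_id]

variable {H : Subgroup G} {α β : Type*}

/-- the coset geometry of `P i`, `P j` over `B` is a geometry of points and lines -/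
structure Inc (B : Subgroup G) (P : I → Subgroup G) (i j : I) (H : Subgroup G) (a : ↥H →* Equiv.Perm α)
    (b : ↥H →* Equiv.Perm β) (Pt : Set α) (Ln : Set β) (inc : α → β → Prop) (p₀ : α) (L₀ : β) : Prop where
  le : ∀ k, B ≤ P k
  iH : P i ≤ H
  jH : P j ≤ H
  p0 : p₀ ∈ Pt
  L0 : L₀ ∈ Ln
  inc0 : inc p₀ L₀
  aPt : ∀ h, ∀ p ∈ Pt, a h p ∈ Pt
  bLn : ∀ h, ∀ L ∈ Ln, b h L ∈ Ln
  inv : ∀ h, ∀ p ∈ Pt, ∀ L ∈ Ln, inc p L → inc (a h p) (b h L)
  memB : ∀ h : ↥H, (h : G) ∈ B ↔ a h p₀ = p₀ ∧ b h L₀ = L₀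
  memi : ∀ h : ↥H, (h : G) ∈ P i ↔ b h L₀ = L₀
  memj : ∀ h : ↥H, (h : G) ∈ P j ↔ a h p₀ = p₀
  tri : ∀ p ∈ Pt, inc p L₀ → ∃ h : ↥H, b h L₀ = L₀ ∧ a h p₀ = p
  trj : ∀ L ∈ Ln, inc p₀ L → ∃ h : ↥H, a h p₀ = p₀ ∧ b h L₀ = L

namespace Inc

variable {i j : I} {a : ↥H →* Equiv.Perm α} {b : ↥H →* Equiv.Perm β} {Pt : Set α} {Ln : Set β}
  {inc : α → β → Prop} {p₀ : α} {L₀ : β} (h : Inc B P i j H a b Pt Ln inc p₀ L₀)

include h

theorem symm : Inc B P j i H b a Ln Pt (fun L p => inc p L) L₀ p₀ where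
  le := h.le
  iH := h.jH
  jH := h.iH
  p0 := h.L0
  L0 := h.p0
  inc0 := h.inc0
  aPt := h.bLn
  bLn := h.aPt
  inv x L hL p hp hi := h.inv x p hp L hL hi
  memB x := (h.memB x).trans And.comm
  memi := h.memj
  memj := h.memi
  tri := h.trj
  trj := h.tri

theorem mk_eq {x y : ↥H} : ((x : G) : G ⧸ B) = ((y : G) : G ⧸ B) ↔ a x p₀ = a y p₀ ∧ b x L₀ = b y L₀ := by
  have e : ((x : G))⁻¹ * (y : G) = ((x⁻¹ * y : ↥H) : G) := by simp
  rw [QuotientGroup.eq, e, h.memB, map_mul, map_mul, map_inv, map_inv, Equiv.Perm.mul_apply, Equiv.Perm.mul_apply,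
    Equiv.Perm.inv_eq_iff_eq, Equiv.Perm.inv_eq_iff_eq]
  exact ⟨fun h => ⟨h.1.symm, h.2.symm⟩, fun h => ⟨h.1.symm, h.2.symm⟩⟩

theorem adj_i {x : ↥H} {d : G ⧸ B} : adj B P i ((x : G) : G ⧸ B) d ↔
    ∃ y : ↥H, d = ((y : G) : G ⧸ B) ∧ b y L₀ = b x L₀ ∧ a y p₀ ≠ a x p₀ := by
  have e : ∀ y : ↥H, ((x : G))⁻¹ * (y : G) = ((x⁻¹ * y : ↥H) : G) := fun y => by simp
  have hi : ∀ y : ↥H, ((x : G))⁻¹ * (y : G) ∈ P i ↔ b y L₀ = b x L₀ := fun y => by
    rw [e, h.memi, map_mul, map_inv, Equiv.Perm.mul_apply, Equiv.Perm.inv_eq_iff_eq]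
  have hB : ∀ y : ↥H, ((x : G))⁻¹ * (y : G) ∈ B ↔ a y p₀ = a x p₀ ∧ b y L₀ = b x L₀ := fun y => by
    rw [e, h.memB, map_mul, map_mul, map_inv, map_inv, Equiv.Perm.mul_apply, Equiv.Perm.mul_apply,
      Equiv.Perm.inv_eq_iff_eq, Equiv.Perm.inv_eq_iff_eq]
  constructor
  · intro hd
    induction d using QuotientGroup.induction_on with
    | _ y =>
    rw [adj_mk h.le] at hd
    have hy : y ∈ H := by
      have e' : y = (x : G) * ((x : G)⁻¹ * y) := by group
      rw [e']
      exact mul_mem x.2 (h.iH hd.1)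
    have h1 := (hi ⟨y, hy⟩).1 hd.1
    refine ⟨⟨y, hy⟩, rfl, h1, fun h2 => hd.2 ?_⟩
    exact (hB ⟨y, hy⟩).2 ⟨h2, h1⟩
  · rintro ⟨y, rfl, h1, h2⟩
    rw [adj_mk h.le]
    exact ⟨(hi y).2 h1, fun h3 => h2 ((hB y).1 h3).1⟩

theorem adj_j {x : ↥H} {d : G ⧸ B} : adj B P j ((x : G) : G ⧸ B) d ↔
    ∃ y : ↥H, d = ((y : G) : G ⧸ B) ∧ a y p₀ = a x p₀ ∧ b y L₀ ≠ b x L₀ := h.symm.adj_i

theorem pt (x : ↥H) : a x p₀ ∈ Pt := h.aPt x _ h.p0

theorem ln (x : ↥H) : b x L₀ ∈ Ln := h.bLn x _ h.L0

theorem incx (x : ↥H) : inc (a x p₀) (b x L₀) := h.inv x _ h.p0 _ h.L0 h.inc0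

theorem ex_i (x : ↥H) {p : α} (hp : p ∈ Pt) (hi : inc p (b x L₀)) : ∃ y : ↥H, b y L₀ = b x L₀ ∧ a y p₀ = p := by
  have h1 := h.inv x⁻¹ p hp _ (h.ln x) hi
  rw [map_inv b, show (b x)⁻¹ ((b x) L₀) = L₀ from (b x).symm_apply_apply L₀] at h1
  obtain ⟨z, hz1, hz2⟩ := h.tri _ (h.aPt x⁻¹ p hp) h1
  refine ⟨x * z, ?_, ?_⟩
  · rw [map_mul, Equiv.Perm.mul_apply, hz1]
  · rw [map_mul, Equiv.Perm.mul_apply, hz2, map_inv]
    exact (a x).apply_symm_apply p

theorem ex_j (x : ↥H) {L : β} (hL : L ∈ Ln) (hi : inc (a x p₀) L) : ∃ y : ↥H, a y p₀ = a x p₀ ∧ b y L₀ = L :=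
  h.symm.ex_i x hL hi

/-! ### Digons -/

theorem rk_two (hall : ∀ p ∈ Pt, ∀ L ∈ Ln, inc p L) : Rk B P i j 2 := by
  apply rk_of_one
  intro l hl
  change IsGal (adj B P) [i, j] ((1 : G) : G ⧸ B) l at hl
  show ∃! l', IsGal (adj B P) [j, i] ((1 : G) : G ⧸ B) l' ∧ _
  obtain ⟨c1, l, rfl, h1, hl⟩ := isGal_cons_iff.1 hl
  obtain ⟨c2, l, rfl, h2, hl⟩ := isGal_cons_iff.1 hl
  rw [isGal_nil_iff] at hl
  subst hl
  obtain ⟨y1, rfl, h11, h12⟩ := (h.adj_i (x := 1)).1 h1
  obtain ⟨y2, rfl, h21, h22⟩ := h.adj_j.1 h2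
  simp only [map_one, Equiv.Perm.one_apply] at h11 h12
  rw [h11] at h22
  -- flags: (a y1 p₀, L₀), (a y1 p₀, b y2 L₀)
  obtain ⟨z1, hz1, hz2⟩ := h.ex_j 1 (h.ln y2) (hall _ (h.pt 1) _ (h.ln y2))
  simp only [map_one, Equiv.Perm.one_apply] at hz1
  refine ⟨[((z1 : G) : G ⧸ B), ((y2 : G) : G ⧸ B)], ⟨⟨?_, ?_, trivial⟩, rfl⟩, ?_⟩
  · refine (h.adj_j (x := 1)).2 ⟨z1, rfl, by simpa using hz1, ?_⟩
    simpa [hz2] using h22
  · refine h.adj_i.2 ⟨y2, rfl, hz2.symm, ?_⟩
    rw [h21, hz1]; exact h12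
  · rintro l' ⟨hl', hlast⟩
    obtain ⟨d1, l', rfl, h3, hl'⟩ := isGal_cons_iff.1 hl'
    obtain ⟨d2, l', rfl, h4, hl'⟩ := isGal_cons_iff.1 hl'
    rw [isGal_nil_iff] at hl'
    subst hl'
    obtain ⟨w1, rfl, h31, h32⟩ := (h.adj_j (x := 1)).1 h3
    obtain ⟨w2, rfl, h41, h42⟩ := h.adj_i.1 h4
    simp only [map_one, Equiv.Perm.one_apply] at h31 h32
    have h5 : ((w2 : G) : G ⧸ B) = ((y2 : G) : G ⧸ B) := hlast
    have h6 := h.mk_eq.1 h5
    have h7 : ((w1 : G) : G ⧸ B) = ((z1 : G) : G ⧸ B) :=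
      h.mk_eq.2 ⟨by rw [h31, hz1], by rw [← h41, h6.2, hz2]⟩
    rw [h5, h7]

/-! ### Planes -/

theorem rk_three (P1 : ∀ p ∈ Pt, ∀ p' ∈ Pt, p ≠ p' → ∃ L ∈ Ln, inc p L ∧ inc p' L)
    (P2 : ∀ p ∈ Pt, ∀ p' ∈ Pt, p ≠ p' → ∀ L ∈ Ln, ∀ L' ∈ Ln, inc p L → inc p' L → inc p L' → inc p' L' →
      L = L') : Rk B P i j 3 := by
  apply rk_of_one
  intro l hl
  change IsGal (adj B P) [i, j, i] ((1 : G) : G ⧸ B) l at hl
  show ∃! l', IsGal (adj B P) [j, i, j] ((1 : G) : G ⧸ B) l' ∧ _
  obtain ⟨c1, l, rfl, h1, hl⟩ := isGal_cons_iff.1 hl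
  obtain ⟨c2, l, rfl, h2, hl⟩ := isGal_cons_iff.1 hl
  obtain ⟨c3, l, rfl, h3, hl⟩ := isGal_cons_iff.1 hl
  rw [isGal_nil_iff] at hl
  subst hl
  obtain ⟨y1, rfl, h11, h12⟩ := (h.adj_i (x := 1)).1 h1
  obtain ⟨y2, rfl, h21, h22⟩ := h.adj_j.1 h2
  obtain ⟨y3, rfl, h31, h32⟩ := h.adj_i.1 h3
  simp only [map_one, Equiv.Perm.one_apply] at h11 h12
  rw [h11] at h22
  rw [h21] at h32
  -- flags (p0,L0), (p1,L0), (p1,L1), (p2,L1)
  have i0 : inc p₀ L₀ := h.inc0
  have i1 : inc (a y1 p₀) L₀ := by have := h.incx y1; rwa [h11] at this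
  have i2 : inc (a y1 p₀) (b y2 L₀) := by have := h.incx y2; rwa [h21] at this
  have i3 : inc (a y3 p₀) (b y2 L₀) := by have := h.incx y3; rwa [h31] at this
  have n02 : p₀ ≠ a y3 p₀ := by
    intro e
    rw [← e] at i3
    exact h22 (P2 _ h.p0 _ (h.pt y1) h12.symm _ (h.ln y2) _ h.L0 i3 i2 i0 i1)
  obtain ⟨L, hL, hL1, hL2⟩ := P1 _ h.p0 _ (h.pt y3) n02
  have nL0 : L ≠ L₀ := by
    rintro rfl
    exact h22 (P2 _ (h.pt y1) _ (h.pt y3) h32.symm _ (h.ln y2) _ hL i2 i3 i1 hL2)
  have nL1 : L ≠ b y2 L₀ := by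
    rintro rfl
    exact h22 (P2 _ h.p0 _ (h.pt y1) h12.symm _ (h.ln y2) _ h.L0 hL1 i2 i0 i1)
  obtain ⟨z1, hz1, hz2⟩ := h.ex_j 1 hL (by simpa using hL1)
  simp only [map_one, Equiv.Perm.one_apply] at hz1
  obtain ⟨z2, hz3, hz4⟩ := h.ex_i z1 (h.pt y3) (by rw [hz2]; exact hL2)
  refine ⟨[((z1 : G) : G ⧸ B), ((z2 : G) : G ⧸ B), ((y3 : G) : G ⧸ B)], ⟨⟨?_, ?_, ?_, trivial⟩, rfl⟩, ?_⟩
  · exact (h.adj_j (x := 1)).2 ⟨z1, rfl, by simpa using hz1, by simpa [hz2] using nL0⟩
  · refine h.adj_i.2 ⟨z2, rfl, hz3, ?_⟩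
    rw [hz4, hz1]; exact n02.symm
  · refine h.adj_j.2 ⟨y3, rfl, hz4.symm, ?_⟩
    rw [h31, hz3, hz2]; exact nL1.symm
  · rintro l' ⟨hl', hlast⟩
    obtain ⟨d1, l', rfl, h4, hl'⟩ := isGal_cons_iff.1 hl'
    obtain ⟨d2, l', rfl, h5, hl'⟩ := isGal_cons_iff.1 hl'
    obtain ⟨d3, l', rfl, h6, hl'⟩ := isGal_cons_iff.1 hl'
    rw [isGal_nil_iff] at hl'
    subst hl'
    obtain ⟨w1, rfl, h41, h42⟩ := (h.adj_j (x := 1)).1 h4
    obtain ⟨w2, rfl, h51, h52⟩ := h.adj_i.1 h5
    obtain ⟨w3, rfl, h61, h62⟩ := h.adj_j.1 h6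
    simp only [map_one, Equiv.Perm.one_apply] at h41 h42
    have e3 : ((w3 : G) : G ⧸ B) = ((y3 : G) : G ⧸ B) := hlast
    have e3' := h.mk_eq.1 e3
    have e2 : a w2 p₀ = a y3 p₀ := by rw [← e3'.1, h61]
    have e1 : b w1 L₀ = L := by
      have j1 : inc p₀ (b w1 L₀) := by have := h.incx w1; rwa [h41] at this
      have j2 : inc (a y3 p₀) (b w1 L₀) := by have := h.incx w2; rwa [e2, h51] at this
      exact P2 _ h.p0 _ (h.pt y3) n02 _ (h.ln w1) _ hL j1 j2 hL1 hL2
    have f1 : ((w1 : G) : G ⧸ B) = ((z1 : G) : G ⧸ B) := h.mk_eq.2 ⟨by rw [h41, hz1], by rw [e1, hz2]⟩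
    have f2 : ((w2 : G) : G ⧸ B) = ((z2 : G) : G ⧸ B) :=
      h.mk_eq.2 ⟨by rw [e2, hz4], by rw [h51, e1, hz3, hz2]⟩
    rw [f1, f2, e3]

/-! ### Quadrangles -/

theorem rk_four (Q0 : ∀ p ∈ Pt, ∀ p' ∈ Pt, p ≠ p' → ∀ L ∈ Ln, ∀ L' ∈ Ln, inc p L → inc p' L → inc p L' →
      inc p' L' → L = L')
    (Q1 : ∀ p ∈ Pt, ∀ L ∈ Ln, ¬ inc p L → ∃ p' ∈ Pt, ∃ L' ∈ Ln, inc p L' ∧ inc p' L' ∧ inc p' L)
    (Q2 : ∀ p ∈ Pt, ∀ L ∈ Ln, ¬ inc p L → ∀ p' ∈ Pt, ∀ L' ∈ Ln, ∀ p'' ∈ Pt, ∀ L'' ∈ Ln, inc p L' → inc p' L' →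
      inc p' L → inc p L'' → inc p'' L'' → inc p'' L → p' = p'' ∧ L' = L'') : Rk B P i j 4 := by
  apply rk_of_one
  intro l hl
  change IsGal (adj B P) [i, j, i, j] ((1 : G) : G ⧸ B) l at hl
  show ∃! l', IsGal (adj B P) [j, i, j, i] ((1 : G) : G ⧸ B) l' ∧ _
  obtain ⟨c1, l, rfl, h1, hl⟩ := isGal_cons_iff.1 hl
  obtain ⟨c2, l, rfl, h2, hl⟩ := isGal_cons_iff.1 hl
  obtain ⟨c3, l, rfl, h3, hl⟩ := isGal_cons_iff.1 hl
  obtain ⟨c4, l, rfl, h4, hl⟩ := isGal_cons_iff.1 hl
  rw [isGal_nil_iff] at hl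
  subst hl
  obtain ⟨y1, rfl, h11, h12⟩ := (h.adj_i (x := 1)).1 h1
  obtain ⟨y2, rfl, h21, h22⟩ := h.adj_j.1 h2
  obtain ⟨y3, rfl, h31, h32⟩ := h.adj_i.1 h3
  obtain ⟨y4, rfl, h41, h42⟩ := h.adj_j.1 h4
  simp only [map_one, Equiv.Perm.one_apply] at h11 h12
  rw [h11] at h22
  rw [h21] at h32
  rw [h31] at h42
  -- flags (p0,L0), (p1,L0), (p1,L1), (p2,L1), (p2,L2)
  have i0 : inc p₀ L₀ := h.inc0
  have i1 : inc (a y1 p₀) L₀ := by have := h.incx y1; rwa [h11] at this
  have i2 : inc (a y1 p₀) (b y2 L₀) := by have := h.incx y2; rwa [h21] at this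
  have i3 : inc (a y3 p₀) (b y2 L₀) := by have := h.incx y3; rwa [h31] at this
  have i4 : inc (a y3 p₀) (b y4 L₀) := by have := h.incx y4; rwa [h41] at this
  have n01 : ¬ inc p₀ (b y2 L₀) := fun hn =>
    h22 (Q0 _ h.p0 _ (h.pt y1) h12.symm _ (h.ln y2) _ h.L0 hn i2 i0 i1)
  have n02 : ¬ inc p₀ (b y4 L₀) := fun hn =>
    h32 (Q2 _ h.p0 _ (h.ln y2) n01 _ (h.pt y1) _ h.L0 _ (h.pt y3) _ (h.ln y4) i0 i1 i2 hn i4 i3).1.symm
  obtain ⟨p, hp, L, hL, j1, j2, j3⟩ := Q1 _ h.p0 _ (h.ln y4) n02
  have nL0 : L ≠ L₀ := by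
    intro e
    rw [e] at j1 j2
    have m1 : p ≠ a y1 p₀ := by
      rintro rfl
      exact h42 (Q0 _ hp _ (h.pt y3) h32.symm _ (h.ln y4) _ (h.ln y2) j3 i4 i2 i3)
    have m2 : ¬ inc p (b y2 L₀) := fun hn => h22 (Q0 _ hp _ (h.pt y1) m1 _ (h.ln y2) _ h.L0 hn i2 j2 i1)
    exact h32 (Q2 _ hp _ (h.ln y2) m2 _ (h.pt y1) _ h.L0 _ (h.pt y3) _ (h.ln y4) j2 i1 i2 j3 i4 i3).1.symm
  have np0 : p ≠ p₀ := by rintro rfl; exact n02 j3
  have nL4 : L ≠ b y4 L₀ := by rintro rfl; exact n02 j1
  have np3 : p ≠ a y3 p₀ := by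
    rintro rfl
    exact h32 (Q2 _ h.p0 _ (h.ln y2) n01 _ (h.pt y1) _ h.L0 _ (h.pt y3) _ hL i0 i1 i2 j1 j2 i3).1.symm
  obtain ⟨z1, hz1, hz2⟩ := h.ex_j 1 hL (by simpa using j1)
  simp only [map_one, Equiv.Perm.one_apply] at hz1
  obtain ⟨z2, hz3, hz4⟩ := h.ex_i z1 hp (by rw [hz2]; exact j2)
  obtain ⟨z3, hz5, hz6⟩ := h.ex_j z2 (h.ln y4) (by rw [hz4]; exact j3)
  refine ⟨[((z1 : G) : G ⧸ B), ((z2 : G) : G ⧸ B), ((z3 : G) : G ⧸ B), ((y4 : G) : G ⧸ B)],
    ⟨⟨?_, ?_, ?_, ?_, trivial⟩, rfl⟩, ?_⟩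
  · exact (h.adj_j (x := 1)).2 ⟨z1, rfl, by simpa using hz1, by simpa [hz2] using nL0⟩
  · refine h.adj_i.2 ⟨z2, rfl, hz3, ?_⟩
    rw [hz4, hz1]; exact np0
  · refine h.adj_j.2 ⟨z3, rfl, hz5, ?_⟩
    rw [hz6, hz3, hz2]; exact nL4.symm
  · refine h.adj_i.2 ⟨y4, rfl, hz6.symm, ?_⟩
    rw [h41, hz5, hz4]; exact np3.symm
  · rintro l' ⟨hl', hlast⟩
    obtain ⟨d1, l', rfl, g1, hl'⟩ := isGal_cons_iff.1 hl'
    obtain ⟨d2, l', rfl, g2, hl'⟩ := isGal_cons_iff.1 hl'
    obtain ⟨d3, l', rfl, g3, hl'⟩ := isGal_cons_iff.1 hl'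
    obtain ⟨d4, l', rfl, g4, hl'⟩ := isGal_cons_iff.1 hl'
    rw [isGal_nil_iff] at hl'
    subst hl'
    obtain ⟨w1, rfl, g11, g12⟩ := (h.adj_j (x := 1)).1 g1
    obtain ⟨w2, rfl, g21, g22⟩ := h.adj_i.1 g2
    obtain ⟨w3, rfl, g31, g32⟩ := h.adj_j.1 g3
    obtain ⟨w4, rfl, g41, g42⟩ := h.adj_i.1 g4
    simp only [map_one, Equiv.Perm.one_apply] at g11 g12
    have e4 : ((w4 : G) : G ⧸ B) = ((y4 : G) : G ⧸ B) := hlast
    have e4' := h.mk_eq.1 e4
    have e3 : b w3 L₀ = b y4 L₀ := by rw [← g41, e4'.2]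
    have k1 : inc p₀ (b w1 L₀) := by have := h.incx w1; rwa [g11] at this
    have k2 : inc (a w2 p₀) (b w1 L₀) := by have := h.incx w2; rwa [g21] at this
    have k3 : inc (a w2 p₀) (b y4 L₀) := by have := h.incx w3; rwa [g31, e3] at this
    obtain ⟨q1, q2⟩ := Q2 _ h.p0 _ (h.ln y4) n02 _ (h.pt w2) _ (h.ln w1) _ hp _ hL k1 k2 k3 j1 j2 j3
    have f1 : ((w1 : G) : G ⧸ B) = ((z1 : G) : G ⧸ B) := h.mk_eq.2 ⟨by rw [g11, hz1], by rw [q2, hz2]⟩
    have f2 : ((w2 : G) : G ⧸ B) = ((z2 : G) : G ⧸ B) :=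
      h.mk_eq.2 ⟨by rw [q1, hz4], by rw [g21, q2, hz3, hz2]⟩
    have f3 : ((w3 : G) : G ⧸ B) = ((z3 : G) : G ⧸ B) :=
      h.mk_eq.2 ⟨by rw [g31, q1, hz5, hz4], by rw [e3, hz6]⟩
    rw [f1, f2, f3, e4]

end Inc

end Cfsg.Agent.ParSys.Polar.Incid

end
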