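import Mathlib
import Cfsg.Agent.Mrg.ParSys.Core
import Cfsg.Agent.Mrg.Omega.ThmID.Base
import Cfsg.Agent.Mrg.ParSys.Main
import Cfsg.Agent.Nodes.NormalForm

section


/-!
# THEOREM FREE, part (2): counting galleries
-/

set_option autoImplicit false

namespace Cfsg.Agent.ParSys.Free

open Cfsg.Agent.ParSys

section count

variable {C I : Type*} {A : I → C → C → Prop}

/-- galleries of type `i f` -/
def galEquiv (i : I) (f : List I) (c : C) :
    {l // IsGal A (i :: f) c l} ≃ (Σ d : {d // A i c d}, {l // IsGal A f (d : C) l}) where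
  toFun l := match l with
    | ⟨d :: l, h⟩ => ⟨⟨d, h.1⟩, ⟨l, h.2⟩⟩
    | ⟨[], h⟩ => (h : False).elim
  invFun x := ⟨x.1.1 :: x.2.1, x.1.2, x.2.2⟩
  left_inv l := match l with
    | ⟨_ :: _, _⟩ => rfl
    | ⟨[], h⟩ => (h : False).elim
  right_inv _ := rfl

theorem finite_gal [Finite C] (f : List I) (c : C) : Finite {l // IsGal A f c l} := by
  induction f generalizing c with
  | nil =>
    have : Subsingleton {l // IsGal A [] c l} := ⟨fun a b => Subtype.ext (by
      rw [isGal_nil_iff.1 a.2, isGal_nil_iff.1 b.2])⟩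
    infer_instance
  | cons i f ih =>
    have := fun d : {d // A i c d} => ih (d : C)
    exact Finite.of_equiv _ (galEquiv i f c).symm

theorem card_gal [Finite C] {q : I → ℕ} (hq : ∀ i c, Nat.card {d // A i c d} = q i) (f : List I) (c : C) :
    Nat.card {l // IsGal A f c l} = (f.map q).prod := by
  induction f generalizing c with
  | nil =>
    rw [List.map_nil, List.prod_nil, Nat.card_eq_one_iff_unique]
    exact ⟨⟨fun a b => Subtype.ext (by rw [isGal_nil_iff.1 a.2, isGal_nil_iff.1 b.2])⟩, ⟨⟨[], by simp⟩⟩⟩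
  | cons i f ih =>
    have := fun d : {d // A i c d} => finite_gal (A := A) f (d : C)
    have := Fintype.ofFinite {d // A i c d}
    rw [Nat.card_congr (galEquiv i f c), Nat.card_sigma]
    simp only [ih]
    rw [Finset.sum_const, Finset.card_univ, ← Nat.card_eq_fintype_card, hq, List.map_cons, List.prod_cons,
      smul_eq_mul]

variable {U : Type*} [Group U] [MulAction U C]

/-- the map `u ↦ u l` is injective if `U` acts freely -/
theorem map_injective {F : List I} {c : C}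
    (hfree : ∀ u : U, ∀ l, IsGal A F c l → (∀ x ∈ l, u • x = x) → u = 1) {l : List C} (hl : IsGal A F c l) :
    Function.Injective fun u : U => l.map (u • ·) := by
  intro u v h
  have h1 : ∀ x ∈ l, (u⁻¹ * v) • x = x := by
    intro x hx
    obtain ⟨n, hn, rfl⟩ := List.getElem_of_mem hx
    have h2 : (l.map (u • ·))[n]'(by simpa using hn) = (l.map (v • ·))[n]'(by simpa using hn) := by
      simp only [h]
    rw [List.getElem_map, List.getElem_map] at h2
    rw [mul_smul, ← h2, inv_smul_smul]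
  have h3 := hfree _ l hl h1
  exact (inv_mul_eq_one.1 h3)

/-- **THEOREM FREE (2a)** -/
theorem card_le [Finite C] (hA : ∀ (u : U) i c d, A i c d → A i (u • c) (u • d)) {q : I → ℕ}
    (hq : ∀ i c, Nat.card {d // A i c d} = q i) {c : C} (hc : ∀ u : U, u • c = c) {F : List I}
    (hfree : ∀ u : U, ∀ l, IsGal A F c l → (∀ x ∈ l, u • x = x) → u = 1) {l : List C} (hl : IsGal A F c l) :
    Nat.card U ≤ (F.map q).prod := by
  have := finite_gal (A := A) F c
  rw [← card_gal hq F c]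
  refine Nat.card_le_card_of_injective (fun u : U => (⟨l.map (u • ·), ?_⟩ : {l // IsGal A F c l})) ?_
  · have := hl.map (hA u)
    rwa [hc] at this
  · intro u v h
    exact map_injective hfree hl (congrArg Subtype.val h)

/-- **THEOREM FREE (2b)**: transitivity -/
theorem trans_of_card [Finite C] (hA : ∀ (u : U) i c d, A i c d → A i (u • c) (u • d)) {q : I → ℕ}
    (hq : ∀ i c, Nat.card {d // A i c d} = q i) {c : C} (hc : ∀ u : U, u • c = c) {F : List I}
    (hfree : ∀ u : U, ∀ l, IsGal A F c l → (∀ x ∈ l, u • x = x) → u = 1)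
    (hcard : Nat.card U = (F.map q).prod) {l l' : List C} (hl : IsGal A F c l) (hl' : IsGal A F c l') :
    ∃ u : U, l' = l.map (u • ·) := by
  have hfin := finite_gal (A := A) F c
  have hcard' : Nat.card U = Nat.card {l // IsGal A F c l} := by rw [hcard, card_gal hq F c]
  have hpos : 0 < Nat.card {l // IsGal A F c l} := by
    have : Nonempty {l // IsGal A F c l} := ⟨⟨l, hl⟩⟩
    exact Nat.card_pos
  have hU : Finite U := Nat.finite_of_card_ne_zero (by omega)
  have hmem : ∀ u : U, IsGal A F c (l.map (u • ·)) := fun u => by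
    have := hl.map (hA u)
    rwa [hc] at this
  let φ : U → {l // IsGal A F c l} := fun u => ⟨l.map (u • ·), hmem u⟩
  have hφ : Function.Injective φ := fun u v h => map_injective hfree hl (congrArg Subtype.val h)
  have hb : Function.Bijective φ := (Nat.bijective_iff_injective_and_card φ).2 ⟨hφ, hcard'⟩
  obtain ⟨u, hu⟩ := hb.2 ⟨l', hl'⟩
  exact ⟨u, (congrArg Subtype.val hu).symm⟩

/-- transitivity on the galleries of a type which is a prefix -/
theorem trans_prefix (hA : ∀ i c, ∃ d, A i c d) {c : C} {f v : List I}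
    (htr : ∀ l l', IsGal A (f ++ v) c l → IsGal A (f ++ v) c l' → ∃ u : U, l' = l.map (u • ·)) {l l' : List C}
    (hl : IsGal A f c l) (hl' : IsGal A f c l') : ∃ u : U, l' = l.map (u • ·) := by
  obtain ⟨k, hk⟩ := exists_isGal hA v (l.getLastD c)
  obtain ⟨k', hk'⟩ := exists_isGal hA v (l'.getLastD c)
  obtain ⟨u, hu⟩ := htr _ _ (hl.append hk) (hl'.append hk')
  refine ⟨u, ?_⟩
  rw [List.map_append] at hu
  exact (List.append_inj hu (by rw [List.length_map, hl.length, hl'.length])).1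

end count

end Cfsg.Agent.ParSys.Free

end

section


/-!
# THEOREM FREE (bb #11242): a parabolic system of spherical type with `|U| = q_{w0}` is a BN-pair

Input (`Sys`): `B ≤ P i`, the residues of rank two are generalised polygons (`GP`), an element of `U` which fixes two
chambers of a panel fixes the panel (`pan`), `U` is closed (`clo`: conjugates of elements of `U` which lie in `B` lie in
`U`) and has no element `≠ 1` in the core of `B`.

Output: `Sys.card_le` : `|U| ≤ q_{w0}`; if `|U| = q_{w0}`: `Sys.cosets` (Bruhat decomposition, hence a BN-pair).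
-/

set_option autoImplicit false

namespace Cfsg.Agent.ParSys.Free

open Cfsg.Agent.ParSys Cfsg.Agent.Tits.Core

variable {G : Type*} [Group G] {I : Type*}

/-! ### Panels of `G ⧸ B` -/

section panels

variable {B : Subgroup G} {P : I → Subgroup G}

theorem card_adj [Finite G] (hBP : ∀ i, B ≤ P i) (i : I) (c : G ⧸ B) :
    Nat.card {d // adj B P i c d} + 1 = B.relIndex (P i) := by
  classical
  induction c using QuotientGroup.induction_on with
  | _ x =>
  let φ : (P i ⧸ B.subgroupOf (P i)) → G ⧸ B := fun a => ((x * (a.out : P i) : G) : G ⧸ B)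
  have hφ : Function.Injective φ := by
    intro a b h
    have h1 : (x * (a.out : G))⁻¹ * (x * (b.out : G)) ∈ B := QuotientGroup.eq.1 h
    have h2 : ((a.out : P i) : G)⁻¹ * (b.out : G) ∈ B := by
      have e : (x * (a.out : G))⁻¹ * (x * (b.out : G)) = ((a.out : P i) : G)⁻¹ * (b.out : G) := by group
      rwa [e] at h1
    rw [← QuotientGroup.out_eq' a, ← QuotientGroup.out_eq' b, QuotientGroup.eq, Subgroup.mem_subgroupOf]
    exact h2
  have hr : Set.range φ = insert (x : G ⧸ B) {d | adj B P i (x : G ⧸ B) d} := by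
    ext d
    constructor
    · rintro ⟨a, rfl⟩
      by_cases h : φ a = (x : G ⧸ B)
      · exact Or.inl h
      · refine Or.inr ⟨fun h' => h h'.symm, x, (a.out : P i), (a.out : P i).2, rfl, rfl⟩
    · intro h
      have key : ∀ p : G, (hp : p ∈ P i) → ((x * p : G) : G ⧸ B) ∈ Set.range φ := by
        intro p hp
        obtain ⟨⟨b, hb⟩, hbe⟩ := QuotientGroup.mk_out_eq_mul (B.subgroupOf (P i)) (⟨p, hp⟩ : P i)
        refine ⟨((⟨p, hp⟩ : P i) : P i ⧸ B.subgroupOf (P i)), ?_⟩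
        show ((x * ((((⟨p, hp⟩ : P i) : P i ⧸ B.subgroupOf (P i)).out : P i) : G) : G) : G ⧸ B) = _
        rw [hbe, QuotientGroup.eq]
        rw [Subgroup.mem_subgroupOf] at hb
        have e : (x * (((⟨p, hp⟩ : P i) * b : P i) : G))⁻¹ * (x * p) = ((b : P i) : G)⁻¹ := by
          simp only [Subgroup.coe_mul]; group
        rw [e]
        exact inv_mem hb
      rcases h with rfl | h
      · have := key 1 (one_mem _)
        rwa [mul_one] at this
      · induction d using QuotientGroup.induction_on with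
        | _ y =>
        have h1 := ((adj_mk hBP).1 h).1
        have := key _ h1
        rwa [mul_inv_cancel_left] at this
  have hnot : (x : G ⧸ B) ∉ {d | adj B P i (x : G ⧸ B) d} := fun h => h.1 rfl
  have h1 := Set.ncard_insert_of_notMem hnot
  rw [← hr, Set.ncard_range_of_injective hφ] at h1
  exact h1.symm

theorem conn (hBP : ∀ i, B ≤ P i) (hgen : ⨆ i, P i = ⊤) (c d : G ⧸ B) :
    Relation.ReflTransGen (fun y z => ∃ i, adj B P i y z) c d := by
  induction c using QuotientGroup.induction_on with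
  | _ x =>
  induction d using QuotientGroup.induction_on with
  | _ y =>
  have key : ∀ g : G, Relation.ReflTransGen (fun y z => ∃ i, adj B P i y z) (x : G ⧸ B) ((x * g : G) : G ⧸ B) := by
    intro g
    have hg : g ∈ ⨆ i, P i := by rw [hgen]; trivial
    rw [Subgroup.iSup_eq_closure] at hg
    have step : ∀ (z p : G) (i : I), p ∈ P i → Relation.ReflTransGen (fun y z => ∃ i, adj B P i y z)
        ((x : G) : G ⧸ B) ((x * z : G) : G ⧸ B) → Relation.ReflTransGen (fun y z => ∃ i, adj B P i y z)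
        ((x : G) : G ⧸ B) ((x * (z * p) : G) : G ⧸ B) := by
      intro z p i hp h
      by_cases hpB : p ∈ B
      · have e : ((x * (z * p) : G) : G ⧸ B) = ((x * z : G) : G ⧸ B) := by
          rw [QuotientGroup.eq]
          have e' : (x * (z * p))⁻¹ * (x * z) = p⁻¹ := by group
          rw [e']; exact inv_mem hpB
        rw [e]; exact h
      · refine h.tail ⟨i, ?_⟩
        rw [adj_mk hBP]
        have e' : (x * z)⁻¹ * (x * (z * p)) = p := by group
        rw [e']; exact ⟨hp, hpB⟩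
    induction hg using Subgroup.closure_induction_right with
    | one => rw [mul_one]
    | mul_right z hz p hp ih =>
      obtain ⟨i, hi⟩ := Set.mem_iUnion.1 hp
      exact step z p i hi ih
    | mul_inv_cancel z hz p hp ih =>
      obtain ⟨i, hi⟩ := Set.mem_iUnion.1 hp
      exact step z p⁻¹ i (inv_mem hi) ih
  have := key (x⁻¹ * y)
  rwa [mul_inv_cancel_left] at this

end panels

/-! ### The number of galleries is invariant under braid moves -/

section prod

variable {C : Type*} {A : I → C → C → Prop} {m : I → I → ℕ}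

theorem card_gal_alt_le [Finite C] (hC : Cham A m) (hm : ∀ i j, m i j = m j i) {i j : I} (hij : i ≠ j) (c : C) :
    Nat.card {l // IsGal A (alt i j (m i j)) c l} ≤ Nat.card {l // IsGal A (alt j i (m i j)) c l} := by
  have := finite_gal (A := A) (alt j i (m i j)) c
  let φ : {l // IsGal A (alt i j (m i j)) c l} → {l // IsGal A (alt j i (m i j)) c l} := fun l =>
    ⟨(hC.gp i j hij c l.1 l.2).choose, (hC.gp i j hij c l.1 l.2).choose_spec.1.1⟩
  refine Nat.card_le_card_of_injective φ ?_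
  intro l k h
  have h1 := (hC.gp i j hij c l.1 l.2).choose_spec.1.2
  have h2 := (hC.gp i j hij c k.1 k.2).choose_spec.1.2
  have h3 : (hC.gp i j hij c l.1 l.2).choose = (hC.gp i j hij c k.1 k.2).choose := congrArg Subtype.val h
  rw [h3, h2] at h1
  -- both are galleries with the same end
  have h4 : IsGal A (alt j i (m j i)) c (φ l).1 := by rw [hm j i]; exact (φ l).2
  obtain ⟨r, -, hr⟩ := hC.gp j i hij.symm c _ h4
  rw [hm j i] at hr
  have h5 := (hC.gp i j hij c l.1 l.2).choose_spec.1.2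
  have h6 : ((φ l).1).getLastD c = l.1.getLastD c := h5
  have e1 := hr l.1 ⟨l.2, h6.symm⟩
  have e2 := hr k.1 ⟨k.2, by rw [h1]; exact h6.symm⟩
  exact Subtype.ext (e1.trans e2.symm)

theorem prod_br [Finite C] [Nonempty C] (hC : Cham A m) (hm : ∀ i j, m i j = m j i) {q : I → ℕ}
    (hq : ∀ i c, Nat.card {d // A i c d} = q i) {f g : List I} (h : Br m f g) :
    (f.map q).prod = (g.map q).prod := by
  induction h with
  | refl f => rfl
  | move u v i j g hij _ ih =>
    rw [ih]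
    obtain ⟨c⟩ := ‹Nonempty C›
    have h1 := card_gal_alt_le hC hm hij c
    have h2 := card_gal_alt_le hC hm hij.symm c
    rw [hm j i] at h2
    have h3 := le_antisymm h1 h2
    rw [card_gal hq, card_gal hq] at h3
    simp only [List.map_append, List.prod_append, h3]

end prod

/-! ### The system -/

variable {M : CoxeterMatrix I} {W : Type*} [Group W]

/-- The data of THEOREM FREE. -/
structure Sys (cs : CoxeterSystem M W) (B : Subgroup G) (P : I → Subgroup G) (U : Subgroup G) (q : I → ℕ) :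
    Prop where
  le : ∀ i, B ≤ P i
  gen : ⨆ i, P i = ⊤
  gp : GP B P (fun i j => M i j)
  /-- every panel has `q i + 1` chambers -/
  card : ∀ i, B.relIndex (P i) = q i + 1
  two : ∀ i, 2 ≤ q i
  U_le : U ≤ B
  /-- an element of `U` which fixes one more chamber of the panel `P i / B` fixes the panel -/
  pan : ∀ i, ∀ g ∈ U, ∀ x ∈ P i, x ∉ B → x⁻¹ * g * x ∈ B → ∀ y ∈ P i, y⁻¹ * g * y ∈ B
  clo : ∀ g ∈ U, ∀ x, x⁻¹ * g * x ∈ B → x⁻¹ * g * x ∈ U
  core : ∀ g ∈ U, (∀ x, x⁻¹ * g * x ∈ B) → g = 1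

namespace Sys

variable {cs : CoxeterSystem M W} {B : Subgroup G} {P : I → Subgroup G} {U : Subgroup G} {q : I → ℕ}
  (h : Sys cs B P U q)

include h

theorem ex (i : I) : ∃ x ∈ P i, x ∉ B := by
  by_contra hcon
  push Not at hcon
  have h1 : P i ≤ B := hcon
  have h2 := h.card i
  have h3 := h.two i
  rw [Subgroup.relIndex_eq_one.2 h1] at h2
  omega

theorem cham : Cham (adj B P) (fun i j => M i j) := Free.cham h.le h.ex h.gp

theorem card_adj' [Finite G] (i : I) (c : G ⧸ B) : Nat.card {d // adj B P i c d} = q i := by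
  have h1 := card_adj h.le i c
  rw [h.card] at h1
  omega

omit h in
theorem smul_mk_eq {u x : G} : u • (x : G ⧸ B) = (x : G ⧸ B) ↔ x⁻¹ * u * x ∈ B := by
  have e : u • (x : G ⧸ B) = ((u * x : G) : G ⧸ B) := rfl
  rw [e, eq_comm, QuotientGroup.eq, mul_assoc]

/-- an element of `U` which fixes two chambers of a panel fixes the panel -/
theorem pan' {u : G} (hu : u ∈ U) (i : I) (c d e : G ⧸ B) (hc : u • c = c) (hd : u • d = d)
    (hcd : adj B P i c d) (hce : adj B P i c e) : u • e = e := by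
  induction c using QuotientGroup.induction_on with
  | _ x =>
  induction d using QuotientGroup.induction_on with
  | _ y =>
  induction e using QuotientGroup.induction_on with
  | _ z =>
  rw [smul_mk_eq] at hc hd ⊢
  rw [adj_mk h.le] at hcd hce
  have h1 := h.clo u hu x hc
  have h2 := h.pan i _ h1 (x⁻¹ * y) hcd.1 hcd.2 (by
    have e : (x⁻¹ * y)⁻¹ * (x⁻¹ * u * x) * (x⁻¹ * y) = y⁻¹ * u * y := by group
    rw [e]; exact hd) (x⁻¹ * z) hce.1
  have e : (x⁻¹ * z)⁻¹ * (x⁻¹ * u * x) * (x⁻¹ * z) = z⁻¹ * u * z := by group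
  rwa [e] at h2

theorem msymm (i j : I) : (fun i j => M i j) i j = (fun i j => M i j) j i := by
  have := h
  exact M.symmetric i j

/-- the words which are used: reduced words of `w0` -/
theorem word [Finite I] [Finite W] {F : List I} (hF : cs.IsReduced F) (hw : cs.wordProd F = w0 cs) (i : I) :
    ∃ f i', Br (fun i j => M i j) F (i :: f) ∧ Br (fun i j => M i j) F (f ++ [i']) := by
  have := h
  obtain ⟨f, hf, he⟩ := cs.exists_isReduced (cs.simple i * w0 cs)
  have hlen : f.length + 1 = cs.length (w0 cs) := by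
    have h1 := Tits.Exchange.length_mul_w0 cs (cs.simple i)
    rw [cs.length_simple] at h1
    have h2 : cs.length (cs.simple i * w0 cs) = f.length := by rw [he]; exact hf
    omega
  have p1 : cs.wordProd (i :: f) = w0 cs := by
    rw [cs.wordProd_cons, ← he, ← mul_assoc, cs.simple_mul_simple_self, one_mul]
  have p2 : cs.wordProd (f ++ [op cs i]) = w0 cs := by
    rw [cs.wordProd_append, cs.wordProd_singleton, ← he, Tits.Exchange.simple_op]
    calc cs.simple i * w0 cs * (w0 cs * cs.simple i * w0 cs)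
        = cs.simple i * (w0 cs * w0 cs) * cs.simple i * w0 cs := by group
      _ = w0 cs := by rw [Tits.Exchange.w0_mul_self, mul_one, cs.simple_mul_simple_self, one_mul]
  refine ⟨f, op cs i, br_of_reduced cs hF ?_ (hw.trans p1.symm), br_of_reduced cs hF ?_ (hw.trans p2.symm)⟩
  · show cs.length (cs.wordProd (i :: f)) = (i :: f).length
    rw [p1, List.length_cons, hlen]
  · show cs.length (cs.wordProd (f ++ [op cs i])) = (f ++ [op cs i]).length
    rw [p2, List.length_append, List.length_singleton, hlen]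

/-- **THEOREM FREE (1)**: `U` acts freely on the galleries of type `w0` from `B` -/
theorem free [Finite I] [Finite W] {F : List I} (hF : cs.IsReduced F) (hw : cs.wordProd F = w0 cs) {u : G}
    (hu : u ∈ U) {l : List (G ⧸ B)} (hl : IsGal (adj B P) F ((1 : G) : G ⧸ B) l) (hfix : ∀ x ∈ l, u • x = x) :
    u = 1 := by
  have h1 : u • ((1 : G) : G ⧸ B) = ((1 : G) : G ⧸ B) := by
    rw [smul_mk_eq]
    simpa using h.U_le hu
  have hfg : FG (adj B P) (u • ·) F ((1 : G) : G ⧸ B) (l.getLastD ((1 : G) : G ⧸ B)) := ⟨h1, l, hl, hfix, rfl⟩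
  apply h.core u hu
  intro x
  rw [← smul_mk_eq]
  exact fix_all h.cham (fun i c d hcd => adj_smul u hcd) h.msymm (fun i c d e => h.pan' hu i c d e)
    (fun i => h.word hF hw i) hfg (conn h.le h.gen _ _)

/-- **THEOREM FREE (2a)** -/
theorem card_le [Finite G] [Finite I] [Finite W] {F : List I} (hF : cs.IsReduced F)
    (hw : cs.wordProd F = w0 cs) : Nat.card U ≤ (F.map q).prod := by
  obtain ⟨l, hl⟩ := exists_isGal h.cham.ex F ((1 : G) : G ⧸ B)
  refine Free.card_le (U := U) (A := adj B P) (fun u i c d hcd => adj_smul (u : G) hcd) h.card_adj' ?_ ?_ hl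
  · intro u
    have := (smul_mk_eq (B := B) (u := u) (x := 1)).2 (by simpa using h.U_le u.2)
    exact this
  · intro u l hl hfix
    exact Subtype.ext (h.free hF hw u.2 hl hfix)

/-- transitivity on the galleries of type `w0` -/
theorem trans_w0 [Finite G] [Finite I] [Finite W] {F : List I} (hF : cs.IsReduced F)
    (hw : cs.wordProd F = w0 cs) (hcard : Nat.card U = (F.map q).prod) {l l' : List (G ⧸ B)}
    (hl : IsGal (adj B P) F ((1 : G) : G ⧸ B) l) (hl' : IsGal (adj B P) F ((1 : G) : G ⧸ B) l') :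
    ∃ u : U, l' = l.map (u • ·) := by
  refine Free.trans_of_card (U := U) (A := adj B P) (fun u i c d hcd => adj_smul (u : G) hcd) h.card_adj' ?_ ?_
    hcard hl hl'
  · intro u
    have := (smul_mk_eq (B := B) (u := u) (x := 1)).2 (by simpa using h.U_le u.2)
    exact this
  · intro u l hl hfix
    exact Subtype.ext (h.free hF hw u.2 hl hfix)

/-- transitivity on the galleries of reduced type -/
theorem trans [Finite G] [Finite I] [Finite W] {F : List I} (hF : cs.IsReduced F)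
    (hw : cs.wordProd F = w0 cs) (hcard : Nat.card U = (F.map q).prod) {f : List I} (hf : cs.IsReduced f)
    {l l' : List (G ⧸ B)}
    (hl : IsGal (adj B P) f ((1 : G) : G ⧸ B) l) (hl' : IsGal (adj B P) f ((1 : G) : G ⧸ B) l') :
    ∃ u : U, l' = l.map (u • ·) := by
  obtain ⟨v, hv, he⟩ := cs.exists_isReduced ((cs.wordProd f)⁻¹ * w0 cs)
  have p1 : cs.wordProd (f ++ v) = w0 cs := by
    rw [cs.wordProd_append, ← he, mul_inv_cancel_left]
  have hlen : f.length + v.length = cs.length (w0 cs) := by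
    have h1 := Tits.Exchange.length_mul_w0 cs (cs.wordProd f)⁻¹
    rw [cs.length_inv, hf.eq] at h1
    have h2 : cs.length ((cs.wordProd f)⁻¹ * w0 cs) = v.length := by rw [he]; exact hv
    omega
  have hred : cs.IsReduced (f ++ v) := by
    show cs.length (cs.wordProd (f ++ v)) = (f ++ v).length
    rw [p1, List.length_append, hlen]
  have hbr := br_of_reduced cs hF hred (hw.trans p1.symm)
  have hprod := prod_br h.cham h.msymm h.card_adj' hbr
  exact trans_prefix h.cham.ex (fun l l' hl hl' => h.trans_w0 hred p1 (hcard.trans hprod) hl hl') hl hl'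

omit h in
/-- the ends of the galleries of type `w` which start in `B` -/
def D (cs : CoxeterSystem M W) (B : Subgroup G) (P : I → Subgroup G) (w : W) : Set G :=
  {x | ∃ f, cs.IsReduced f ∧ cs.wordProd f = w ∧
    ∃ l, IsGal (adj B P) f ((1 : G) : G ⧸ B) l ∧ l.getLastD ((1 : G) : G ⧸ B) = (x : G ⧸ B)}

theorem mem_D_iff [Finite I] [Finite W] {f : List I} (hf : cs.IsReduced f) {x : G} :
    x ∈ D cs B P (cs.wordProd f) ↔
      ∃ l, IsGal (adj B P) f ((1 : G) : G ⧸ B) l ∧ l.getLastD ((1 : G) : G ⧸ B) = (x : G ⧸ B) := by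
  constructor
  · rintro ⟨f', hf', he, l, hl, hx⟩
    have hfg : FG (adj B P) id f' ((1 : G) : G ⧸ B) (x : G ⧸ B) := ⟨rfl, l, hl, fun _ _ => rfl, hx⟩
    obtain ⟨-, l', hl', -, hx'⟩ := FG.br h.cham (fun i c d h => h) (br_of_reduced cs hf' hf he) hfg
    exact ⟨l', hl', hx'⟩
  · rintro ⟨l, hl, hx⟩
    exact ⟨f, hf, rfl, l, hl, hx⟩

theorem three [Finite G] (i : I) : ∃ x ∈ P i, ∃ y ∈ P i, x ∉ B ∧ y ∉ B ∧ x⁻¹ * y ∉ B := by
  have h1 := h.card_adj' i ((1 : G) : G ⧸ B)
  have h2 := h.two i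
  have h3 : 1 < Nat.card {d // adj B P i ((1 : G) : G ⧸ B) d} := by omega
  have h4 : Nontrivial {d // adj B P i ((1 : G) : G ⧸ B) d} := Finite.one_lt_card_iff_nontrivial.1 h3
  obtain ⟨⟨c, hc⟩, ⟨d, hd⟩, hne⟩ := exists_pair_ne {d // adj B P i ((1 : G) : G ⧸ B) d}
  induction c using QuotientGroup.induction_on with
  | _ x =>
  induction d using QuotientGroup.induction_on with
  | _ y =>
  rw [adj_mk h.le] at hc hd
  simp only [inv_one, one_mul] at hc hd
  refine ⟨x, hc.1, y, hd.1, hc.2, hd.2, fun hB => hne (Subtype.ext ?_)⟩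
  exact QuotientGroup.eq.2 hB

/-- **THEOREM FREE (2b)**: the Bruhat decomposition -/
theorem cosets [Finite G] [Finite I] [Finite W] {F : List I} (hF : cs.IsReduced F)
    (hw : cs.wordProd F = w0 cs) (hcard : Nat.card U = (F.map q).prod) :
    Bruhat.Cosets cs B P (D cs B P) where
  single w := by
    obtain ⟨f, hf, rfl⟩ := cs.exists_isReduced w
    obtain ⟨l, hl⟩ := exists_isGal h.cham.ex f ((1 : G) : G ⧸ B)
    obtain ⟨x, hx⟩ := QuotientGroup.mk_surjective (l.getLastD ((1 : G) : G ⧸ B))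
    refine ⟨x, ?_⟩
    ext y
    rw [h.mem_D_iff hf, DoubleCoset.mem_doubleCoset]
    constructor
    · rintro ⟨l', hl', hy⟩
      obtain ⟨u, rfl⟩ := h.trans hF hw hcard hf hl hl'
      have h1 : (u : G) • ((1 : G) : G ⧸ B) = ((1 : G) : G ⧸ B) := by
        rw [smul_mk_eq]; simpa using h.U_le u.2
      have h2 := getLastD_map (fun c : G ⧸ B => (u : G) • c) ((1 : G) : G ⧸ B) l
      have h3 : (l.map (u • ·)).getLastD ((1 : G) : G ⧸ B) = (u : G) • (x : G ⧸ B) := by
        rw [hx, ← h2, h1]; rfl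
      rw [h3] at hy
      have h4 : ((u * x : G) : G ⧸ B) = (y : G ⧸ B) := hy
      rw [QuotientGroup.eq] at h4
      exact ⟨u, h.U_le u.2, _, h4, by group⟩
    · rintro ⟨a, ha, b, hb, rfl⟩
      have h1 : (a : G) • ((1 : G) : G ⧸ B) = ((1 : G) : G ⧸ B) := by
        rw [smul_mk_eq]; simpa using ha
      have h2 := hl.map (g := fun c : G ⧸ B => a • c) (fun i c d hcd => adj_smul a hcd)
      have h3 := getLastD_map (fun c : G ⧸ B => a • c) ((1 : G) : G ⧸ B) l
      simp only [h1] at h2 h3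
      refine ⟨_, h2, ?_⟩
      rw [h3, ← hx]
      have e : a • (x : G ⧸ B) = ((a * x : G) : G ⧸ B) := rfl
      rw [e, QuotientGroup.eq]
      have e' : (a * x)⁻¹ * (a * x * b) = b := by group
      rw [e']; exact hb
  one := ⟨[], by simp [CoxeterSystem.IsReduced], rfl, [], by simp, rfl⟩
  le := h.le
  up w i hlt x hx p hp hpB := by
    obtain ⟨f, hf, rfl⟩ := cs.exists_isReduced w
    obtain ⟨l, hl, hx⟩ := (h.mem_D_iff hf).1 hx
    have hred : cs.IsReduced (f ++ [i]) := by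
      show cs.length (cs.wordProd (f ++ [i])) = (f ++ [i]).length
      rw [cs.wordProd_append, cs.wordProd_singleton, List.length_append, List.length_singleton, ← hf.eq]
      rcases cs.length_mul_simple (cs.wordProd f) i with h1 | h1 <;> omega
    have e : cs.wordProd f * cs.simple i = cs.wordProd (f ++ [i]) := by
      rw [cs.wordProd_append, cs.wordProd_singleton]
    rw [e, h.mem_D_iff hred]
    refine ⟨l ++ [((x * p : G) : G ⧸ B)], hl.append ?_, ?_⟩
    · rw [hx]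
      refine ⟨?_, trivial⟩
      rw [adj_mk h.le, inv_mul_cancel_left]
      exact ⟨hp, hpB⟩
    · rw [getLastD_append]; rfl
  gen := h.gen
  three := h.three

/-- **THEOREM FREE (2b)**: the BN-pair -/
theorem exists_bnPair [Finite G] [Finite I] [Finite W] {F : List I} (hF : cs.IsReduced F)
    (hw : cs.wordProd F = w0 cs) (hcard : Nat.card U = (F.map q).prod) :
    ∃ Q : Cfsg.BNPair G, Q.B = B ∧ Q.rank = Nat.card I ∧ (∃ e : I ≃ Q.S, ∀ i, (e i : G) ∈ P i) ∧
      ((∀ J : Set I, J.Nonempty → Jᶜ.Nonempty → ∃ i ∈ J, ∃ j ∈ Jᶜ, M i j ≠ 2) → Q.Irreducible) :=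
  (h.cosets hF hw hcard).exists_bnPair

end Sys

end Cfsg.Agent.ParSys.Free

end

section


/-!
# THEOREM FREE: adapters for `pan`, `clo`, `core`
-/

set_option autoImplicit false

namespace Cfsg.Agent.ParSys.Free

open Cfsg.Agent.ParSys Cfsg.Agent.Tits.Core

variable {G : Type*} [Group G]

/-- `clo`: `U` is the normal Sylow `p`-subgroup of `B` -/
theorem clo_of_sylow {p : ℕ} [Fact p.Prime] [Finite G] {B U : Subgroup G}
    (hn : ∀ b ∈ B, ∀ u ∈ U, b * u * b⁻¹ ∈ U) (hi : ¬ p ∣ U.relIndex B) {g : G} (hg : g ∈ B) {k : ℕ}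
    (hk : g ^ p ^ k = 1) : g ∈ U := by
  have hnor : (U.subgroupOf B).Normal := by
    constructor
    intro u hu b
    rw [Subgroup.mem_subgroupOf] at hu ⊢
    exact hn b b.2 u hu
  have h1 : ((⟨g, hg⟩ : B) : B ⧸ U.subgroupOf B) = 1 := by
    have h2 : ((⟨g, hg⟩ : B) : B ⧸ U.subgroupOf B) ^ p ^ k = 1 := by
      rw [← QuotientGroup.mk_pow]
      have : (⟨g, hg⟩ : B) ^ p ^ k = 1 := Subtype.ext (by simpa using hk)
      rw [this]; rfl
    have h3 : ((⟨g, hg⟩ : B) : B ⧸ U.subgroupOf B) ^ Nat.card (B ⧸ U.subgroupOf B) = 1 := pow_card_eq_one'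
    have h4 : Nat.Coprime (p ^ k) (Nat.card (B ⧸ U.subgroupOf B)) :=
      Nat.Coprime.pow_left k (((Fact.out : p.Prime).coprime_iff_not_dvd).2 hi)
    have h5 := orderOf_dvd_of_pow_eq_one h2
    have h6 := orderOf_dvd_of_pow_eq_one h3
    have h7 := Nat.dvd_gcd h5 h6
    rw [Nat.Coprime.gcd_eq_one h4] at h7
    exact orderOf_eq_one_iff.1 (Nat.dvd_one.1 h7)
  have h2 := (QuotientGroup.eq_one_iff _).1 h1
  exact Subgroup.mem_subgroupOf.1 h2

/-- `clo` from: every element of `p`-power order of `B` lies in `U` -/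
theorem clo_of_mem {p : ℕ} {B U : Subgroup G} (hp : IsPGroup p U)
    (hU : ∀ g ∈ B, ∀ k : ℕ, g ^ p ^ k = 1 → g ∈ U) (g : G) (hg : g ∈ U) (x : G) (hx : x⁻¹ * g * x ∈ B) :
    x⁻¹ * g * x ∈ U := by
  obtain ⟨k, hk⟩ := hp ⟨g, hg⟩
  refine hU _ hx k ?_
  have h1 : g ^ p ^ k = 1 := by simpa using congrArg Subtype.val hk
  have e : (x⁻¹ * g * x) ^ p ^ k = x⁻¹ * g ^ p ^ k * x := by
    have := conj_pow (i := p ^ k) (a := x⁻¹) (b := g)
    rwa [inv_inv] at this
  rw [e, h1]; group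

/-- `core` for a simple group -/
theorem core_of_simple [IsSimpleGroup G] {B : Subgroup G} (hB : B ≠ ⊤) (g : G) (hg : ∀ x, x⁻¹ * g * x ∈ B) :
    g = 1 := by
  have h1 : B.normalCore = ⊥ := by
    rcases (Subgroup.normalCore_normal B).eq_bot_or_eq_top with h | h
    · exact h
    · exact absurd (eq_top_iff.2 (h ▸ Subgroup.normalCore_le B)) hB
  have h2 : g ∈ B.normalCore := by
    intro b
    have := hg b⁻¹
    rwa [inv_inv] at this
  rw [h1] at h2
  exact Subgroup.mem_bot.1 h2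

/-- `core` from `O_p(G) = 1` -/
theorem core_of_pcore {p : ℕ} {B U : Subgroup G} (hp : IsPGroup p U)
    (hU : ∀ g ∈ B, ∀ k : ℕ, g ^ p ^ k = 1 → g ∈ U)
    (hO : ∀ N : Subgroup G, N.Normal → IsPGroup p N → N ≤ U → N = ⊥) (g : G) (hgU : g ∈ U)
    (hg : ∀ x, x⁻¹ * g * x ∈ B) : g = 1 := by
  let N : Subgroup G := Subgroup.normalClosure {g}
  have h1 : N ≤ U := by
    rw [show N = Subgroup.closure (Group.conjugatesOfSet {g}) from rfl, Subgroup.closure_le]
    intro y hy
    obtain ⟨z, hz, hzy⟩ := Group.mem_conjugatesOfSet_iff.1 hy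
    rw [Set.mem_singleton_iff] at hz
    subst hz
    obtain ⟨c, rfl⟩ := isConj_iff.1 hzy
    have h2 := hg c⁻¹
    have h3 := clo_of_mem hp hU z hgU c⁻¹ h2
    rwa [inv_inv] at h3
  have h2 := hO N inferInstance (hp.to_le h1) h1
  have h3 : g ∈ N := Subgroup.subset_normalClosure rfl
  rw [h2] at h3
  exact Subgroup.mem_bot.1 h3

/-- `pan` for a panel with three chambers -/
theorem pan_of_three [Finite G] {B P : Subgroup G} (hBP : B ≤ P) (h3 : B.relIndex P = 3) (g : G) (hg : g ∈ B)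
    (x : G) (hx : x ∈ P) (hxB : x ∉ B) (hgx : x⁻¹ * g * x ∈ B) (y : G) (hy : y ∈ P) : y⁻¹ * g * y ∈ B := by
  by_cases hyB : y ∈ B
  · exact mul_mem (mul_mem (inv_mem hyB) hg) hyB
  by_cases hxy : x⁻¹ * y ∈ B
  · have e : y⁻¹ * g * y = (x⁻¹ * y)⁻¹ * (x⁻¹ * g * x) * (x⁻¹ * y) := by group
    rw [e]
    exact mul_mem (mul_mem (inv_mem hxy) hgx) hxy
  -- the four chambers `1, x, y, g y`
  let Q := P ⧸ B.subgroupOf P
  have hcard : Nat.card Q = 3 := h3
  have hgP : g ∈ P := hBP hg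
  have hne : ∀ {a b : G} (ha : a ∈ P) (hb : b ∈ P), a⁻¹ * b ∉ B →
      ((⟨a, ha⟩ : P) : Q) ≠ ((⟨b, hb⟩ : P) : Q) := by
    intro a b ha hb h h'
    exact h (Subgroup.mem_subgroupOf.1 (QuotientGroup.eq.1 h'))
  by_contra hcon
  have hgy : g * y ∈ P := mul_mem hgP hy
  have n1 := hne (one_mem P) hx (by simpa using hxB)
  have n2 := hne (one_mem P) hy (by simpa using hyB)
  have n3 := hne hx hy hxy
  have n4 := hne (one_mem P) hgy (by
    simp only [inv_one, one_mul]
    intro h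
    exact hyB (by have := mul_mem (inv_mem hg) h; rwa [inv_mul_cancel_left] at this))
  have n5 := hne hx hgy (by
    intro h
    apply hxy
    have := mul_mem (inv_mem hgx) h
    have e : (x⁻¹ * g * x)⁻¹ * (x⁻¹ * (g * y)) = x⁻¹ * y := by group
    rwa [e] at this)
  have n6 := hne hy hgy (by
    have e : y⁻¹ * (g * y) = y⁻¹ * g * y := by group
    rw [e]; exact hcon)
  have : Fintype Q := Fintype.ofFinite Q
  rw [Nat.card_eq_fintype_card] at hcard
  have h4 : ({((1 : P) : Q), ((⟨x, hx⟩ : P) : Q), ((⟨y, hy⟩ : P) : Q), ((⟨g * y, hgy⟩ : P) : Q)} :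
      Set Q).ncard ≤ 3 := by
    rw [← hcard, ← Nat.card_eq_fintype_card, ← Set.ncard_univ]
    exact Set.ncard_le_ncard (Set.subset_univ _) (Set.toFinite _)
  have e1 : ((1 : P) : Q) = ((⟨1, one_mem P⟩ : P) : Q) := rfl
  rw [e1] at h4
  rw [Set.ncard_insert_of_notMem (by simp [n1, n2, n4]), Set.ncard_insert_of_notMem (by simp [n3, n5]),
    Set.ncard_pair n6] at h4
  omega

/-- `pan` if `U` is TI modulo a normal subgroup `N ≤ B` of `P` -/
theorem pan_of_ti {B P U N : Subgroup G} (hN : N ≤ B) (hnor : ∀ x ∈ P, ∀ g ∈ N, x⁻¹ * g * x ∈ N)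
    (hclo : ∀ g ∈ U, ∀ x, x⁻¹ * g * x ∈ B → x⁻¹ * g * x ∈ U)
    (hti : ∀ x ∈ P, x ∉ B → ∀ g ∈ U, x⁻¹ * g * x ∈ U → g ∈ N) (g : G) (hg : g ∈ U) (x : G) (hx : x ∈ P)
    (hxB : x ∉ B) (hgx : x⁻¹ * g * x ∈ B) (y : G) (hy : y ∈ P) : y⁻¹ * g * y ∈ B :=
  hN (hnor y hy g (hti x hx hxB g hg (hclo g hg x hgx)))

variable {I : Type*} {M : CoxeterMatrix I} {W : Type*} [Group W]

/-- **THEOREM FREE for `q = 2`** (all panels have three chambers; `U = B`) -/
theorem sys_two [Finite G] [IsSimpleGroup G] (cs : CoxeterSystem M W) {B : Subgroup G} {P : I → Subgroup G}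
    (htop : B ≠ ⊤) (hBP : ∀ i, B ≤ P i) (hgen : ⨆ i, P i = ⊤)
    (hgp : GP B P (fun i j => M i j)) (h3 : ∀ i, B.relIndex (P i) = 3) : Sys cs B P B (fun _ => 2) where
  le := hBP
  gen := hgen
  gp := hgp
  card i := h3 i
  two _ := le_rfl
  U_le := le_rfl
  pan i g hg x hx hxB hgx y hy := pan_of_three (hBP i) (h3 i) g hg x hx hxB hgx y hy
  clo _ _ _ h := h
  core g _ h := core_of_simple htop g h

theorem prod_two (F : List I) : (F.map fun _ => 2).prod = 2 ^ F.length := by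
  induction F with
  | nil => rfl
  | cons i F ih => rw [List.map_cons, List.prod_cons, ih, List.length_cons, pow_succ, mul_comm]

/-- `q = 2`: the bound `|S| ≤ 2 ^ l(w0)` -/
theorem card_le_two [Finite G] [IsSimpleGroup G] [Finite I] [Finite W] (cs : CoxeterSystem M W) {B : Subgroup G}
    {P : I → Subgroup G} (htop : B ≠ ⊤) (hBP : ∀ i, B ≤ P i) (hgen : ⨆ i, P i = ⊤)
    (hgp : GP B P (fun i j => M i j)) (h3 : ∀ i, B.relIndex (P i) = 3) :
    Nat.card B ≤ 2 ^ cs.length (w0 cs) := by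
  obtain ⟨F, hF, he⟩ := cs.exists_isReduced (w0 cs)
  have := (sys_two cs htop hBP hgen hgp h3).card_le hF he.symm
  rw [prod_two] at this
  rw [he, hF.eq]
  exact this

/-- **`q = 2`, `|S| = 2 ^ l(w0)`** : BN-pair -/
theorem exists_bnPair_two [Finite G] [IsSimpleGroup G] [Finite I] [Finite W] (cs : CoxeterSystem M W)
    {B : Subgroup G} {P : I → Subgroup G} (htop : B ≠ ⊤) (hBP : ∀ i, B ≤ P i)
    (hgen : ⨆ i, P i = ⊤) (hgp : GP B P (fun i j => M i j)) (h3 : ∀ i, B.relIndex (P i) = 3)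
    (hcard : Nat.card B = 2 ^ cs.length (w0 cs)) :
    ∃ Q : Cfsg.BNPair G, Q.B = B ∧ Q.rank = Nat.card I ∧ (∃ e : I ≃ Q.S, ∀ i, (e i : G) ∈ P i) ∧
      ((∀ J : Set I, J.Nonempty → Jᶜ.Nonempty → ∃ i ∈ J, ∃ j ∈ Jᶜ, M i j ≠ 2) → Q.Irreducible) := by
  obtain ⟨F, hF, he⟩ := cs.exists_isReduced (w0 cs)
  refine (sys_two cs htop hBP hgen hgp h3).exists_bnPair hF he.symm ?_
  rw [prod_two, hcard, he, hF.eq]

end Cfsg.Agent.ParSys.Free

end

section


/-!
# THEOREM ID, part 3: the parabolic system of `⟨P0, C_G(z)⟩`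

`gpp_three`: a residue with `P i P j P i ⊆ P j P i P j` and no circuits of length four is a generalised triangle.
`gp`: if the parabolics `P j` of `C_G(z)` over `B` form a system of type `M`, then they form together with `P0 = ⟨A, B⟩` a
system of type `M'`, where the new node is joined to `j` by a single bond if `P j` moves `⟨z, a⟩` and is not joined to `j`
if `P j` normalises `⟨z, a⟩`.  `sys`: the input of THEOREM FREE.
-/

set_option autoImplicit false

namespace Cfsg.Agent.Omega.ThmID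

open Cfsg.Agent.Co2Type.Quad Cfsg.Agent.LargeExtra.Base Cfsg.Agent.ParSys Cfsg.Agent.ParSys.Free
  Cfsg.Agent.ParSys.RankTwo

variable {G : Type*} [Group G]

section triangle

variable {I : Type*} {B : Subgroup G} {P : I → Subgroup G}

/-- **The residue is a generalised triangle.** -/
theorem gpp_three (hBP : ∀ i, B ≤ P i) {i j : I}
    (hpt : ∀ p ∈ P i, ∀ q ∈ P j, ∀ p' ∈ P i, ∃ b ∈ P j, ∃ x ∈ P i, ∃ b' ∈ P j, p * q * p' = b * x * b')
    (hgi : ∀ x ∈ P i, ∀ b ∈ P j, ∀ b' ∈ P j, ∀ x' ∈ P i, x * b = b' * x' → x ∈ B ∨ b ∈ B)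
    (hinf : ∀ x, x ∈ P i → x ∈ P j → x ∈ B) : GPp B P i j 3 := by
  intro c l hl
  induction c using QuotientGroup.induction_on with
  | _ g =>
  obtain ⟨k, hk, rfl⟩ := exists_chm hBP hl
  match k, hk with
  | [], hk => exact hk.elim
  | [_], hk => exact hk.2.elim
  | [_, _], hk => exact hk.2.2.elim
  | _ :: _ :: _ :: _ :: _, hk => exact hk.2.2.2.elim
  | [p, q, p'], hk =>
    obtain ⟨⟨hp, hpB⟩, ⟨hq, hqB⟩, ⟨hp', hp'B⟩, -⟩ := hk
    obtain ⟨b, hb, x, hx, b', hb', e⟩ := hpt p hp q hq p' hp'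
    have hbB : b ∉ B := by
      intro h
      have h1 := hgi p'⁻¹ (inv_mem hp') q⁻¹ (inv_mem hq) b'⁻¹ (inv_mem hb') ((p⁻¹ * (b * x))⁻¹)
        (inv_mem (mul_mem (inv_mem hp) (mul_mem (hBP i h) hx))) (by
          have e' : p'⁻¹ * q⁻¹ = (p⁻¹ * (p * q * p'))⁻¹ := by group
          rw [e', e]; group)
      rcases h1 with h1 | h1
      · exact hp'B (by simpa using inv_mem h1)
      · exact hqB (by simpa using inv_mem h1)
    have hb'B : b' ∉ B := by
      intro h
      have h1 := hgi p hp q hq b hb (x * b' * p'⁻¹) (mul_mem (mul_mem hx (hBP i h)) (inv_mem hp')) (by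
          have e' : p * q = (p * q * p') * p'⁻¹ := by group
          rw [e', e]; group)
      rcases h1 with h1 | h1
      · exact hpB h1
      · exact hqB h1
    have hxB : x ∉ B := by
      intro h
      have h1 := hgi p hp q hq (b * x * b') (mul_mem (mul_mem hb (hBP j h)) hb') p'⁻¹ (inv_mem hp') (by
          rw [← e]; group)
      rcases h1 with h1 | h1
      · exact hpB h1
      · exact hqB h1
    have hg : GalE B P (alt j i 3) [b, x, b'] := ⟨⟨hb, hbB⟩, ⟨hx, hxB⟩, ⟨hb', hb'B⟩, trivial⟩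
    refine ⟨chm B g [b, x, b'], ⟨isGal_chm hBP hg, ?_⟩, ?_⟩
    · rw [chm_last, chm_last]
      have e' : [b, x, b'].prod = [p, q, p'].prod := by
        simp only [List.prod_cons, List.prod_nil, mul_one]
        rw [← mul_assoc, ← e, mul_assoc]
      rw [e']
    · rintro l'' ⟨h2, h3⟩
      obtain ⟨k'', hk'', rfl⟩ := exists_chm hBP h2
      rw [chm_last, chm_last, QuotientGroup.eq] at h3
      match k'', hk'' with
      | [], hk => exact hk.elim
      | [_], hk => exact hk.2.elim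
      | [_, _], hk => exact hk.2.2.elim
      | _ :: _ :: _ :: _ :: _, hk => exact hk.2.2.2.elim
      | [b2, x2, b2'], hk'' =>
        obtain ⟨⟨hb2, hb2B⟩, ⟨hx2, hx2B⟩, ⟨hb2', hb2'B⟩, -⟩ := hk''
        have h4 : (b2 * x2 * b2')⁻¹ * (b * x * b') ∈ B := by
          have e' : (g * [b2, x2, b2'].prod)⁻¹ * (g * [p, q, p'].prod) = (b2 * x2 * b2')⁻¹ * (b * x * b') := by
            rw [← e]; simp only [List.prod_cons, List.prod_nil, mul_one]; group
          rwa [e'] at h3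
        set y := (b2 * x2 * b2')⁻¹ * (b * x * b') with hy
        have hβ : b2⁻¹ * b ∈ P j := mul_mem (inv_mem hb2) hb
        have h5 : b2⁻¹ * b ∈ B := by
          have h6 := hgi x⁻¹ (inv_mem hx) (b2⁻¹ * b)⁻¹ (inv_mem hβ) (b2' * y * b'⁻¹)⁻¹
            (inv_mem (mul_mem (mul_mem hb2' (hBP j h4)) (inv_mem hb'))) x2⁻¹ (inv_mem hx2) (by
              rw [hy]; group)
          rcases h6 with h6 | h6
          · exact absurd (by simpa using inv_mem h6) hxB
          · simpa using inv_mem h6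
        have h6 : (b2 * x2)⁻¹ * (b * x) ∈ B := by
          apply hinf
          · have e' : (b2 * x2)⁻¹ * (b * x) = x2⁻¹ * (b2⁻¹ * b) * x := by group
            rw [e']
            exact mul_mem (mul_mem (inv_mem hx2) (hBP i h5)) hx
          · have e' : (b2 * x2)⁻¹ * (b * x) = b2' * y * b'⁻¹ := by rw [hy]; group
            rw [e']
            exact mul_mem (mul_mem hb2' (hBP j h4)) (inv_mem hb')
        have h7 : ((g * b2 : G) : G ⧸ B) = ((g * b : G) : G ⧸ B) := by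
          rw [QuotientGroup.eq]
          have e' : (g * b2)⁻¹ * (g * b) = b2⁻¹ * b := by group
          rw [e']; exact h5
        have h8 : ((g * b2 * x2 : G) : G ⧸ B) = ((g * b * x : G) : G ⧸ B) := by
          rw [QuotientGroup.eq]
          have e' : (g * b2 * x2)⁻¹ * (g * b * x) = (b2 * x2)⁻¹ * (b * x) := by group
          rw [e']; exact h6
        have h9 : ((g * b2 * x2 * b2' : G) : G ⧸ B) = ((g * b * x * b' : G) : G ⧸ B) := by
          rw [QuotientGroup.eq]
          have e' : (g * b2 * x2 * b2')⁻¹ * (g * b * x * b') = y := by rw [hy]; group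
          rw [e']; exact h4
        simp only [chm, h7, h8, h9]

end triangle

section option

variable {J : Type*} {B : Subgroup G}

/-- the system of the minimal parabolics -/
def PP (P0 : Subgroup G) (P : J → Subgroup G) : Option J → Subgroup G
  | none => P0
  | some j => P j

@[simp] theorem PP_none (P0 : Subgroup G) (P : J → Subgroup G) : PP P0 P none = P0 := rfl

@[simp] theorem PP_some (P0 : Subgroup G) (P : J → Subgroup G) (j : J) : PP P0 P (some j) = P j := rfl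

theorem alt_map_some (i j : J) (m : ℕ) : alt (some i) (some j) m = (alt i j m).map some := by
  induction m generalizing i j with
  | zero => rfl
  | succ m ih => rw [alt_cons, alt_cons, ih, List.map_cons]

theorem isGal_map_some {C : Type*} {A : Option J → C → C → Prop} (f : List J) (c : C) (l : List C) :
    IsGal A (f.map some) c l ↔ IsGal (fun j => A (some j)) f c l := by
  induction f generalizing c l with
  | nil => simp
  | cons i f ih =>
    cases l with
    | nil => exact Iff.rfl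
    | cons d l =>
      rw [List.map_cons, isGal_cons_cons, isGal_cons_cons, ih]

theorem adj_some (P0 : Subgroup G) (P : J → Subgroup G) (j : J) (c d : G ⧸ B) :
    adj B (PP P0 P) (some j) c d ↔ adj B P j c d := Iff.rfl

theorem gpp_some {P0 : Subgroup G} {P : J → Subgroup G} {i j : J} {m : ℕ} (h : GPp B P i j m) :
    GPp B (PP P0 P) (some i) (some j) m := by
  intro c l hl
  rw [alt_map_some, isGal_map_some] at hl
  obtain ⟨l', ⟨h1, h2⟩, h3⟩ := h c l hl
  refine ⟨l', ⟨?_, h2⟩, ?_⟩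
  · rw [alt_map_some, isGal_map_some]; exact h1
  · rintro y ⟨hy1, hy2⟩
    rw [alt_map_some, isGal_map_some] at hy1
    exact h3 y ⟨hy1, hy2⟩

end option

namespace Cfg

variable {Q A S B : Subgroup G} {z a : G} (c : Cfg Q A z a S B)

include c

/-- the digon -/
theorem gpp_two_none {J : Type*} {P : J → Subgroup G} (hBP : ∀ j, B ≤ P j) (hPz : ∀ j, ∀ x ∈ P j, x * z = z * x)
    {j : J} (hPa : ∀ x ∈ P j, x * a * x⁻¹ = a ∨ x * a * x⁻¹ = a * z) :
    GPp B (PP (P0 A B) P) none (some j) 2 ∧ GPp B (PP (P0 A B) P) (some j) none 2 := by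
  have hBP' : ∀ o, B ≤ PP (P0 A B) P o := by
    rintro (_ | j)
    · exact B_le
    · exact hBP j
  have hinf : ∀ x, x ∈ P0 A B → x ∈ P j → x ∈ B := fun x h1 h2 => c.mem_B_of h1 (hPz j x h2)
  constructor
  · refine gpp_two hBP' (fun x h1 h2 => hinf x h1 h2) ?_
    intro p hp q hq
    obtain ⟨x', hx', y', hy', e⟩ := c.digon (hBP j) (hPz j) hPa (inv_mem hp) (inv_mem hq)
    refine ⟨y'⁻¹, inv_mem hy', x'⁻¹, inv_mem hx', ?_⟩
    have e' : p * q = (q⁻¹ * p⁻¹)⁻¹ := by group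
    rw [e', e]; group
  · refine gpp_two hBP' (fun x h1 h2 => hinf x h2 h1) ?_
    intro q hq p hp
    exact c.digon (hBP j) (hPz j) hPa hp hq

theorem B_ne_top : B ≠ ⊤ := by
  intro h
  obtain ⟨t, -, ht⟩ := c.exists_t
  have h1 := c.B_comm t (by rw [h]; trivial)
  apply c.az_ne
  rw [← ht, h1]; group

end Cfg

namespace Mov

open Cfg

variable {Q A S B : Subgroup G} {z a : G}

/-- the triangle -/
theorem gpp_three_none [Finite G] {J : Type*} {P : J → Subgroup G} (hBP : ∀ j, B ≤ P j) {j : J}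
    (m : Mov Q A z a S B (P j)) :
    GPp B (PP (P0 A B) P) none (some j) 3 ∧ GPp B (PP (P0 A B) P) (some j) none 3 := by
  have hBP' : ∀ o, B ≤ PP (P0 A B) P o := by
    rintro (_ | j)
    · exact B_le
    · exact hBP j
  have hinf : ∀ x, x ∈ P0 A B → x ∈ P j → x ∈ B := fun x h1 h2 => m.toCfg.mem_B_of h1 (m.Pz x h2)
  constructor
  · refine gpp_three hBP' ?_ ?_ (fun x h1 h2 => hinf x h1 h2)
    · intro p hp q hq p' hp'
      exact m.point (mul_mem (mul_mem (m.P0_le hp) (m.P_le hq)) (m.P0_le hp'))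
    · intro x hx b hb b' hb' x' hx' e
      exact m.girth hx hb hb' hx' e
  · refine gpp_three hBP' ?_ ?_ (fun x h1 h2 => hinf x h2 h1)
    · intro p hp q hq p' hp'
      exact m.line (mul_mem (mul_mem (m.P_le hp) (m.P0_le hq)) (m.P_le hp'))
    · intro x hx b hb b' hb' x' hx' e
      have h1 := m.girth (inv_mem hb) (inv_mem hx) (inv_mem hx') (inv_mem hb') (by
        rw [← mul_inv_rev, e, mul_inv_rev])
      rcases h1 with h1 | h1
      · right; simpa using inv_mem h1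
      · left; simpa using inv_mem h1

end Mov

open Cfg

/-- **(ID4)** the generalised polygons of the enlarged system -/
theorem gp_option [Finite G] {Q A S B : Subgroup G} {z a : G} (c : Cfg Q A z a S B) {J : Type*}
    {P : J → Subgroup G} {M : J → J → ℕ} {M' : Option J → Option J → ℕ} (hBP : ∀ j, B ≤ P j)
    (hPz : ∀ j, ∀ x ∈ P j, x * z = z * x) (hgp : GP B P M) (hsome : ∀ i j, M' (some i) (some j) = M i j)
    (hsymm : ∀ j, M' (some j) none = M' none (some j))
    (hnone : ∀ j, (M' none (some j) = 2 ∧ ∀ x ∈ P j, x * a * x⁻¹ = a ∨ x * a * x⁻¹ = a * z) ∨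
      (M' none (some j) = 3 ∧ Mov Q A z a S B (P j))) :
    GP B (PP (P0 A B) P) M' := by
  have key : ∀ j, GPp B (PP (P0 A B) P) none (some j) (M' none (some j)) ∧
      GPp B (PP (P0 A B) P) (some j) none (M' none (some j)) := by
    intro j
    rcases hnone j with ⟨h1, h2⟩ | ⟨h1, h2⟩
    · rw [h1]; exact c.gpp_two_none hBP hPz h2
    · rw [h1]; exact h2.gpp_three_none hBP
  rw [gp_iff]
  rintro (_ | i) (_ | j) hij
  · exact absurd rfl hij
  · exact (key j).1
  · rw [hsymm]; exact (key i).2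
  · rw [hsome]
    exact gpp_some ((gp_iff.1 hgp) i j (fun h => hij (by rw [h])))

/-- the weights of the enlarged system -/
def qq {J : Type*} (q : J → ℕ) : Option J → ℕ
  | none => 2
  | some j => q j

/-- **THEOREM ID**: the input of THEOREM FREE. -/
theorem sys [Finite G] [IsSimpleGroup G] {Q A S B : Subgroup G} {z a : G} (c : Cfg Q A z a S B) {J : Type*}
    {P : J → Subgroup G} {M : J → J → ℕ} {M' : CoxeterMatrix (Option J)} {W : Type*} [Group W]
    (cs : CoxeterSystem M' W) {q : J → ℕ} (hBP : ∀ j, B ≤ P j)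
    (hPz : ∀ j, ∀ x ∈ P j, x * z = z * x) (hgp : GP B P M) (hsome : ∀ i j, M' (some i) (some j) = M i j)
    (hnone : ∀ j, (M' none (some j) = 2 ∧ ∀ x ∈ P j, x * a * x⁻¹ = a ∨ x * a * x⁻¹ = a * z) ∨
      (M' none (some j) = 3 ∧ Mov Q A z a S B (P j)))
    (hgen : P0 A B ⊔ ⨆ j, P j = ⊤) (hcard : ∀ j, B.relIndex (P j) = q j + 1) (htwo : ∀ j, 2 ≤ q j)
    (hpan : ∀ j, ∀ g ∈ S, ∀ x ∈ P j, x ∉ B → x⁻¹ * g * x ∈ B → ∀ y ∈ P j, y⁻¹ * g * y ∈ B) :
    Sys cs B (PP (P0 A B) P) S (qq q) where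
  le := by
    rintro (_ | j)
    · exact B_le
    · exact hBP j
  gen := by
    rw [iSup_option]; exact hgen
  gp := gp_option c hBP hPz hgp hsome (fun j => M'.symmetric _ _) hnone
  card := by
    rintro (_ | j)
    · exact c.relIndex_eq
    · exact hcard j
  two := by
    rintro (_ | j)
    · exact le_rfl
    · exact htwo j
  U_le := c.S_le
  pan := by
    rintro (_ | j)
    · intro g hg x hx hxB hgx y hy
      exact pan_of_three B_le c.relIndex_eq g (c.S_le hg) x hx hxB hgx y hy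
    · exact hpan j
  clo := by
    intro g hg x hx
    exact clo_of_mem c.S_two c.S_of g hg x hx
  core := by
    intro g _ h
    exact core_of_simple c.B_ne_top g h

/-- `hD` of `Mov` from: an element of `Q` which commutes with all `[u, x]`, `u ∈ C_Q(a)`, `x ∈ C_A(z)`, lies in `A` -/
theorem hD_of {Q A : Subgroup G} {z a : G} (p : Pair Q z A a)
    (h : ∀ v ∈ Q, (∀ u ∈ Q, u * a = a * u → ∀ x ∈ A, x * z = z * x →
      v * (u * x * u⁻¹ * x⁻¹) = (u * x * u⁻¹ * x⁻¹) * v) → v ∈ A) :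
    ∀ v ∈ Q, v * a = a * v → (∀ x ∈ A, x * z = z * x →
    x * v * x⁻¹ = v ∨ x * v * x⁻¹ = v * z ∨ x * v * x⁻¹ = v * a ∨ x * v * x⁻¹ = v * (a * z)) → v ∈ A := by
  intro v hv hva hx
  apply h v hv
  intro u hu hua x hxA hxz
  -- `b(v, [u, x]) = b([v, x⁻¹], u)`
  have hxz' : x⁻¹ * z = z * x⁻¹ := Cfg.comm_inv_of hxz
  have h1 : u * x * u⁻¹ * x⁻¹ ∈ Q := by
    have e : u * x * u⁻¹ * x⁻¹ = u * (x * u⁻¹ * x⁻¹) := by group
    rw [e]
    exact mul_mem hu (p.lz.conj_mem x hxz _ (inv_mem hu))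
  have hvx : x⁻¹ * v * x ∈ Q := by
    have := p.lz.conj_mem _ hxz' v hv
    rwa [inv_inv] at this
  -- the form
  set V := p.lz.V
  have hb : p.lz.b (p.lz.pr ⟨v, hv⟩) (p.lz.pr ⟨_, h1⟩) = 0 := by
    have hxuQ : x * u⁻¹ * x⁻¹ ∈ Q := p.lz.conj_mem x hxz _ (inv_mem hu)
    have e1 : p.lz.pr ⟨_, h1⟩ = p.lz.pr ⟨u, hu⟩ + p.lz.pr ⟨_, hxuQ⟩ := by
      have := p.lz.pr_mul ⟨u, hu⟩ ⟨_, hxuQ⟩
      rw [← this]
      congr 1
      exact Subtype.ext (by show u * x * u⁻¹ * x⁻¹ = u * (x * u⁻¹ * x⁻¹); group)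
    let g : Subgroup.centralizer ({z} : Set G) := ⟨x, Subgroup.mem_centralizer_singleton_iff.2 hxz⟩
    let gi : Subgroup.centralizer ({z} : Set G) := ⟨x⁻¹, Subgroup.mem_centralizer_singleton_iff.2 hxz'⟩
    have e2 : p.lz.pr ⟨_, hxuQ⟩ = p.lz.act g (p.lz.pr ⟨u⁻¹, inv_mem hu⟩) := by
      rw [p.lz.act_pr]; rfl
    have e3 : p.lz.pr ⟨v, hv⟩ = p.lz.act g (p.lz.pr ⟨_, hvx⟩) := by
      rw [p.lz.act_pr]
      congr 1
      exact Subtype.ext (by show v = x * (x⁻¹ * v * x) * x⁻¹; group)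
    have e4 : p.lz.pr ⟨u⁻¹, inv_mem hu⟩ = p.lz.pr ⟨u, hu⟩ := by
      have := p.lz.pr_inv ⟨u, hu⟩
      rw [p.lz.neg_eq] at this
      exact this
    have e5 : p.lz.b (p.lz.pr ⟨v, hv⟩) (p.lz.pr ⟨_, hxuQ⟩) = p.lz.b (p.lz.pr ⟨_, hvx⟩) (p.lz.pr ⟨u, hu⟩) := by
      rw [e2, e3, p.lz.b_act, e4]
    rw [e1, map_add, e5]
    -- `x⁻¹ v x = v c` with `c ∈ ⟨z, a⟩`
    have h2 := hx x⁻¹ (inv_mem hxA) hxz'
    rw [inv_inv] at h2
    have hau : p.lz.b (p.lz.pr ⟨a, p.a_mem⟩) (p.lz.pr ⟨u, hu⟩) = 0 := (p.lz.b_pr _ _).2 hua.symm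
    have hpa : p.lz.pr ⟨_, hvx⟩ = p.lz.pr ⟨v, hv⟩ ∨
        p.lz.pr ⟨_, hvx⟩ = p.lz.pr ⟨v, hv⟩ + p.lz.pr ⟨a, p.a_mem⟩ := by
      rcases h2 with h2 | h2 | h2 | h2
      · left; exact p.lz.pr_eq_pr.2 (Or.inl h2)
      · left; exact p.lz.pr_eq_pr.2 (Or.inr h2)
      · right
        rw [← p.lz.pr_mul]
        exact p.lz.pr_eq_pr.2 (Or.inl h2)
      · right
        rw [← p.lz.pr_mul]
        refine p.lz.pr_eq_pr.2 (Or.inr ?_)
        show x⁻¹ * v * x = v * a * z
        rw [h2, mul_assoc]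
    rcases hpa with h3 | h3
    · rw [h3]
      generalize p.lz.b (p.lz.pr ⟨v, hv⟩) (p.lz.pr ⟨u, hu⟩) = t
      revert t; decide
    · rw [h3, map_add, LinearMap.add_apply, hau, add_zero]
      generalize p.lz.b (p.lz.pr ⟨v, hv⟩) (p.lz.pr ⟨u, hu⟩) = t
      revert t; decide
  exact (p.lz.b_pr _ _).1 hb

end Cfsg.Agent.Omega.ThmID

end

section


/-!
# THEOREM ID, part 4: the parabolic system inside the group `G0` which it generates

`gp_sub`: the polygons of a system of subgroups of `H ≤ G` in `H`.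
`sys_sub`: the input of THEOREM FREE for the group `G0 = ⟨P0, P j⟩`, which is not supposed to be `G`.
`C_le_normalizer`, `V_le_normalizer`: `C_G(z)` and `N_G(⟨z, a⟩)` normalise `G0 = ⟨A, L⟩`, `L` normal in `C_G(z)`.
-/

set_option autoImplicit false

namespace Cfsg.Agent.Omega.ThmID

open Cfsg.Agent.Co2Type.Quad Cfsg.Agent.LargeExtra.Base Cfsg.Agent.ParSys Cfsg.Agent.ParSys.Free
  Cfsg.Agent.ParSys.RankTwo

section galleries

variable {C C' I : Type*} {A : I → C → C → Prop} {A' : I → C' → C' → Prop} {ι : C → C'}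

theorem isGal_map_iff (hA : ∀ i c d, A i c d ↔ A' i (ι c) (ι d)) {f : List I} {c : C} {l : List C} :
    IsGal A f c l ↔ IsGal A' f (ι c) (l.map ι) := by
  induction f generalizing c l with
  | nil => simp
  | cons i f ih =>
    cases l with
    | nil => exact Iff.rfl
    | cons d l => rw [List.map_cons, isGal_cons_cons, isGal_cons_cons, ih, hA]

theorem isGal_lift (hcl : ∀ i c e, A' i (ι c) e → ∃ d, ι d = e) {f : List I} {c : C}
    {l' : List C'} (h : IsGal A' f (ι c) l') : ∃ l : List C, l' = l.map ι := by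
  induction f generalizing c l' with
  | nil => exact ⟨[], by rw [isGal_nil_iff.1 h]; rfl⟩
  | cons i f ih =>
    obtain ⟨e, l'', rfl, h1, h2⟩ := isGal_cons_iff.1 h
    obtain ⟨d, rfl⟩ := hcl i c e h1
    obtain ⟨l, rfl⟩ := ih h2
    exact ⟨d :: l, rfl⟩

theorem getLastD_map {c : C} {l : List C} : (l.map ι).getLastD (ι c) = ι (l.getLastD c) := by
  induction l generalizing c with
  | nil => rfl
  | cons d l ih => rw [List.map_cons, List.getLastD_cons, List.getLastD_cons, ih]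

end galleries

variable {G : Type*} [Group G]

/-- the chamber system of a subgroup which contains the parabolics -/
theorem gp_sub {H B : Subgroup G} {I : Type*} {P : I → Subgroup G} {m : I → I → ℕ} (hBP : ∀ i, B ≤ P i)
    (hP : ∀ i, P i ≤ H) (h : GP B P m) : GP (B.subgroupOf H) (fun i => (P i).subgroupOf H) m := by
  let ι : H ⧸ B.subgroupOf H → G ⧸ B := Quotient.map' (fun x => (x : G)) (by
    intro x y h
    rw [QuotientGroup.leftRel_apply] at h ⊢
    exact h)
  have hι : ∀ x : H, ι (QuotientGroup.mk x) = QuotientGroup.mk (x : G) := fun _ => rfl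
  have hinj : Function.Injective ι := by
    intro x y
    induction x using QuotientGroup.induction_on with
    | _ x =>
    induction y using QuotientGroup.induction_on with
    | _ y =>
    intro h
    rw [hι, hι, QuotientGroup.eq] at h
    rw [QuotientGroup.eq]
    exact h
  have hBP' : ∀ i, B.subgroupOf H ≤ (P i).subgroupOf H := fun i x hx => hBP i hx
  have hA : ∀ i c d, adj (B.subgroupOf H) (fun i => (P i).subgroupOf H) i c d ↔ adj B P i (ι c) (ι d) := by
    intro i c d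
    induction c using QuotientGroup.induction_on with
    | _ x =>
    induction d using QuotientGroup.induction_on with
    | _ y =>
    rw [adj_mk hBP', hι, hι, adj_mk hBP]
    exact Iff.rfl
  have hcl : ∀ i c e, adj B P i (ι c) e → ∃ d, ι d = e := by
    intro i c e hce
    induction c using QuotientGroup.induction_on with
    | _ x =>
    induction e using QuotientGroup.induction_on with
    | _ y =>
    rw [hι, adj_mk hBP] at hce
    have h1 : y ∈ H := by
      have h2 := mul_mem x.2 (hP i hce.1)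
      rwa [mul_inv_cancel_left] at h2
    exact ⟨QuotientGroup.mk ⟨y, h1⟩, rfl⟩
  intro i j hij c l hl
  have hl' := (isGal_map_iff hA).1 hl
  obtain ⟨l'', ⟨h1, h2⟩, h3⟩ := h i j hij _ _ hl'
  obtain ⟨k, rfl⟩ := isGal_lift hcl h1
  refine ⟨k, ⟨(isGal_map_iff hA).2 h1, ?_⟩, ?_⟩
  · rw [getLastD_map, getLastD_map] at h2
    exact hinj h2
  · rintro k' ⟨h4, h5⟩
    have h6 := h3 (k'.map ι) ⟨(isGal_map_iff hA).1 h4, by rw [getLastD_map, getLastD_map, h5]⟩
    exact List.map_injective_iff.2 hinj h6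

theorem iSup_sub {H : Subgroup G} {I : Type*} {P : I → Subgroup G} (h : ⨆ i, P i = H) :
    ⨆ i, (P i).subgroupOf H = ⊤ := by
  apply Subgroup.map_injective H.subtype_injective
  rw [Subgroup.map_iSup, ← MonoidHom.range_eq_map, Subgroup.range_subtype]
  simp only [Subgroup.subgroupOf_map_subtype]
  rw [← h]
  apply le_antisymm
  · exact iSup_mono fun i => inf_le_left
  · exact iSup_mono fun i => le_inf le_rfl (le_iSup P i)

namespace Cfg

open Cfg

variable {Q A S B : Subgroup G} {z a : G} (c : Cfg Q A z a S B)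

include c

/-- the core: a normal 2-subgroup of `G0` in `S` is trivial if two conjugates of `a` do not commute -/
theorem core_of [Finite G] {G0 : Subgroup G} (hA : A ≤ G0) (hB : B ≤ G0)
    (hnc : ∃ g ∈ G0, (g * a * g⁻¹) * a ≠ a * (g * a * g⁻¹)) {g : G} (hg : g ∈ S)
    (hx : ∀ x ∈ G0, x⁻¹ * g * x ∈ B) : g = 1 := by
  classical
  by_contra hne
  have hP0 : P0 A B ≤ G0 := sup_le hA hB
  -- the normal subgroup
  let N : Subgroup G :=
    { carrier := {n | ∀ x ∈ G0, x⁻¹ * n * x ∈ S}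
      one_mem' := fun x _ => by
        have : x⁻¹ * 1 * x = 1 := by group
        rw [this]; exact one_mem _
      mul_mem' := by
        intro m n hm hn x hx
        have e : x⁻¹ * (m * n) * x = (x⁻¹ * m * x) * (x⁻¹ * n * x) := by group
        rw [e]; exact mul_mem (hm x hx) (hn x hx)
      inv_mem' := by
        intro m hm x hx
        have e : x⁻¹ * m⁻¹ * x = (x⁻¹ * m * x)⁻¹ := by group
        rw [e]; exact inv_mem (hm x hx) }
  have hN : ∀ n, n ∈ N ↔ ∀ x ∈ G0, x⁻¹ * n * x ∈ S := fun n => Iff.rfl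
  have hNconj : ∀ x ∈ G0, ∀ n ∈ N, x * n * x⁻¹ ∈ N := by
    intro x hx n hn y hy
    have e : y⁻¹ * (x * n * x⁻¹) * y = (x⁻¹ * y)⁻¹ * n * (x⁻¹ * y) := by group
    rw [e]; exact hn _ (mul_mem (inv_mem hx) hy)
  have hNS : N ≤ S := by
    intro n hn
    have := hn 1 (one_mem _)
    have e : (1 : G)⁻¹ * n * 1 = n := by group
    rwa [e] at this
  have hgN : g ∈ N := by
    intro x hx'
    obtain ⟨n, hn⟩ := c.exists_pow hg
    refine c.S_of _ (hx x hx') n ?_
    have e : x⁻¹ * g * x = x⁻¹ * g * x⁻¹⁻¹ := by group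
    rw [e, conj_pow, hn]; group
  -- a fixed point of `Q` on `N`
  have hQN : ∀ q ∈ Q, ∀ n ∈ N, q * n * q⁻¹ ∈ N := fun q hq n hn => hNconj q (hB (c.Q_le_B hq)) n hn
  let _ : MulAction Q N :=
    { smul := fun q n => ⟨(q : G) * n * (q : G)⁻¹, hQN q q.2 n n.2⟩
      one_smul := fun n => Subtype.ext (by show ((1 : Q) : G) * n * ((1 : Q) : G)⁻¹ = n; simp)
      mul_smul := fun q r n => Subtype.ext (by
        show ((q * r : Q) : G) * n * ((q * r : Q) : G)⁻¹ = (q : G) * ((r : G) * n * (r : G)⁻¹) * (q : G)⁻¹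
        rw [Subgroup.coe_mul]; group) }
  have hN2 : IsPGroup 2 N := c.S_two.to_le hNS
  have hQ2 : IsPGroup 2 Q := c.S_two.to_le c.Q_le_S
  have h1 := hQ2.card_modEq_card_fixedPoints N
  have hnt : Nontrivial N := ⟨⟨⟨g, hgN⟩, 1, fun h => hne (congrArg Subtype.val h)⟩⟩
  have h2 : 2 ∣ Nat.card N := by
    obtain ⟨n, hn⟩ := (IsPGroup.iff_card (p := 2) (G := N)).1 hN2
    rw [hn]
    rcases n with _ | n
    · exfalso
      rw [pow_zero, Nat.card_eq_one_iff_unique] at hn
      exact not_subsingleton N hn.1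
    · exact dvd_pow_self 2 (Nat.succ_ne_zero n)
  have h3 : 2 ∣ Nat.card (MulAction.fixedPoints Q N) := (Nat.modEq_zero_iff_dvd.1 (h1.symm.trans
    (Nat.modEq_zero_iff_dvd.2 h2)))
  have h0 : (1 : N) ∈ MulAction.fixedPoints Q N := fun q => Subtype.ext (by
    show (q : G) * ((1 : N) : G) * (q : G)⁻¹ = 1
    simp)
  have h4 : 1 < Nat.card (MulAction.fixedPoints Q N) := by
    have : 0 < Nat.card (MulAction.fixedPoints Q N) := Nat.card_pos_iff.2 ⟨⟨⟨1, h0⟩⟩, inferInstance⟩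
    exact Nat.lt_of_lt_of_le (by norm_num) (Nat.le_of_dvd this h3)
  obtain ⟨⟨⟨m, hm⟩, hm'⟩, ⟨⟨n, hn⟩, hn'⟩, hmn⟩ := (Finite.one_lt_card_iff_nontrivial.1 h4).exists_pair_ne
  have key : ∀ (m : G) (hm : m ∈ N), (⟨m, hm⟩ : N) ∈ MulAction.fixedPoints Q N → m ≠ 1 → z ∈ N := by
    intro m hm hm' hm1
    have h5 : ∀ q ∈ Q, m * q = q * m := by
      intro q hq
      have h6 : q * m * q⁻¹ = m := congrArg Subtype.val (hm' ⟨q, hq⟩)
      rw [mul_inv_eq_iff_eq_mul] at h6
      exact h6.symm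
    have h6 : m ∈ Q := c.p.lz.self m (h5 z c.p.lz.z_mem) h5
    rcases c.p.lz.cent m h6 h5 with h7 | h7
    · exact absurd h7 hm1
    · rw [← h7]; exact hm
  have hz : z ∈ N := by
    by_cases hm1 : m = 1
    · refine key n hn hn' ?_
      rintro rfl
      exact hmn (by subst hm1; rfl)
    · exact key m hm hm' hm1
  -- `N` is in the centraliser of all conjugates of `z`
  have hcz : ∀ n ∈ N, ∀ x ∈ G0, n * (x * z * x⁻¹) = (x * z * x⁻¹) * n := by
    intro n hn x hx
    have h5 := hn x hx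
    have h6 := c.B_comm _ (c.S_le h5)
    calc n * (x * z * x⁻¹) = x * ((x⁻¹ * n * x) * z) * x⁻¹ := by group
      _ = x * (z * (x⁻¹ * n * x)) * x⁻¹ := by rw [h6]
      _ = _ := by group
  obtain ⟨k, hk, hka⟩ := c.exists_mem (u := a) (Or.inr (Or.inl rfl))
  have ha : a ∈ N := by
    rw [← hka]; exact hNconj k (hP0 hk) z hz
  obtain ⟨y, hy, hya⟩ := hnc
  apply hya
  have h5 := hcz a ha (y * k) (mul_mem hy (hP0 hk))
  have e : y * k * z * (y * k)⁻¹ = y * a * y⁻¹ := by rw [← hka]; group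
  rw [e] at h5
  exact h5.symm

end Cfg

open Cfg

/-- **THEOREM END**: the input of THEOREM FREE for the group `G0 = ⟨P0, P j⟩`. -/
theorem sys_sub [Finite G] {Q A S B : Subgroup G} {z a : G} (c : Cfg Q A z a S B) {J : Type*}
    {P : J → Subgroup G} {M : J → J → ℕ} {M' : CoxeterMatrix (Option J)} {W : Type*} [Group W]
    (cs : CoxeterSystem M' W) {q : J → ℕ} (hBP : ∀ j, B ≤ P j)
    (hPz : ∀ j, ∀ x ∈ P j, x * z = z * x) (hgp : GP B P M) (hsome : ∀ i j, M' (some i) (some j) = M i j)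
    (hnone : ∀ j, (M' none (some j) = 2 ∧ ∀ x ∈ P j, x * a * x⁻¹ = a ∨ x * a * x⁻¹ = a * z) ∨
      (M' none (some j) = 3 ∧ Mov Q A z a S B (P j)))
    (hcard : ∀ j, B.relIndex (P j) = q j + 1) (htwo : ∀ j, 2 ≤ q j)
    (hpan : ∀ j, ∀ g ∈ S, ∀ x ∈ P j, x ∉ B → x⁻¹ * g * x ∈ B → ∀ y ∈ P j, y⁻¹ * g * y ∈ B)
    {G0 : Subgroup G} (hgen : P0 A B ⊔ ⨆ j, P j = G0)
    (hnc : ∃ g ∈ G0, (g * a * g⁻¹) * a ≠ a * (g * a * g⁻¹)) :
    Sys cs (B.subgroupOf G0) (fun o => (PP (P0 A B) P o).subgroupOf G0) (S.subgroupOf G0) (qq q) := by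
  have hBP' : ∀ o, B ≤ PP (P0 A B) P o := by
    rintro (_ | j)
    · exact B_le
    · exact hBP j
  have hP' : ∀ o, PP (P0 A B) P o ≤ G0 := by
    rintro (_ | j)
    · rw [← hgen]; exact le_sup_left
    · rw [← hgen]; exact (le_iSup P j).trans le_sup_right
  have hsup : ⨆ o, PP (P0 A B) P o = G0 := by
    rw [iSup_option]; exact hgen
  have hBG : B ≤ G0 := (hBP' none).trans (hP' none)
  exact
  { le := fun o x hx => hBP' o hx
    gen := iSup_sub hsup
    gp := gp_sub hBP' hP' (gp_option c hBP hPz hgp hsome (fun j => M'.symmetric _ _) hnone)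
    card := by
      rintro (_ | j)
      · rw [Subgroup.relIndex_subgroupOf (hP' none)]
        exact c.relIndex_eq
      · rw [Subgroup.relIndex_subgroupOf (hP' (some j))]
        exact hcard j
    two := by
      rintro (_ | j)
      · exact le_rfl
      · exact htwo j
    U_le := fun x hx => c.S_le hx
    pan := by
      rintro (_ | j)
      · intro g hg x hx hxB hgx y hy
        exact pan_of_three B_le c.relIndex_eq g (c.S_le hg) x hx hxB hgx y hy
      · intro g hg x hx hxB hgx y hy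
        exact hpan j g hg x hx hxB hgx y hy
    clo := by
      intro g hg x hx
      exact clo_of_mem c.S_two c.S_of g hg x hx
    core := by
      intro g hg h
      apply Subtype.ext
      exact c.core_of ((A_le.trans (hP' none))) hBG hnc hg fun x hx => h ⟨x, hx⟩ }

end Cfsg.Agent.Omega.ThmID

end

section


/-!
# THEOREM ID, part 5: the configuration from a normal subgroup `L` of `C_G(z)` with `C_G(z) / L` a 2-group

`Lev Q A z a S L`: `Pair Q z A a`, `L` normal in `C_G(z)`, `C_G(z) / L` a 2-group, `Q C_A(z) ≤ L`, `S` a Sylow 2-subgroup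
of `L`, `C_{Q/⟨z⟩}(S) ≤ ⟨a⟩`.  Then, with `Bo S L = N_L(S)`,

* `Lev.cfg : Cfg Q A z a S (Bo S L)`, `Lev.mov`: the input of `sys`, `sys_sub`;
* `Lev.conj_G0`, `Lev.conj_G0_V`: `C_G(z)` and `N_G(⟨z, a⟩)` normalise `G0 = ⟨A, L⟩`.

`Lev.of_sylow`: `L = C_G(z)`, `S` a Sylow 2-subgroup of `G`.
-/

set_option autoImplicit false

namespace Cfsg.Agent.Omega.ThmID

open Cfsg.Agent.Co2Type.Quad Cfsg.Agent.LargeExtra.Base

variable {G : Type*} [Group G]

/-- a 2-group acting on a nontrivial elementary abelian 2-group has a nontrivial fixed point -/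
theorem exists_fixed {Q : Subgroup G} {z a : G} [Finite G] (h : Large Q z) (ha : a ∈ Q) (ha1 : a ≠ 1) (haz : a ≠ z)
    {S : Subgroup G} (hS : IsPGroup 2 S) (hz : ∀ s ∈ S, s * z = z * s) :
    ∃ x ∈ Q, x ≠ 1 ∧ x ≠ z ∧ ∀ s ∈ S, s * x * s⁻¹ = x ∨ s * x * s⁻¹ = x * z := by
  classical
  let ρ : S →* (h.V ≃ₗ[ZMod 2] h.V) :=
    h.act.comp (Subgroup.inclusion fun x hx => Subgroup.mem_centralizer_singleton_iff.2 (hz x hx))
  let _ : MulAction S h.V :=
    { smul := fun s v => ρ s v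
      one_smul := fun v => by show ρ 1 v = v; rw [map_one]; rfl
      mul_smul := fun s t v => by show ρ (s * t) v = ρ s (ρ t v); rw [map_mul]; rfl }
  have hV : Finite h.V := inferInstance
  have h1 := hS.card_modEq_card_fixedPoints h.V
  have hne : h.pr ⟨a, ha⟩ ≠ 0 := by
    intro h2
    rcases h.pr_eq_zero.1 h2 with h3 | h3
    · exact ha1 h3
    · exact haz h3
  have h2 : 2 ∣ Nat.card h.V := by
    have h3 : addOrderOf (h.pr ⟨a, ha⟩) = 2 := by
      apply addOrderOf_eq_prime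
      · rw [two_nsmul]; exact h.add_self _
      · exact hne
    rw [← h3]; exact addOrderOf_dvd_natCard _
  have h3 : 2 ∣ Nat.card (MulAction.fixedPoints S h.V) := (Nat.modEq_zero_iff_dvd.1 (h1.symm.trans
    (Nat.modEq_zero_iff_dvd.2 h2)))
  have h0 : (0 : h.V) ∈ MulAction.fixedPoints S h.V := fun s => by
    show ρ s 0 = 0
    rw [map_zero]
  have h4 : 1 < Nat.card (MulAction.fixedPoints S h.V) := by
    have : 0 < Nat.card (MulAction.fixedPoints S h.V) := Nat.card_pos_iff.2 ⟨⟨⟨0, h0⟩⟩, inferInstance⟩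
    exact Nat.lt_of_lt_of_le (by norm_num) (Nat.le_of_dvd this h3)
  obtain ⟨⟨v, hv⟩, ⟨w, hw⟩, hvw⟩ := (Finite.one_lt_card_iff_nontrivial.1 h4).exists_pair_ne
  have key : ∀ v : h.V, v ∈ MulAction.fixedPoints S h.V → v ≠ 0 →
      ∃ x ∈ Q, x ≠ 1 ∧ x ≠ z ∧ ∀ s ∈ S, s * x * s⁻¹ = x ∨ s * x * s⁻¹ = x * z := by
    intro v hv hv0
    obtain ⟨x, rfl⟩ := h.pr_surjective v
    refine ⟨x, x.2, ?_, ?_, ?_⟩
    · intro h5; exact hv0 (h.pr_eq_zero.2 (Or.inl h5))
    · intro h5; exact hv0 (h.pr_eq_zero.2 (Or.inr h5))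
    · intro s hs
      have h5 : h.act _ (h.pr x) = h.pr x := hv ⟨s, hs⟩
      rw [h.act_pr] at h5
      exact h.pr_eq_pr.1 h5
  by_cases hv0 : v = 0
  · refine key w hw ?_
    rintro rfl
    exact hvw (Subtype.ext hv0)
  · exact key v hv hv0

/-- `L` is normal in `C_G(z)` and contains `Q C_A(z)`, `C_G(z) / L` is a 2-group, `S` is a Sylow 2-subgroup of `L`
and `C_{Q/⟨z⟩}(S) ≤ ⟨a⟩`. -/
structure Lev (Q A : Subgroup G) (z a : G) (S L : Subgroup G) : Prop where
  p : Pair Q z A a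
  L_comm : ∀ l ∈ L, l * z = z * l
  L_norm : ∀ g, g * z = z * g → ∀ l ∈ L, g * l * g⁻¹ ∈ L
  L_pow : ∀ g, g * z = z * g → ∃ n : ℕ, g ^ 2 ^ n ∈ L
  Q_le : Q ≤ L
  X_le : ∀ x ∈ A, x * z = z * x → x ∈ L
  S_le : S ≤ L
  S_two : IsPGroup 2 S
  S_max : ∀ T : Subgroup G, T ≤ L → IsPGroup 2 T → S ≤ T → T ≤ S
  fix : ∀ x ∈ Q, (∀ s ∈ S, s * x * s⁻¹ = x ∨ s * x * s⁻¹ = x * z) → x = 1 ∨ x = z ∨ x = a ∨ x = a * z

/-- the Borel subgroup -/
def Bo (S L : Subgroup G) : Subgroup G := Subgroup.normalizer (S : Set G) ⊓ L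

theorem Bo_le {S L : Subgroup G} : Bo S L ≤ L := fun _ h => h.2

theorem mem_normalizer_of [Finite G] {S : Subgroup G} {g : G} (hg : ∀ s ∈ S, g * s * g⁻¹ ∈ S) :
    g ∈ Subgroup.normalizer (S : Set G) := by
  rw [Subgroup.mem_normalizer_iff]
  have h1 : S.map (MulAut.conj g).toMonoidHom = S := by
    apply Subgroup.eq_of_le_of_card_ge
    · rintro _ ⟨s, hs, rfl⟩
      exact hg s hs
    · rw [Subgroup.card_map_of_injective (MulAut.conj g).injective]
  intro y
  constructor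
  · exact hg y
  · intro hy
    rw [← h1] at hy
    obtain ⟨s, hs, e⟩ := hy
    have e' : s = y := by
      have e2 : g * s * g⁻¹ = g * y * g⁻¹ := e
      have e3 := mul_right_cancel e2
      exact mul_left_cancel e3
    rw [← e']; exact hs

theorem mem_Bo [Finite G] {S L : Subgroup G} {g : G} : g ∈ Bo S L ↔ g ∈ L ∧ ∀ s ∈ S, g * s * g⁻¹ ∈ S :=
  ⟨fun h => ⟨h.2, fun s hs => (Subgroup.mem_normalizer_iff.1 h.1 s).1 hs⟩, fun h => ⟨mem_normalizer_of h.2, h.1⟩⟩

theorem normalizes_of {H U : Subgroup G} (h : ∀ s ∈ H, ∀ x ∈ U, s * x * s⁻¹ ∈ U) :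
    H ≤ Subgroup.normalizer (U : Set G) := by
  intro s hs
  rw [Subgroup.mem_normalizer_iff]
  intro y
  constructor
  · exact h s hs y
  · intro hy
    have h2 := h _ (inv_mem hs) _ hy
    have e : s⁻¹ * (s * y * s⁻¹) * s⁻¹⁻¹ = y := by group
    rwa [e] at h2

namespace Lev

variable {Q A S L : Subgroup G} {z a : G} (e : Lev Q A z a S L)

include e

theorem S_comm {s : G} (hs : s ∈ S) : s * z = z * s := e.L_comm s (e.S_le hs)

theorem conj_Q {g : G} (h : g * z = z * g) {x : G} (hx : x ∈ Q) : g * x * g⁻¹ ∈ Q := e.p.lz.conj_mem g h x hx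

theorem conj_A {g : G} (h : g * a = a * g) {x : G} (hx : x ∈ A) : g * x * g⁻¹ ∈ A := e.p.la.conj_mem g h x hx

theorem Q_le_S : Q ≤ S := by
  have h1 := normalizes_of (H := S) (U := Q) fun s hs x hx => e.conj_Q (e.S_comm hs) hx
  have h2 := IsPGroup.to_sup_of_normal_right' e.S_two (isPGroup e.p.lz) h1
  exact le_trans le_sup_right (e.S_max _ (sup_le e.S_le e.Q_le) h2 le_sup_left)

/-- the vector `a` is fixed by `S` -/
theorem S_a [Finite G] {s : G} (hs : s ∈ S) : s * a * s⁻¹ = a ∨ s * a * s⁻¹ = a * z := by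
  obtain ⟨x, hx, hx1, hxz, hxS⟩ := exists_fixed e.p.lz e.p.a_mem e.p.la.z_ne e.p.ne e.S_two fun s hs => e.S_comm hs
  have hsz := e.S_comm hs
  rcases e.fix x hx hxS with h | h | h | h
  · exact absurd h hx1
  · exact absurd h hxz
  · rw [← h]; exact hxS s hs
  · have h1 := hxS s hs
    rw [h] at h1
    have e : s * (a * z) * s⁻¹ = s * a * s⁻¹ * z := by
      calc s * (a * z) * s⁻¹ = s * a * s⁻¹ * ((s * z) * s⁻¹) := by group
        _ = s * a * s⁻¹ * z := by rw [hsz]; group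
    rw [e] at h1
    rcases h1 with h1 | h1
    · left; exact mul_right_cancel h1
    · right; exact mul_right_cancel h1

/-- an element of `Q` which interchanges `a` and `a z` -/
theorem exists_q : ∃ q ∈ Q, q * a * q⁻¹ = a * z := by
  obtain ⟨y, hy, h⟩ := exists_not_comm e.p.lz e.p.a_mem e.p.la.z_ne e.p.ne
  refine ⟨y, hy, ?_⟩
  rw [h, mul_assoc a y z, e.p.lz.comm_z y hy]
  group

/-- every element of `C(z)` which normalises `⟨z, a⟩` normalises `Q X` -/
theorem conj_QX {g : G} (hz : g * z = z * g) (ha : g * a * g⁻¹ = a ∨ g * a * g⁻¹ = a * z) {x : G}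
    (hx : x ∈ (A ⊓ Subgroup.centralizer {z} ⊔ Q : Subgroup G)) :
    g * x * g⁻¹ ∈ (A ⊓ Subgroup.centralizer {z} ⊔ Q : Subgroup G) := by
  set U : Subgroup G := A ⊓ Subgroup.centralizer {z} ⊔ Q with hU
  have key : U ≤ U.comap (MulAut.conj g).toMonoidHom := by
    refine sup_le ?_ ?_
    · intro y hy
      show g * y * g⁻¹ ∈ U
      have hyz : y * z = z * y := Subgroup.mem_centralizer_singleton_iff.1 hy.2
      have step : ∀ k : G, k * z = z * k → k * a * k⁻¹ = a → k * y * k⁻¹ ∈ U := by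
        intro k hkz hka
        have h1 : k * y * k⁻¹ ∈ A := e.conj_A (by rw [← mul_inv_eq_iff_eq_mul]; exact hka) hy.1
        refine (le_sup_left : _ ≤ U) ⟨h1, ?_⟩
        apply Subgroup.mem_centralizer_singleton_iff.2
        have h2 := Cfg.comm_inv_of hkz
        calc k * y * k⁻¹ * z = k * y * (k⁻¹ * z) := by group
          _ = k * (y * z) * k⁻¹ := by rw [h2]; group
          _ = (k * z) * y * k⁻¹ := by rw [hyz]; group
          _ = z * (k * y * k⁻¹) := by rw [hkz]; group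
      rcases ha with ha | ha
      · exact step g hz ha
      · obtain ⟨q, hq, hqa⟩ := e.exists_q
        have hqz := e.p.lz.comm_z q hq
        have h3 := step (q⁻¹ * g) (by rw [mul_assoc, hz, ← mul_assoc, Cfg.comm_inv_of hqz, mul_assoc]) (by
          calc (q⁻¹ * g) * a * (q⁻¹ * g)⁻¹ = q⁻¹ * (g * a * g⁻¹) * q := by group
            _ = q⁻¹ * (q * a * q⁻¹) * q := by rw [ha, hqa]
            _ = a := by group)
        have h5 : q ∈ U := (le_sup_right : _ ≤ U) hq
        have h4 := mul_mem (mul_mem h5 h3) (inv_mem h5)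
        have e' : q * ((q⁻¹ * g) * y * (q⁻¹ * g)⁻¹) * q⁻¹ = g * y * g⁻¹ := by group
        rwa [e'] at h4
    · intro y hy
      exact (le_sup_right : _ ≤ U) (e.conj_Q hz hy)
  exact key hx

theorem QX_le_S [Finite G] : (A ⊓ Subgroup.centralizer {z} ⊔ Q : Subgroup G) ≤ S := by
  set U : Subgroup G := A ⊓ Subgroup.centralizer {z} ⊔ Q with hU
  have h0 : IsPGroup 2 U := by
    refine IsPGroup.to_sup_of_normal_right' ((isPGroup e.p.la).to_le inf_le_left) (isPGroup e.p.lz) ?_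
    exact normalizes_of fun x hx y hy => e.conj_Q (Subgroup.mem_centralizer_singleton_iff.1 hx.2) hy
  have h1 : S ≤ Subgroup.normalizer (U : Set G) :=
    normalizes_of fun s hs x hx => e.conj_QX (e.S_comm hs) (e.S_a hs) hx
  have h2 : IsPGroup 2 (S ⊔ U : Subgroup G) := IsPGroup.to_sup_of_normal_right' e.S_two h0 h1
  have h3 : U ≤ L := sup_le (fun x hx => e.X_le x hx.1 (Subgroup.mem_centralizer_singleton_iff.1 hx.2)) e.Q_le
  exact le_trans le_sup_right (e.S_max _ (sup_le e.S_le h3) h2 le_sup_left)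

/-- every element of `C(z)` which normalises `S` fixes the vector `a` -/
theorem fix_a [Finite G] {b : G} (hbz : b * z = z * b) (hb : ∀ s ∈ S, b * s * b⁻¹ ∈ S) :
    b * a * b⁻¹ = a ∨ b * a * b⁻¹ = a * z := by
  have hbi : ∀ s ∈ S, b⁻¹ * s * b ∈ S := by
    intro s hs
    have h1 := Subgroup.mem_normalizer_iff.1 (inv_mem (mem_normalizer_of hb)) s
    rw [inv_inv] at h1
    exact h1.1 hs
  have h1 := e.p.lz.conj_mem b hbz a e.p.a_mem
  rcases e.fix _ h1 (by
    intro s hs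
    have h3 := e.S_a (hbi s hs)
    have e' : s * (b * a * b⁻¹) * s⁻¹ = b * ((b⁻¹ * s * b) * a * (b⁻¹ * s * b)⁻¹) * b⁻¹ := by group
    rw [e']
    rcases h3 with h3 | h3
    · left; rw [h3]
    · right
      rw [h3]
      calc b * (a * z) * b⁻¹ = b * a * b⁻¹ * ((b * z) * b⁻¹) := by group
        _ = b * a * b⁻¹ * z := by rw [hbz]; group) with h2 | h2 | h2 | h2
  · exfalso
    apply e.p.la.z_ne
    calc a = b⁻¹ * (b * a * b⁻¹) * b := by group
      _ = 1 := by rw [h2]; group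
  · exfalso
    apply e.p.ne
    calc a = b⁻¹ * (b * a * b⁻¹) * b := by group
      _ = b⁻¹ * (z * b) := by rw [h2]; group
      _ = z := by rw [← hbz]; group
  · exact Or.inl h2
  · exact Or.inr h2

/-- **The configuration.** -/
theorem cfg [Finite G] : Cfg Q A z a S (Bo S L) where
  p := e.p
  S_two := e.S_two
  Q_le_S := e.Q_le_S
  X_mem x hx hxz := e.QX_le_S ((le_sup_left : _ ≤ (A ⊓ Subgroup.centralizer {z} ⊔ Q : Subgroup G))
    ⟨hx, Subgroup.mem_centralizer_singleton_iff.2 hxz⟩)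
  S_le := fun s hs => ⟨Subgroup.le_normalizer hs, e.S_le hs⟩
  B_comm b hb := e.L_comm b hb.2
  B_a b hb := e.fix_a (e.L_comm b hb.2) (mem_Bo.1 hb).2
  S_of := by
    intro b hb n hn
    have hT : IsPGroup 2 (Subgroup.zpowers b) := by
      rw [IsPGroup.iff_card]
      obtain ⟨k, -, hk⟩ := (Nat.dvd_prime_pow Nat.prime_two).1 (orderOf_dvd_of_pow_eq_one hn)
      exact ⟨k, by rw [Nat.card_zpowers, hk]⟩
    have h1 : Subgroup.zpowers b ≤ Subgroup.normalizer (S : Set G) := by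
      rw [Subgroup.zpowers_le]; exact hb.1
    have h2 := IsPGroup.to_sup_of_normal_right' hT e.S_two h1
    have h3 : Subgroup.zpowers b ≤ L := by rw [Subgroup.zpowers_le]; exact hb.2
    exact (e.S_max _ (sup_le h3 e.S_le) h2 le_sup_right)
      ((le_sup_left : _ ≤ (Subgroup.zpowers b ⊔ S : Subgroup G)) (Subgroup.mem_zpowers b))

theorem cap [Finite G] : Cap z S (Bo S L) L where
  norm := e.L_norm
  pow := e.L_pow
  max _ hg hs := mem_Bo.2 ⟨hg, hs⟩

/-- a minimal parabolic of index three which moves `a` -/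
theorem mov [Finite G] {P : Subgroup G} (hBP : Bo S L ≤ P) (hPL : P ≤ L) (hidx : (Bo S L).relIndex P = 3)
    (hmv : ∃ g ∈ P, g * a * g⁻¹ ≠ a ∧ g * a * g⁻¹ ≠ a * z)
    (hD : ∀ v ∈ Q, v * a = a * v → (∀ x ∈ A, x * z = z * x →
      x * v * x⁻¹ = v ∨ x * v * x⁻¹ = v * z ∨ x * v * x⁻¹ = v * a ∨ x * v * x⁻¹ = v * (a * z)) → v ∈ A) :
    Mov Q A z a S (Bo S L) P :=
  { e.cfg with
    BP := hBP
    Pz := fun x hx => e.L_comm x (hPL hx)
    idx := hidx
    mv := hmv
    fix := e.fix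
    hD := hD
    cap := ⟨L, hPL, e.cap⟩ }

/-- **Frattini** -/
theorem frattini [Finite G] {g : G} (hg : g * z = z * g) : ∃ l ∈ L, ∀ s ∈ S, (l⁻¹ * g) * s * (l⁻¹ * g)⁻¹ ∈ S := by
  classical
  let S' : Sylow 2 L :=
    { toSubgroup := S.subgroupOf L
      isPGroup' := e.S_two.comap_subtype (K := L)
      is_maximal' := by
        intro T hT hST
        apply le_antisymm _ hST
        have h3 : IsPGroup 2 (T.map L.subtype) := hT.map _
        have h4 : S ≤ T.map L.subtype := fun s hs => ⟨⟨s, e.S_le hs⟩, hST hs, rfl⟩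
        have h5 := e.S_max _ (by rintro _ ⟨t, -, rfl⟩; exact t.2) h3 h4
        intro t ht
        exact h5 ⟨t, ht, rfl⟩ }
  let U : Subgroup G := S.map (MulAut.conj g).toMonoidHom
  have hU : IsPGroup 2 U := e.S_two.map _
  have hUL : U ≤ L := by
    rintro _ ⟨s, hs, rfl⟩
    exact e.L_norm g hg s (e.S_le hs)
  obtain ⟨R, hR⟩ := (hU.comap_subtype (K := L)).exists_le_sylow
  obtain ⟨x, hx⟩ := MulAction.exists_smul_eq L R S'
  refine ⟨(x : G)⁻¹, inv_mem x.2, fun s hs => ?_⟩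
  have h1 : g * s * g⁻¹ ∈ U := ⟨s, hs, rfl⟩
  have h3 : (⟨g * s * g⁻¹, hUL h1⟩ : L) ∈ (R : Subgroup L) := hR h1
  have h4 : MulAut.conj x (⟨g * s * g⁻¹, hUL h1⟩ : L) ∈ ((x • R : Sylow 2 L) : Subgroup L) := by
    rw [Sylow.coe_subgroup_smul]
    exact Subgroup.smul_mem_pointwise_smul _ _ _ h3
  rw [hx] at h4
  have h5 : (x : G) * (g * s * g⁻¹) * (x : G)⁻¹ ∈ S := h4
  have e' : ((x : G)⁻¹⁻¹ * g) * s * ((x : G)⁻¹⁻¹ * g)⁻¹ = (x : G) * (g * s * g⁻¹) * (x : G)⁻¹ := by group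
  rw [e']; exact h5

/-- **(E7)** `C_G(z)` normalises `G0 = ⟨A, L⟩` -/
theorem conj_G0 [Finite G] {g : G} (hg : g * z = z * g) {x : G} (hx : x ∈ A ⊔ L) : g * x * g⁻¹ ∈ A ⊔ L := by
  have hLG : L ≤ A ⊔ L := le_sup_right
  have hAG : A ≤ A ⊔ L := le_sup_left
  obtain ⟨l, hl, hn⟩ := e.frattini hg
  have hlz := e.L_comm l hl
  set n := l⁻¹ * g with hndef
  have hnz : n * z = z * n := by
    rw [hndef, mul_assoc, hg, ← mul_assoc, Cfg.comm_inv_of hlz, mul_assoc]
  have hnA : ∀ y ∈ A, n * y * n⁻¹ ∈ A ⊔ L := by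
    intro y hy
    rcases e.fix_a hnz hn with h | h
    · exact hAG (e.conj_A (by rw [← mul_inv_eq_iff_eq_mul]; exact h) hy)
    · obtain ⟨q, hq, hqa⟩ := e.exists_q
      have h1 : (q⁻¹ * n) * a = a * (q⁻¹ * n) := by
        rw [← mul_inv_eq_iff_eq_mul]
        calc (q⁻¹ * n) * a * (q⁻¹ * n)⁻¹ = q⁻¹ * (n * a * n⁻¹) * q := by group
          _ = q⁻¹ * (q * a * q⁻¹) * q := by rw [h, hqa]
          _ = a := by group
      have h2 := hAG (e.conj_A h1 hy)
      have h3 := hLG (e.Q_le hq)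
      have h4 := mul_mem (mul_mem h3 h2) (inv_mem h3)
      have e' : q * ((q⁻¹ * n) * y * (q⁻¹ * n)⁻¹) * q⁻¹ = n * y * n⁻¹ := by group
      rwa [e'] at h4
  have key : A ⊔ L ≤ (A ⊔ L).comap (MulAut.conj n).toMonoidHom := by
    refine sup_le (fun y hy => hnA y hy) ?_
    intro y hy
    exact hLG (e.L_norm n hnz y hy)
  have h1 : n * x * n⁻¹ ∈ A ⊔ L := key hx
  have h2 := mul_mem (mul_mem (hLG hl) h1) (inv_mem (hLG hl))
  have e' : l * (n * x * n⁻¹) * l⁻¹ = g * x * g⁻¹ := by rw [hndef]; group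
  rwa [e'] at h2

/-- **(E7)** `N_G(⟨z, a⟩)` normalises `G0 = ⟨A, L⟩` -/
theorem conj_G0_V [Finite G] {g : G} (hg : g * z * g⁻¹ = z ∨ g * z * g⁻¹ = a ∨ g * z * g⁻¹ = a * z) {x : G}
    (hx : x ∈ A ⊔ L) : g * x * g⁻¹ ∈ A ⊔ L := by
  obtain ⟨k, hk, hkz⟩ := e.cfg.exists_mem hg
  have hkG : k ∈ A ⊔ L := (sup_le_sup_left Bo_le A) hk
  have h1 : (k⁻¹ * g) * z = z * (k⁻¹ * g) := by
    rw [← mul_inv_eq_iff_eq_mul]
    calc (k⁻¹ * g) * z * (k⁻¹ * g)⁻¹ = k⁻¹ * (g * z * g⁻¹) * k := by group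
      _ = k⁻¹ * (k * z * k⁻¹) * k := by rw [hkz]
      _ = z := by group
  have h2 := e.conj_G0 h1 hx
  have h3 := mul_mem (mul_mem hkG h2) (inv_mem hkG)
  have e' : k * ((k⁻¹ * g) * x * (k⁻¹ * g)⁻¹) * k⁻¹ = g * x * g⁻¹ := by group
  rwa [e'] at h3

omit e in
/-- the case `L = C_G(z)`, `S` a Sylow 2-subgroup of `G` -/
theorem of_sylow [Finite G] {Q A : Subgroup G} {z a : G} (p : Pair Q z A a) (S : Sylow 2 G)
    (hz : ∀ s ∈ (S : Subgroup G), s * z = z * s)
    (hfix : ∀ x ∈ Q, (∀ s ∈ (S : Subgroup G), s * x * s⁻¹ = x ∨ s * x * s⁻¹ = x * z) →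
      x = 1 ∨ x = z ∨ x = a ∨ x = a * z) :
    Lev Q A z a (S : Subgroup G) (Subgroup.centralizer {z}) where
  p := p
  L_comm l hl := Subgroup.mem_centralizer_singleton_iff.1 hl
  L_norm g hg l hl := by
    have hl' := Subgroup.mem_centralizer_singleton_iff.1 hl
    apply Subgroup.mem_centralizer_singleton_iff.2
    have h2 := Cfg.comm_inv_of hg
    calc g * l * g⁻¹ * z = g * l * (g⁻¹ * z) := by group
      _ = g * (l * z) * g⁻¹ := by rw [h2]; group
      _ = (g * z) * l * g⁻¹ := by rw [hl']; group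
      _ = z * (g * l * g⁻¹) := by rw [hg]; group
  L_pow g hg := ⟨0, by rw [pow_zero, pow_one]; exact Subgroup.mem_centralizer_singleton_iff.2 hg⟩
  Q_le q hq := Subgroup.mem_centralizer_singleton_iff.2 (p.lz.comm_z q hq)
  X_le _ _ hxz := Subgroup.mem_centralizer_singleton_iff.2 hxz
  S_le s hs := Subgroup.mem_centralizer_singleton_iff.2 (hz s hs)
  S_two := S.isPGroup'
  S_max _ _ hT hST := (S.is_maximal' hT hST).le
  fix := hfix

end Lev

end Cfsg.Agent.Omega.ThmID

end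

section


/-!
# THEOREM ID, part 6: parabolic systems of a quotient of a subgroup

`M0` a subgroup of `G`, `φ : M0 → X` surjective, `up φ T` the preimage of `T ≤ X` as a subgroup of `G`.  Polygons, indices,
the panel condition and generation pass from `(B', P')` in `X` to `(up φ B', up φ (P' j))` in `G`.

`XSys T B' P' M q`: a system of minimal parabolics `P' j` over the Borel subgroup `B' = N(T)`, `T` a Sylow 2-subgroup of `X`,
with generalised `M i j`-gons as residues and `q j + 1` chambers in the panels.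

**THEOREM END** (`end_sys`): `L` normal in `C_G(z)`, `C_G(z) / L` a 2-group, `L / Q = X` with `XSys`; then the group
`G0 = ⟨A, L⟩` with the parabolics `P0 = ⟨A, B⟩`, `P j` satisfies the hypothesis of THEOREM FREE, and `C_G(z)`,
`N_G(⟨z, a⟩)` normalise `G0` (`Lev.conj_G0`, `Lev.conj_G0_V`).
-/

set_option autoImplicit false

namespace Cfsg.Agent.Omega.ThmID

open Cfsg.Agent.Co2Type.Quad Cfsg.Agent.LargeExtra.Base Cfsg.Agent.ParSys Cfsg.Agent.ParSys.Free
  Cfsg.Agent.ParSys.RankTwo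

variable {G : Type*} [Group G] {X : Type*} [Group X] {M0 : Subgroup G}

/-- the preimage, as a subgroup of `G` -/
def up (φ : M0 →* X) (T : Subgroup X) : Subgroup G := (T.comap φ).map M0.subtype

theorem mem_up {φ : M0 →* X} {T : Subgroup X} {g : G} : g ∈ up φ T ↔ ∃ h : g ∈ M0, φ ⟨g, h⟩ ∈ T := by
  constructor
  · rintro ⟨⟨x, hx⟩, h1, rfl⟩
    exact ⟨hx, h1⟩
  · rintro ⟨h, h1⟩
    exact ⟨⟨g, h⟩, h1, rfl⟩

theorem up_le (φ : M0 →* X) (T : Subgroup X) : up φ T ≤ M0 := fun _ h => (mem_up.1 h).1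

theorem up_mono (φ : M0 →* X) {T T' : Subgroup X} (h : T ≤ T') : up φ T ≤ up φ T' := by
  intro g hg
  obtain ⟨h1, h2⟩ := mem_up.1 hg
  exact mem_up.2 ⟨h1, h h2⟩

theorem coe_mem_up {φ : M0 →* X} {T : Subgroup X} {x : M0} : (x : G) ∈ up φ T ↔ φ x ∈ T :=
  ⟨fun h => (mem_up.1 h).2, fun h => mem_up.2 ⟨x.2, h⟩⟩

theorem up_top (φ : M0 →* X) : up φ ⊤ = M0 := by
  ext g
  rw [mem_up]
  exact ⟨fun h => h.1, fun h => ⟨h, trivial⟩⟩

/-- polygons -/
theorem polygon_up {J : Type*} {φ : M0 →* X} (hs : Function.Surjective φ) {B' : Subgroup X} {P' : J → Subgroup X}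
    (hBP : ∀ j, B' ≤ P' j) {i j : J} {m : ℕ} (h : Polygon B' P' i j m) :
    Polygon (up φ B') (fun j => up φ (P' j)) i j m := by
  have L := link_of_hom (B := up φ B') (P := fun j => up φ (P' j)) (a := i) (b := j) (B' := B') (P' := P')
    M0 φ (MonoidHom.id X) B' P' (fun k _ => up_le φ (P' k)) (fun x => coe_mem_up) (fun k _ x => coe_mem_up)
    (fun e => Iff.rfl) (fun k _ e => Iff.rfl) (fun k _ => hBP k) (fun e => hs e)
    (fun k _ y _ => ⟨y, 1, one_mem _, by simp⟩)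
  exact L.polygon h

theorem relIndex_up {φ : M0 →* X} (hs : Function.Surjective φ) {B' T : Subgroup X} :
    (up φ B').relIndex (up φ T) = B'.relIndex T := by
  have h1 : (up φ B').relIndex (up φ T) = (B'.comap φ).relIndex (T.comap φ) := by
    rw [up, up, Subgroup.relIndex_map_map_of_injective _ _ M0.subtype_injective]
  rw [h1]
  rw [Subgroup.relIndex_comap, Subgroup.map_comap_eq_self_of_surjective hs]

/-- the panel condition -/
theorem pan_up {φ : M0 →* X} {B' T U' : Subgroup X}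
    (h : ∀ g ∈ U', ∀ x ∈ T, x ∉ B' → x⁻¹ * g * x ∈ B' → ∀ y ∈ T, y⁻¹ * g * y ∈ B') {U : Subgroup G}
    (hU : U ≤ up φ U') :
    ∀ g ∈ U, ∀ x ∈ up φ T, x ∉ up φ B' → x⁻¹ * g * x ∈ up φ B' → ∀ y ∈ up φ T, y⁻¹ * g * y ∈ up φ B' := by
  intro g hg x hx hxB hgx y hy
  obtain ⟨hg1, hg2⟩ := mem_up.1 (hU hg)
  obtain ⟨hx1, hx2⟩ := mem_up.1 hx
  obtain ⟨hy1, hy2⟩ := mem_up.1 hy
  obtain ⟨h3, h4⟩ := mem_up.1 hgx
  have e1 : φ ⟨x⁻¹ * g * x, h3⟩ = (φ ⟨x, hx1⟩)⁻¹ * φ ⟨g, hg1⟩ * φ ⟨x, hx1⟩ := by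
    rw [← map_inv, ← map_mul, ← map_mul]; rfl
  rw [e1] at h4
  have h5 := h _ hg2 _ hx2 (fun h' => hxB (mem_up.2 ⟨hx1, h'⟩)) h4 _ hy2
  have e2 : φ ⟨y⁻¹ * g * y, mul_mem (mul_mem (inv_mem hy1) hg1) hy1⟩ =
      (φ ⟨y, hy1⟩)⁻¹ * φ ⟨g, hg1⟩ * φ ⟨y, hy1⟩ := by
    rw [← map_inv, ← map_mul, ← map_mul]; rfl
  exact mem_up.2 ⟨_, by rw [e2]; exact h5⟩

/-- generation -/
theorem iSup_up {J : Type*} {φ : M0 →* X} {B' : Subgroup X} {P' : J → Subgroup X} (hs : Function.Surjective φ)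
    (hgen : B' ⊔ ⨆ j, P' j = ⊤) (hker : φ.ker ≤ B'.comap φ) : up φ B' ⊔ ⨆ j, up φ (P' j) = M0 := by
  apply le_antisymm
  · exact sup_le (up_le _ _) (iSup_le fun j => up_le _ _)
  · have h1 : (⊤ : Subgroup M0) = B'.comap φ ⊔ ⨆ j, (P' j).comap φ := by
      apply le_antisymm _ le_top
      intro x _
      have h2 : φ x ∈ (B'.comap φ ⊔ ⨆ j, (P' j).comap φ).map φ := by
        rw [Subgroup.map_sup, Subgroup.map_iSup]
        simp only [Subgroup.map_comap_eq_self_of_surjective hs]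
        rw [hgen]; trivial
      obtain ⟨y, hy, e⟩ := h2
      have h3 : y⁻¹ * x ∈ B'.comap φ := by
        apply hker
        rw [MonoidHom.mem_ker, map_mul, map_inv, e, inv_mul_cancel]
      have h4 := mul_mem hy ((le_sup_left : _ ≤ B'.comap φ ⊔ ⨆ j, (P' j).comap φ) h3)
      rwa [mul_inv_cancel_left] at h4
    have h2 := congrArg (Subgroup.map M0.subtype) h1
    rw [Subgroup.map_sup, Subgroup.map_iSup, ← MonoidHom.range_eq_map, Subgroup.range_subtype] at h2
    exact h2.le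

/-- the polygons of a (B,N)-pair -/
theorem polygon_bn {J : Type*} (R : Cfsg.BNPair X) (e : J → X) (he : ∀ j, e j ∈ R.S) {i j : J} {m : ℕ}
    (hm : LieRecognition.FeitHigmanGroup.Red R (e i) (e j) m)
    (hbr : (LieRecognition.FeitHigmanGroup.alt m (e i) (e j))⁻¹ *
      LieRecognition.FeitHigmanGroup.alt m (e j) (e i) ∈ R.B) :
    Polygon R.B (fun j => R.parabolic {e j}) i j m :=
  polygon_of_red (P := fun j => R.parabolic {e j}) (a := i) (b := j) (he i) (he j) rfl rfl hm hbr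

/-- A system of minimal parabolics of `X` over the normaliser `B'` of a Sylow 2-subgroup `T`. -/
structure XSys {J : Type*} (T B' : Subgroup X) (P' : J → Subgroup X) (M : J → J → ℕ) (q : J → ℕ) : Prop where
  two : IsPGroup 2 T
  max : ∀ U : Subgroup X, IsPGroup 2 U → T ≤ U → U ≤ T
  mem_B : ∀ x, x ∈ B' ↔ ∀ t ∈ T, x * t * x⁻¹ ∈ T
  BP : ∀ j, B' ≤ P' j
  gen : B' ⊔ ⨆ j, P' j = ⊤
  pol : ∀ i j, i ≠ j → Polygon B' P' i j (M i j)
  card : ∀ j, B'.relIndex (P' j) = q j + 1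
  pan : ∀ j, ∀ g ∈ T, ∀ x ∈ P' j, x ∉ B' → x⁻¹ * g * x ∈ B' → ∀ y ∈ P' j, y⁻¹ * g * y ∈ B'

theorem up_two {φ : M0 →* X} {T : Subgroup X} (hT : IsPGroup 2 T) {Q : Subgroup G} (hQ : IsPGroup 2 Q)
    (hker : ∀ x : M0, φ x = 1 → (x : G) ∈ Q) : IsPGroup 2 (up φ T) := by
  rintro ⟨g, hg⟩
  obtain ⟨h, h1⟩ := mem_up.1 hg
  obtain ⟨n, hn⟩ := hT ⟨φ ⟨g, h⟩, h1⟩
  have hn' : φ ⟨g, h⟩ ^ 2 ^ n = 1 := congrArg Subtype.val hn
  rw [← map_pow] at hn'
  obtain ⟨m, hm⟩ := hQ ⟨_, hker _ hn'⟩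
  have hm' : (g ^ 2 ^ n) ^ 2 ^ m = 1 := congrArg Subtype.val hm
  refine ⟨n + m, Subtype.ext ?_⟩
  show g ^ 2 ^ (n + m) = 1
  rw [pow_add, pow_mul]; exact hm'

/-- the preimage of a Sylow 2-subgroup -/
theorem up_max {φ : M0 →* X} (hs : Function.Surjective φ) {T : Subgroup X}
    (hT : ∀ U : Subgroup X, IsPGroup 2 U → T ≤ U → U ≤ T) (U : Subgroup G) (hU : U ≤ M0) (hU2 : IsPGroup 2 U)
    (hTU : up φ T ≤ U) : U ≤ up φ T := by
  have h1 : IsPGroup 2 ((U.subgroupOf M0).map φ) := (hU2.comap_subtype (K := M0)).map φ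
  have h2 : T ≤ (U.subgroupOf M0).map φ := by
    intro t ht
    obtain ⟨x, rfl⟩ := hs t
    exact ⟨x, hTU (coe_mem_up.2 ht), rfl⟩
  intro u hu
  exact mem_up.2 ⟨hU hu, hT _ h1 h2 ⟨⟨u, hU hu⟩, hu, rfl⟩⟩

/-- the preimage of the normaliser of `T` -/
theorem Bo_up [Finite G] {φ : M0 →* X} (hs : Function.Surjective φ) {T B' : Subgroup X}
    (hB : ∀ x, x ∈ B' ↔ ∀ t ∈ T, x * t * x⁻¹ ∈ T) : Bo (up φ T) M0 = up φ B' := by
  ext g
  rw [mem_Bo, mem_up]
  have key : ∀ (hg : g ∈ M0) (x : M0), φ (⟨g, hg⟩ * x * (⟨g, hg⟩ : M0)⁻¹) = φ ⟨g, hg⟩ * φ x * (φ ⟨g, hg⟩)⁻¹ := by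
    intro hg x; rw [map_mul, map_mul, map_inv]
  constructor
  · rintro ⟨hg, h⟩
    refine ⟨hg, (hB _).2 fun t ht => ?_⟩
    obtain ⟨x, rfl⟩ := hs t
    have h1 := h x (coe_mem_up.2 ht)
    have h2 := (coe_mem_up (φ := φ) (T := T) (x := ⟨g, hg⟩ * x * (⟨g, hg⟩ : M0)⁻¹)).1 h1
    rwa [key] at h2
  · rintro ⟨hg, h⟩
    refine ⟨hg, fun s hs' => ?_⟩
    obtain ⟨hsM, hsT⟩ := mem_up.1 hs'
    have h1 := (hB _).1 h _ hsT
    rw [← key] at h1
    exact coe_mem_up.2 h1

open Cfg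

section final

variable {Q A : Subgroup G} {z a : G} {J : Type*} {T B' : Subgroup X} {P' : J → Subgroup X} {M : J → J → ℕ}
  {q : J → ℕ} {φ : M0 →* X}

/-- the level structure -/
theorem lev_of (p : Pair Q z A a) (hLz : ∀ l ∈ M0, l * z = z * l)
    (hLn : ∀ g, g * z = z * g → ∀ l ∈ M0, g * l * g⁻¹ ∈ M0) (hLp : ∀ g, g * z = z * g → ∃ n : ℕ, g ^ 2 ^ n ∈ M0)
    (hQ : Q ≤ M0) (hX : ∀ x ∈ A, x * z = z * x → x ∈ M0) (hs : Function.Surjective φ)
    (hker : ∀ x : M0, φ x = 1 ↔ (x : G) ∈ Q) (h : XSys T B' P' M q)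
    (hfix : ∀ x ∈ Q, (∀ s ∈ up φ T, s * x * s⁻¹ = x ∨ s * x * s⁻¹ = x * z) → x = 1 ∨ x = z ∨ x = a ∨ x = a * z) :
    Lev Q A z a (up φ T) M0 where
  p := p
  L_comm := hLz
  L_norm := hLn
  L_pow := hLp
  Q_le := hQ
  X_le := hX
  S_le := up_le _ _
  S_two := up_two h.two (isPGroup p.lz) fun x hx => (hker x).1 hx
  S_max := up_max hs h.max
  fix := hfix

/-- the group generated by the parabolics is `G0 = ⟨A, L⟩` -/
theorem gen_eq [Finite G] (hs : Function.Surjective φ) (h : XSys T B' P' M q) :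
    P0 A (Bo (up φ T) M0) ⊔ ⨆ j, up φ (P' j) = A ⊔ M0 := by
  have h1 : up φ B' ⊔ ⨆ j, up φ (P' j) = M0 := iSup_up hs h.gen (by
    intro x hx
    rw [MonoidHom.mem_ker] at hx
    show φ x ∈ B'
    rw [hx]; exact one_mem _)
  rw [Bo_up hs h.mem_B]
  show (A ⊔ up φ B') ⊔ _ = _
  rw [sup_assoc, h1]

/-- **THEOREM END** -/
theorem end_sys [Finite G] (p : Pair Q z A a) (hLz : ∀ l ∈ M0, l * z = z * l)
    (hLn : ∀ g, g * z = z * g → ∀ l ∈ M0, g * l * g⁻¹ ∈ M0) (hLp : ∀ g, g * z = z * g → ∃ n : ℕ, g ^ 2 ^ n ∈ M0)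
    (hQ : Q ≤ M0) (hX : ∀ x ∈ A, x * z = z * x → x ∈ M0) (hs : Function.Surjective φ)
    (hker : ∀ x : M0, φ x = 1 ↔ (x : G) ∈ Q) (h : XSys T B' P' M q)
    (hfix : ∀ x ∈ Q, (∀ s ∈ up φ T, s * x * s⁻¹ = x ∨ s * x * s⁻¹ = x * z) → x = 1 ∨ x = z ∨ x = a ∨ x = a * z)
    (hD : ∀ v ∈ Q, v * a = a * v → (∀ x ∈ A, x * z = z * x →
      x * v * x⁻¹ = v ∨ x * v * x⁻¹ = v * z ∨ x * v * x⁻¹ = v * a ∨ x * v * x⁻¹ = v * (a * z)) → v ∈ A)
    {M' : CoxeterMatrix (Option J)} {W : Type*} [Group W] (cs : CoxeterSystem M' W)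
    (hsome : ∀ i j, M' (some i) (some j) = M i j)
    (hnone : ∀ j, (M' none (some j) = 2 ∧ ∀ x ∈ up φ (P' j), x * a * x⁻¹ = a ∨ x * a * x⁻¹ = a * z) ∨
      (M' none (some j) = 3 ∧ q j = 2 ∧ ∃ g ∈ up φ (P' j), g * a * g⁻¹ ≠ a ∧ g * a * g⁻¹ ≠ a * z))
    (htwo : ∀ j, 2 ≤ q j) (hnc : ∃ g ∈ M0, (g * a * g⁻¹) * a ≠ a * (g * a * g⁻¹)) :
    Sys cs ((up φ B').subgroupOf (A ⊔ M0))
      (fun o => (PP (P0 A (up φ B')) (fun j => up φ (P' j)) o).subgroupOf (A ⊔ M0))
      ((up φ T).subgroupOf (A ⊔ M0)) (qq q) := by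
  have e := lev_of p hLz hLn hLp hQ hX hs hker h hfix
  have hBo : Bo (up φ T) M0 = up φ B' := Bo_up hs h.mem_B
  have hBP : ∀ j, Bo (up φ T) M0 ≤ up φ (P' j) := fun j => by rw [hBo]; exact up_mono φ (h.BP j)
  have hTB : T ≤ B' := fun t ht => (h.mem_B t).2 fun s hs => mul_mem (mul_mem ht hs) (inv_mem ht)
  have hmain := sys_sub e.cfg cs (P := fun j => up φ (P' j)) (M := M) (q := q) hBP
    (fun j x hx => hLz x (up_le _ _ hx))
    (by
      rw [hBo, gp_iff]
      intro i j hij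
      exact gpp_of_polygon (fun j => up_mono φ (h.BP j)) (polygon_up hs h.BP (h.pol i j hij)))
    hsome
    (by
      intro j
      rcases hnone j with h1 | ⟨h1, h2, h3⟩
      · exact Or.inl h1
      · refine Or.inr ⟨h1, e.mov (hBP j) (up_le _ _) ?_ h3 hD⟩
        rw [hBo, relIndex_up hs, h.card, h2])
    (by intro j; rw [hBo, relIndex_up hs]; exact h.card j) htwo
    (by
      intro j
      rw [hBo]
      exact pan_up (U' := T) (h.pan j) le_rfl)
    (gen_eq hs h)
    (by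
      obtain ⟨g, hg, h1⟩ := hnc
      exact ⟨g, (le_sup_right : M0 ≤ A ⊔ M0) hg, h1⟩)
  rw [hBo] at hmain
  exact hmain

end final

end Cfsg.Agent.Omega.ThmID

end

section


/-!
# RowS, BACK (helper73), part 1: the system `XSys` of a direct product

`XProd.prod` : `XSys` of `X₁ × X₂` from `XSys` of `X₁` and `X₂`, where `B` is transitive on the chambers of a panel
outside of `B` (`XTr`; `xtr_of_rgd`); `XProd.comap` : transport along an isomorphism.
-/

set_option autoImplicit false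

namespace Cfsg.Agent.Omega.EH3.RowS.XProd

open Subgroup Cfsg.Agent.ParSys Cfsg.Agent.Omega.ThmID

section galleries

variable {G : Type*} [Group G] {I J : Type*}

theorem alt_map (f : J → I) (a b : J) (m : ℕ) : alt (f a) (f b) m = (alt a b m).map f := by
  induction m generalizing a b with
  | zero => rfl
  | succ m ih => rw [alt_cons, alt_cons, List.map_cons, ih]

theorem galE_map {B : Subgroup G} {P : I → Subgroup G} (f : J → I) {w : List J} {l : List G} :
    GalE B P (w.map f) l ↔ GalE B (fun j => P (f j)) w l := by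
  induction w generalizing l with
  | nil => cases l <;> rfl
  | cons j w ih =>
    cases l with
    | nil => rfl
    | cons x l => exact and_congr_right fun _ => ih

theorem polygon_map {B : Subgroup G} {P : I → Subgroup G} (f : J → I) {a b : J} {m : ℕ}
    (h : Polygon B (fun j => P (f j)) a b m) : Polygon B P (f a) (f b) m where
  uniq l l' := by rw [alt_map, galE_map, galE_map]; exact h.uniq l l'
  uniq' l l' := by rw [alt_map, galE_map, galE_map]; exact h.uniq' l l'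
  swap := by
    obtain ⟨l, l', h1, h2, h3⟩ := h.swap
    exact ⟨l, l', by rw [alt_map, galE_map]; exact h1, by rw [alt_map, galE_map]; exact h2, h3⟩
  trans l l' := by rw [alt_map, galE_map, galE_map]; exact h.trans l l'
  trans' l l' := by rw [alt_map, galE_map, galE_map]; exact h.trans' l l'

end galleries

/-! ### Panels -/

/-- `B` is transitive on the chambers `≠ B` of a panel, of which there are some. -/
structure XTr {X : Type*} [Group X] {J : Type*} (B : Subgroup X) (P : J → Subgroup X) : Prop where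
  ex : ∀ j, ∃ x ∈ P j, x ∉ B
  tr : ∀ j, ∀ x ∈ P j, x ∉ B → ∀ y ∈ P j, y ∉ B → ∃ b ∈ B, (b * x)⁻¹ * y ∈ B

section prod

variable {X₁ X₂ : Type*} [Group X₁] [Group X₂] {J₁ J₂ : Type*} {T₁ B₁ : Subgroup X₁} {P₁ : J₁ → Subgroup X₁}
  {M₁ : J₁ → J₁ → ℕ} {q₁ : J₁ → ℕ} {T₂ B₂ : Subgroup X₂} {P₂ : J₂ → Subgroup X₂} {M₂ : J₂ → J₂ → ℕ} {q₂ : J₂ → ℕ}

/-- the parabolics of the product -/
def PP (B₁ : Subgroup X₁) (P₁ : J₁ → Subgroup X₁) (B₂ : Subgroup X₂) (P₂ : J₂ → Subgroup X₂) :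
    J₁ ⊕ J₂ → Subgroup (X₁ × X₂) :=
  Sum.elim (fun j => (P₁ j).prod B₂) (fun j => B₁.prod (P₂ j))

/-- the diagram of the product -/
def MM (M₁ : J₁ → J₁ → ℕ) (M₂ : J₂ → J₂ → ℕ) : J₁ ⊕ J₂ → J₁ ⊕ J₂ → ℕ
  | .inl i, .inl j => M₁ i j
  | .inr i, .inr j => M₂ i j
  | _, _ => 2

theorem up_fst {M0 : Subgroup (X₁ × X₂)} {S : Subgroup X₁} {R : Subgroup X₂} (hM : ∀ x, x ∈ M0 ↔ x.2 ∈ R) :
    up ((MonoidHom.fst X₁ X₂).comp M0.subtype) S = S.prod R := by
  ext x
  rw [mem_up, mem_prod]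
  constructor
  · rintro ⟨h, h1⟩
    exact ⟨h1, (hM x).1 h⟩
  · rintro ⟨h1, h2⟩
    exact ⟨(hM x).2 h2, h1⟩

theorem up_snd {M0 : Subgroup (X₁ × X₂)} {S : Subgroup X₂} {R : Subgroup X₁} (hM : ∀ x, x ∈ M0 ↔ x.1 ∈ R) :
    up ((MonoidHom.snd X₁ X₂).comp M0.subtype) S = R.prod S := by
  ext x
  rw [mem_up, mem_prod]
  constructor
  · rintro ⟨h, h1⟩
    exact ⟨(hM x).1 h, h1⟩
  · rintro ⟨h1, h2⟩
    exact ⟨(hM x).2 h1, h2⟩

/-- the residue of two nodes of different factors -/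
theorem polygon_cross (hB₁ : ∀ j, B₁ ≤ P₁ j) (hB₂ : ∀ j, B₂ ≤ P₂ j) (h₁ : XTr B₁ P₁) (h₂ : XTr B₂ P₂)
    (i : J₁) (j : J₂) : Polygon (B₁.prod B₂) (PP B₁ P₁ B₂ P₂) (.inl i) (.inr j) 2 := by
  -- elements of the galleries
  have gal : ∀ l, GalE (B₁.prod B₂) (PP B₁ P₁ B₂ P₂) (alt (.inl i) (.inr j) 2) l →
      ∃ x y, l = [x, y] ∧ x.1 ∈ P₁ i ∧ x.1 ∉ B₁ ∧ x.2 ∈ B₂ ∧ y.1 ∈ B₁ ∧ y.2 ∈ P₂ j ∧ y.2 ∉ B₂ := by
    intro l hl
    match l, hl with
    | [x, y], hl =>
      obtain ⟨⟨h1, h2⟩, ⟨h3, h4⟩, -⟩ := hl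
      have h1 : x.1 ∈ P₁ i ∧ x.2 ∈ B₂ := h1
      have h3 : y.1 ∈ B₁ ∧ y.2 ∈ P₂ j := h3
      exact ⟨x, y, rfl, h1.1, fun h => h2 ⟨h, h1.2⟩, h1.2, h3.1, h3.2, fun h => h4 ⟨h3.1, h⟩⟩
  have gal' : ∀ l, GalE (B₁.prod B₂) (PP B₁ P₁ B₂ P₂) (alt (.inr j) (.inl i) 2) l →
      ∃ y x, l = [y, x] ∧ x.1 ∈ P₁ i ∧ x.1 ∉ B₁ ∧ x.2 ∈ B₂ ∧ y.1 ∈ B₁ ∧ y.2 ∈ P₂ j ∧ y.2 ∉ B₂ := by
    intro l hl
    match l, hl with
    | [y, x], hl =>
      obtain ⟨⟨h3, h4⟩, ⟨h1, h2⟩, -⟩ := hl
      have h1 : x.1 ∈ P₁ i ∧ x.2 ∈ B₂ := h1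
      have h3 : y.1 ∈ B₁ ∧ y.2 ∈ P₂ j := h3
      exact ⟨y, x, rfl, h1.1, fun h => h2 ⟨h, h1.2⟩, h1.2, h3.1, h3.2, fun h => h4 ⟨h3.1, h⟩⟩
  obtain ⟨x₁, hx₁, hx₁'⟩ := h₁.ex i
  obtain ⟨y₂, hy₂, hy₂'⟩ := h₂.ex j
  have one₁ : (1 : X₁) ∈ B₁ := one_mem _
  have one₂ : (1 : X₂) ∈ B₂ := one_mem _
  refine ⟨?_, ?_, ?_, ?_, ?_⟩
  · intro l l' hl hl' he
    obtain ⟨x, y, rfl, a1, a2, a3, a4, a5, a6⟩ := gal l hl
    obtain ⟨x', y', rfl, b1, b2, b3, b4, b5, b6⟩ := gal l' hl'
    rw [List.prod_cons, List.prod_singleton, List.prod_cons, List.prod_singleton] at he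
    refine ⟨by simp [one_mem], ?_, ?_⟩
    · refine ⟨?_, ?_⟩
      · have h1 : (x.1 * y.1)⁻¹ * (x'.1 * y'.1) ∈ B₁ := he.1
        have h2 := mul_mem (mul_mem a4 h1) (inv_mem b4)
        have e : y.1 * ((x.1 * y.1)⁻¹ * (x'.1 * y'.1)) * y'.1⁻¹ = (1 * x.1)⁻¹ * (1 * x'.1) := by group
        rwa [e] at h2
      · show (1 * x.2)⁻¹ * (1 * x'.2) ∈ B₂
        rw [one_mul, one_mul]
        exact mul_mem (inv_mem a3) b3
    · show (1 * x * y)⁻¹ * (1 * x' * y') ∈ B₁.prod B₂
      rw [one_mul, one_mul]; exact he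
  · intro l l' hl hl' he
    obtain ⟨y, x, rfl, a1, a2, a3, a4, a5, a6⟩ := gal' l hl
    obtain ⟨y', x', rfl, b1, b2, b3, b4, b5, b6⟩ := gal' l' hl'
    rw [List.prod_cons, List.prod_singleton, List.prod_cons, List.prod_singleton] at he
    refine ⟨by simp [one_mem], ?_, ?_⟩
    · refine ⟨?_, ?_⟩
      · show (1 * y.1)⁻¹ * (1 * y'.1) ∈ B₁
        rw [one_mul, one_mul]
        exact mul_mem (inv_mem a4) b4
      · have h1 : (y.2 * x.2)⁻¹ * (y'.2 * x'.2) ∈ B₂ := he.2
        have h2 := mul_mem (mul_mem a3 h1) (inv_mem b3)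
        have e : x.2 * ((y.2 * x.2)⁻¹ * (y'.2 * x'.2)) * x'.2⁻¹ = (1 * y.2)⁻¹ * (1 * y'.2) := by group
        rwa [e] at h2
    · show (1 * y * x)⁻¹ * (1 * y' * x') ∈ B₁.prod B₂
      rw [one_mul, one_mul]; exact he
  · refine ⟨[(x₁, 1), (1, y₂)], [(1, y₂), (x₁, 1)], ⟨⟨⟨hx₁, one₂⟩, fun h => hx₁' h.1⟩,
      ⟨⟨one₁, hy₂⟩, fun h => hy₂' h.2⟩, trivial⟩, ⟨⟨⟨one₁, hy₂⟩, fun h => hy₂' h.2⟩,
      ⟨⟨hx₁, one₂⟩, fun h => hx₁' h.1⟩, trivial⟩, ?_⟩
    have e : ([(x₁, 1), (1, y₂)] : List (X₁ × X₂)).prod⁻¹ * ([(1, y₂), (x₁, 1)] : List (X₁ × X₂)).prod = 1 := by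
      simp
    rw [e]; exact one_mem _
  · intro l l' hl hl'
    obtain ⟨x, y, rfl, a1, a2, a3, a4, a5, a6⟩ := gal l hl
    obtain ⟨x', y', rfl, b1, b2, b3, b4, b5, b6⟩ := gal l' hl'
    obtain ⟨c, hc, hc'⟩ := h₁.tr i x.1 a1 a2 x'.1 b1 b2
    obtain ⟨d, hd, hd'⟩ := h₂.tr j (x.2 * y.2) (mul_mem (hB₂ j a3) a5)
      (fun h => a6 (by have := mul_mem (inv_mem a3) h; rwa [inv_mul_cancel_left] at this)) (x'.2 * y'.2)
      (mul_mem (hB₂ j b3) b5) (fun h => b6 (by have := mul_mem (inv_mem b3) h; rwa [inv_mul_cancel_left] at this))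
    refine ⟨(c, d), ⟨hc, hd⟩, ?_, ?_, ?_⟩
    · exact ⟨by show c⁻¹ * 1 ∈ B₁; rw [mul_one]; exact inv_mem hc, by
        show d⁻¹ * 1 ∈ B₂; rw [mul_one]; exact inv_mem hd⟩
    · refine ⟨?_, ?_⟩
      · show (c * x.1)⁻¹ * (1 * x'.1) ∈ B₁
        rw [one_mul]; exact hc'
      · show (d * x.2)⁻¹ * (1 * x'.2) ∈ B₂
        rw [one_mul]
        exact mul_mem (inv_mem (mul_mem hd a3)) b3
    · refine ⟨?_, ?_⟩
      · show (c * x.1 * y.1)⁻¹ * (1 * x'.1 * y'.1) ∈ B₁
        have e : (c * x.1 * y.1)⁻¹ * (1 * x'.1 * y'.1) = y.1⁻¹ * ((c * x.1)⁻¹ * x'.1) * y'.1 := by group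
        rw [e]
        exact mul_mem (mul_mem (inv_mem a4) hc') b4
      · show (d * x.2 * y.2)⁻¹ * (1 * x'.2 * y'.2) ∈ B₂
        have e : (d * x.2 * y.2)⁻¹ * (1 * x'.2 * y'.2) = (d * (x.2 * y.2))⁻¹ * (x'.2 * y'.2) := by group
        rw [e]; exact hd'
  · intro l l' hl hl'
    obtain ⟨y, x, rfl, a1, a2, a3, a4, a5, a6⟩ := gal' l hl
    obtain ⟨y', x', rfl, b1, b2, b3, b4, b5, b6⟩ := gal' l' hl'
    obtain ⟨d, hd, hd'⟩ := h₂.tr j y.2 a5 a6 y'.2 b5 b6
    obtain ⟨c, hc, hc'⟩ := h₁.tr i (y.1 * x.1) (mul_mem (hB₁ i a4) a1)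
      (fun h => a2 (by have := mul_mem (inv_mem a4) h; rwa [inv_mul_cancel_left] at this)) (y'.1 * x'.1)
      (mul_mem (hB₁ i b4) b1) (fun h => b2 (by have := mul_mem (inv_mem b4) h; rwa [inv_mul_cancel_left] at this))
    refine ⟨(c, d), ⟨hc, hd⟩, ?_, ?_, ?_⟩
    · exact ⟨by show c⁻¹ * 1 ∈ B₁; rw [mul_one]; exact inv_mem hc, by
        show d⁻¹ * 1 ∈ B₂; rw [mul_one]; exact inv_mem hd⟩
    · refine ⟨?_, ?_⟩
      · show (c * y.1)⁻¹ * (1 * y'.1) ∈ B₁
        rw [one_mul]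
        exact mul_mem (inv_mem (mul_mem hc a4)) b4
      · show (d * y.2)⁻¹ * (1 * y'.2) ∈ B₂
        rw [one_mul]; exact hd'
    · refine ⟨?_, ?_⟩
      · show (c * y.1 * x.1)⁻¹ * (1 * y'.1 * x'.1) ∈ B₁
        have e : (c * y.1 * x.1)⁻¹ * (1 * y'.1 * x'.1) = (c * (y.1 * x.1))⁻¹ * (y'.1 * x'.1) := by group
        rw [e]; exact hc'
      · show (d * y.2 * x.2)⁻¹ * (1 * y'.2 * x'.2) ∈ B₂
        have e : (d * y.2 * x.2)⁻¹ * (1 * y'.2 * x'.2) = x.2⁻¹ * ((d * y.2)⁻¹ * y'.2) * x'.2 := by group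
        rw [e]
        exact mul_mem (mul_mem (inv_mem a3) hd') b3

/-- **The system of a direct product.** -/
theorem prod (h₁ : XSys T₁ B₁ P₁ M₁ q₁) (h₂ : XSys T₂ B₂ P₂ M₂ q₂) (t₁ : XTr B₁ P₁) (t₂ : XTr B₂ P₂) :
    XSys (T₁.prod T₂) (B₁.prod B₂) (PP B₁ P₁ B₂ P₂) (MM M₁ M₂) (Sum.elim q₁ q₂) := by
  have hT₁ : T₁ ≤ B₁ := fun t ht => (h₁.mem_B t).2 fun s hs => mul_mem (mul_mem ht hs) (inv_mem ht)
  have hT₂ : T₂ ≤ B₂ := fun t ht => (h₂.mem_B t).2 fun s hs => mul_mem (mul_mem ht hs) (inv_mem ht)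
  -- the two charts
  set N₁ : Subgroup (X₁ × X₂) := (⊤ : Subgroup X₁).prod B₂ with hN₁
  set N₂ : Subgroup (X₁ × X₂) := B₁.prod (⊤ : Subgroup X₂) with hN₂
  have m₁ : ∀ x, x ∈ N₁ ↔ x.2 ∈ B₂ := fun x => by rw [hN₁, mem_prod]; exact and_iff_right trivial
  have m₂ : ∀ x, x ∈ N₂ ↔ x.1 ∈ B₁ := fun x => by rw [hN₂, mem_prod]; exact and_iff_left trivial
  have s₁ : Function.Surjective ((MonoidHom.fst X₁ X₂).comp N₁.subtype) := fun x =>
    ⟨⟨(x, 1), (m₁ _).2 (one_mem _)⟩, rfl⟩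
  have s₂ : Function.Surjective ((MonoidHom.snd X₁ X₂).comp N₂.subtype) := fun x =>
    ⟨⟨(1, x), (m₂ _).2 (one_mem _)⟩, rfl⟩
  refine ⟨?_, ?_, ?_, ?_, ?_, ?_, ?_, ?_⟩
  · rintro ⟨⟨x, y⟩, hx, hy⟩
    obtain ⟨n, hn⟩ := h₁.two ⟨x, hx⟩
    obtain ⟨m, hm⟩ := h₂.two ⟨y, hy⟩
    have hn : x ^ 2 ^ n = 1 := congrArg Subtype.val hn
    have hm : y ^ 2 ^ m = 1 := congrArg Subtype.val hm
    refine ⟨n + m, Subtype.ext (Prod.ext ?_ ?_)⟩
    · show x ^ 2 ^ (n + m) = 1
      rw [pow_add, pow_mul, hn, one_pow]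
    · show y ^ 2 ^ (n + m) = 1
      rw [add_comm, pow_add, pow_mul, hm, one_pow]
  · intro U hU hle
    have h3 := h₁.max (U.map (MonoidHom.fst X₁ X₂)) (hU.map _) (fun t ht =>
      ⟨(t, 1), hle ⟨ht, one_mem _⟩, rfl⟩)
    have h4 := h₂.max (U.map (MonoidHom.snd X₁ X₂)) (hU.map _) (fun t ht =>
      ⟨(1, t), hle ⟨one_mem _, ht⟩, rfl⟩)
    intro x hx
    exact ⟨h3 ⟨x, hx, rfl⟩, h4 ⟨x, hx, rfl⟩⟩
  · intro x
    constructor
    · rintro ⟨hx, hy⟩ t ⟨ht, hs⟩
      exact ⟨(h₁.mem_B _).1 hx _ ht, (h₂.mem_B _).1 hy _ hs⟩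
    · intro hx
      refine ⟨(h₁.mem_B _).2 fun t ht => ?_, (h₂.mem_B _).2 fun t ht => ?_⟩
      · exact (hx (t, 1) ⟨ht, one_mem _⟩).1
      · exact (hx (1, t) ⟨one_mem _, ht⟩).2
  · rintro (j | j)
    · exact prod_mono (h₁.BP j) le_rfl
    · exact prod_mono le_rfl (h₂.BP j)
  · set K : Subgroup (X₁ × X₂) := B₁.prod B₂ ⊔ ⨆ j, PP B₁ P₁ B₂ P₂ j with hK
    have k₁ : ∀ x, (x, (1 : X₂)) ∈ K := by
      have h3 : B₁ ⊔ ⨆ j, P₁ j ≤ K.comap (MonoidHom.inl X₁ X₂) := by
        refine sup_le (fun b hb => ?_) (iSup_le fun j b hb => ?_)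
        · exact (le_sup_left : _ ≤ K) ⟨hb, one_mem _⟩
        · exact (le_sup_right : _ ≤ K) ((le_iSup (PP B₁ P₁ B₂ P₂) (Sum.inl j)) ⟨hb, one_mem _⟩)
      rw [h₁.gen] at h3
      exact fun x => h3 trivial
    have k₂ : ∀ x, ((1 : X₁), x) ∈ K := by
      have h3 : B₂ ⊔ ⨆ j, P₂ j ≤ K.comap (MonoidHom.inr X₁ X₂) := by
        refine sup_le (fun b hb => ?_) (iSup_le fun j b hb => ?_)
        · exact (le_sup_left : _ ≤ K) ⟨one_mem _, hb⟩
        · exact (le_sup_right : _ ≤ K) ((le_iSup (PP B₁ P₁ B₂ P₂) (Sum.inr j)) ⟨one_mem _, hb⟩)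
      rw [h₂.gen] at h3
      exact fun x => h3 trivial
    rw [eq_top_iff]
    rintro ⟨x, y⟩ _
    have := mul_mem (k₁ x) (k₂ y)
    simpa using this
  · rintro (i | i) (j | j) hij
    · have h3 := polygon_up s₁ h₁.BP (h₁.pol i j fun h => hij (by rw [h]))
      rw [up_fst m₁] at h3
      have h4 : (fun j => up ((MonoidHom.fst X₁ X₂).comp N₁.subtype) (P₁ j)) =
          fun j => PP B₁ P₁ B₂ P₂ (Sum.inl j) := funext fun j => up_fst m₁
      rw [h4] at h3
      exact polygon_map Sum.inl h3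
    · exact polygon_cross h₁.BP h₂.BP t₁ t₂ i j
    · exact (polygon_cross h₁.BP h₂.BP t₁ t₂ j i).symm
    · have h3 := polygon_up s₂ h₂.BP (h₂.pol i j fun h => hij (by rw [h]))
      rw [up_snd m₂] at h3
      have h4 : (fun j => up ((MonoidHom.snd X₁ X₂).comp N₂.subtype) (P₂ j)) =
          fun j => PP B₁ P₁ B₂ P₂ (Sum.inr j) := funext fun j => up_snd m₂
      rw [h4] at h3
      exact polygon_map Sum.inr h3
  · rintro (j | j)
    · have h3 := relIndex_up s₁ (B' := B₁) (T := P₁ j)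
      rw [up_fst m₁, up_fst m₁] at h3
      exact h3.trans (h₁.card j)
    · have h3 := relIndex_up s₂ (B' := B₂) (T := P₂ j)
      rw [up_snd m₂, up_snd m₂] at h3
      exact h3.trans (h₂.card j)
  · rintro (j | j)
    · have h3 := pan_up (φ := (MonoidHom.fst X₁ X₂).comp N₁.subtype) (U := T₁.prod T₂) (h₁.pan j) (by
        rw [up_fst m₁]; exact prod_mono le_rfl hT₂)
      rw [up_fst m₁, up_fst m₁] at h3
      exact h3
    · have h3 := pan_up (φ := (MonoidHom.snd X₁ X₂).comp N₂.subtype) (U := T₁.prod T₂) (h₂.pan j) (by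
        rw [up_snd m₂]; exact prod_mono hT₁ le_rfl)
      rw [up_snd m₂, up_snd m₂] at h3
      exact h3

/-- the panels of a direct product -/
theorem xtr_prod (hB₁ : ∀ j, B₁ ≤ P₁ j) (hB₂ : ∀ j, B₂ ≤ P₂ j) (t₁ : XTr B₁ P₁) (t₂ : XTr B₂ P₂) :
    XTr (B₁.prod B₂) (PP B₁ P₁ B₂ P₂) where
  ex := by
    rintro (j | j)
    · obtain ⟨x, hx, hx'⟩ := t₁.ex j
      exact ⟨(x, 1), ⟨hx, one_mem _⟩, fun h => hx' h.1⟩
    · obtain ⟨x, hx, hx'⟩ := t₂.ex j
      exact ⟨(1, x), ⟨one_mem _, hx⟩, fun h => hx' h.2⟩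
  tr := by
    rintro (j | j) x hx hxB y hy hyB
    · have hx : x.1 ∈ P₁ j ∧ x.2 ∈ B₂ := hx
      have hy : y.1 ∈ P₁ j ∧ y.2 ∈ B₂ := hy
      obtain ⟨b, hb, h1⟩ := t₁.tr j x.1 hx.1 (fun h => hxB ⟨h, hx.2⟩) y.1 hy.1 (fun h => hyB ⟨h, hy.2⟩)
      refine ⟨(b, 1), ⟨hb, one_mem _⟩, h1, ?_⟩
      show (1 * x.2)⁻¹ * y.2 ∈ B₂
      rw [one_mul]
      exact mul_mem (inv_mem hx.2) hy.2
    · have hx : x.1 ∈ B₁ ∧ x.2 ∈ P₂ j := hx
      have hy : y.1 ∈ B₁ ∧ y.2 ∈ P₂ j := hy
      obtain ⟨b, hb, h1⟩ := t₂.tr j x.2 hx.2 (fun h => hxB ⟨hx.1, h⟩) y.2 hy.2 (fun h => hyB ⟨hy.1, h⟩)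
      refine ⟨(1, b), ⟨one_mem _, hb⟩, ?_, h1⟩
      show (1 * x.1)⁻¹ * y.1 ∈ B₁
      rw [one_mul]
      exact mul_mem (inv_mem hx.1) hy.1

end prod

/-! ### Transport -/

section transport

variable {X Y : Type*} [Group X] [Group Y] {J : Type*} {T B : Subgroup X} {P : J → Subgroup X} {M : J → J → ℕ}
  {q : J → ℕ}

theorem up_top_equiv (f : Y ≃* X) (S : Subgroup X) :
    up (f.toMonoidHom.comp (⊤ : Subgroup Y).subtype) S = S.comap f.toMonoidHom := by
  ext y
  rw [mem_up]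
  exact ⟨fun h => h.2, fun h => ⟨trivial, h⟩⟩

/-- transport of a system along an isomorphism -/
theorem comap (f : Y ≃* X) (h : XSys T B P M q) :
    XSys (T.comap f.toMonoidHom) (B.comap f.toMonoidHom) (fun j => (P j).comap f.toMonoidHom) M q := by
  have hs : Function.Surjective (f.toMonoidHom.comp (⊤ : Subgroup Y).subtype) := fun x =>
    ⟨⟨f.symm x, trivial⟩, f.apply_symm_apply x⟩
  have hT : T ≤ B := fun t ht => (h.mem_B t).2 fun s hs => mul_mem (mul_mem ht hs) (inv_mem ht)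
  refine ⟨?_, ?_, ?_, fun j => comap_mono (h.BP j), ?_, ?_, ?_, ?_⟩
  · exact h.two.comap_of_injective _ f.injective
  · intro U hU hle
    have h1 := h.max (U.map f.toMonoidHom) (hU.map _) (by
      intro t ht
      exact ⟨f.symm t, hle (by
        show f (f.symm t) ∈ T
        rw [f.apply_symm_apply]; exact ht), f.apply_symm_apply t⟩)
    exact fun u hu => h1 ⟨u, hu, rfl⟩
  · intro x
    show f x ∈ B ↔ _
    rw [h.mem_B]
    constructor
    · intro h1 t ht
      show f (x * t * x⁻¹) ∈ T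
      rw [map_mul, map_mul, map_inv]
      exact h1 _ ht
    · intro h1 t ht
      have h2 : f (x * f.symm t * x⁻¹) ∈ T := h1 (f.symm t) (by
        show f (f.symm t) ∈ T
        rw [f.apply_symm_apply]; exact ht)
      rwa [map_mul, map_mul, map_inv, f.apply_symm_apply] at h2
  · rw [eq_top_iff]
    intro y _
    set K : Subgroup Y := B.comap f.toMonoidHom ⊔ ⨆ j, (P j).comap f.toMonoidHom with hK
    have h1 : B ⊔ ⨆ j, P j ≤ K.map f.toMonoidHom := by
      have key : ∀ {S : Subgroup X}, S.comap f.toMonoidHom ≤ K → S ≤ K.map f.toMonoidHom := by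
        intro S hS s hs'
        exact ⟨f.symm s, hS (by
          show f (f.symm s) ∈ S
          rw [f.apply_symm_apply]; exact hs'), f.apply_symm_apply s⟩
      exact sup_le (key le_sup_left) (iSup_le fun j => key
        ((le_iSup (fun j => (P j).comap f.toMonoidHom) j).trans le_sup_right))
    rw [h.gen] at h1
    obtain ⟨k, hk, e⟩ := h1 (mem_top (f y))
    have : k = y := f.injective e
    exact this ▸ hk
  · intro i j hij
    have h3 := polygon_up hs h.BP (h.pol i j hij)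
    rw [up_top_equiv] at h3
    have h4 : (fun j => up (f.toMonoidHom.comp (⊤ : Subgroup Y).subtype) (P j)) =
        fun j => (P j).comap f.toMonoidHom := funext fun j => up_top_equiv f _
    rwa [h4] at h3
  · intro j
    have h3 := relIndex_up hs (B' := B) (T := P j)
    rw [up_top_equiv, up_top_equiv] at h3
    exact h3.trans (h.card j)
  · intro j
    have h3 := pan_up (φ := f.toMonoidHom.comp (⊤ : Subgroup Y).subtype) (U := T.comap f.toMonoidHom) (h.pan j)
      (by rw [up_top_equiv])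
    rw [up_top_equiv, up_top_equiv] at h3
    exact h3

end transport

end Cfsg.Agent.Omega.EH3.RowS.XProd

end

section


/-!
# THEOREM ID, part 7: the system `XSys` of a root group datum

`xsys_of_rgd`: a group `Y` with a root group datum `(T, n, X)` of characteristic two which generates `Y`, with a finite Weyl
group, has the system `XSys (Sup X Pos) B (P {j}) M q`, `q j = |X α_j|`.
-/

set_option autoImplicit false

namespace Cfsg.Agent.Omega.ThmID

open CoxeterSystem Cfsg.Agent.ChevalleyStructure.CoxeterGeom Cfsg.Agent.Tits.Roots Cfsg.Agent.Tits.Core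
  Cfsg.Agent.Nodes.Reps Cfsg.Agent.Nodes.BNOf Cfsg.Agent.Nodes.StabComb Cfsg.Agent.Nodes.Bruhat
  Cfsg.Agent.Nodes.LeviDec Cfsg.Agent.Nodes.NormalForm Cfsg.Agent.ParSys Cfsg.Agent.ParSys.Words

section words

variable {I W : Type*} [Group W] {M : CoxeterMatrix I} (cs : CoxeterSystem M W)

theorem reverse_alternatingWord (i i' : I) (m : ℕ) : (alternatingWord i i' m).reverse = alt i' i m := by
  induction m generalizing i i' with
  | zero => rfl
  | succ m ih =>
    rw [alternatingWord, List.concat_eq_append, List.reverse_append, ih]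
    rfl

/-- the braid relation -/
theorem wordProd_alt (i j : I) : cs.wordProd (alt i j (M i j)) = cs.wordProd (alt j i (M i j)) := by
  rw [← reverse_alternatingWord j i, ← reverse_alternatingWord i j, wordProd_reverse, wordProd_reverse]
  congr 1
  have h := cs.wordProd_braidWord_eq i j
  unfold braidWord at h
  rw [M.symmetric j i] at h
  exact h.symm

end words

variable {I W Y : Type*} [Fintype I] [DecidableEq I] [Group W] [Group Y] {M : CoxeterMatrix I}
  {cs : CoxeterSystem M W} {A : I → I → ℤ} {h : IsCartan M A} {p : ℕ} {T : Subgroup Y} {n : I → Y}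
  {X : (I → ℤ) → Subgroup Y}

section rgd

variable (R : RGD cs h p T n X)

include R

theorem simple_ne_one (i : I) : cs.simple i ≠ 1 := by
  have := R
  intro h1
  have h2 := cs.length_simple i
  rw [h1, cs.length_one] at h2
  exact absurd h2 (by decide)

/-- the elements of the minimal parabolics outside of `B` -/
theorem mem_P_iff [Finite W] {i : I} {x : Y} :
    (x ∈ PJ cs h T X {i} ∧ x ∉ RGD.B cs h T X) ↔ Cell R.nsys cs h X (cs.simple i) x := by
  have hWJ : ∀ w, w ∈ WJ cs {i} ↔ w = 1 ∨ w = cs.simple i := by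
    intro w
    unfold WJ
    rw [Set.image_singleton]
    constructor
    · intro hw
      induction hw using Subgroup.closure_induction_left with
      | one => exact Or.inl rfl
      | mul_left x hx y _ ih =>
        rw [Set.mem_singleton_iff] at hx
        subst hx
        rcases ih with ih | ih
        · right; rw [ih, mul_one]
        · left; rw [ih, simple_mul_simple_self]
      | inv_mul_cancel x hx y _ ih =>
        rw [Set.mem_singleton_iff] at hx
        subst hx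
        rw [inv_simple]
        rcases ih with ih | ih
        · right; rw [ih, mul_one]
        · left; rw [ih, simple_mul_simple_self]
    · rintro (rfl | rfl)
      · exact one_mem _
      · exact Subgroup.subset_closure rfl
  constructor
  · rintro ⟨h1, h2⟩
    obtain ⟨w, hw, hc⟩ := (mem_PJ_iff_cell R).1 h1
    rcases (hWJ w).1 hw with rfl | rfl
    · exact absurd hc.mem_of_one h2
    · exact hc
  · intro hc
    refine ⟨(mem_PJ_iff_cell R).2 ⟨_, (hWJ _).2 (Or.inr rfl), hc⟩, fun h1 => ?_⟩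
    exact simple_ne_one R i (Cell.unique R hc (cell_one_of_mem h1))

theorem isReduced_tail {i : I} {f : List I} (hf : cs.IsReduced (i :: f)) :
    cs.IsReduced f ∧ cs.length (cs.simple i * cs.wordProd f) = cs.length (cs.simple i) + cs.length (cs.wordProd f) := by
  have := R
  have h1 : cs.length (cs.wordProd (i :: f)) = f.length + 1 := hf
  rw [wordProd_cons] at h1
  have h2 := cs.length_wordProd_le f
  have h3 := cs.length_mul_le (cs.simple i) (cs.wordProd f)
  rw [cs.length_simple] at h3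
  have h4 : cs.length (cs.wordProd f) = f.length := by omega
  refine ⟨h4, ?_⟩
  rw [cs.length_simple]; omega

/-- the product of a gallery of reduced type -/
theorem cell_gal [Finite W] {f : List I} {l : List Y} (hf : cs.IsReduced f)
    (hl : GalE (RGD.B cs h T X) (fun j => PJ cs h T X {j}) f l) : Cell R.nsys cs h X (cs.wordProd f) l.prod := by
  induction f generalizing l with
  | nil =>
    cases l with
    | nil => rw [wordProd_nil, List.prod_nil]; exact cell_one_of_mem (one_mem _)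
    | cons x l => exact hl.elim
  | cons i f ih =>
    cases l with
    | nil => exact hl.elim
    | cons x l =>
      obtain ⟨h1, h2⟩ := isReduced_tail R hf
      rw [wordProd_cons, List.prod_cons]
      exact Cell.mul_of_length R h2 ((mem_P_iff R).1 hl.1) (ih h1 hl.2)

/-- galleries of reduced type are determined by their ends -/
theorem same_gal [Finite W] {f : List I} {l l' : List Y} (hf : cs.IsReduced f)
    (hl : GalE (RGD.B cs h T X) (fun j => PJ cs h T X {j}) f l)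
    (hl' : GalE (RGD.B cs h T X) (fun j => PJ cs h T X {j}) f l') {t s : Y} (hts : t⁻¹ * s ∈ RGD.B cs h T X)
    (he : (t * l.prod)⁻¹ * (s * l'.prod) ∈ RGD.B cs h T X) : Same (RGD.B cs h T X) t s l l' := by
  induction f generalizing l l' t s with
  | nil =>
    cases l with
    | cons x l => exact hl.elim
    | nil =>
      cases l' with
      | cons y l' => exact hl'.elim
      | nil => exact hts
  | cons i f ih =>
    cases l with
    | nil => exact hl.elim
    | cons x l =>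
      cases l' with
      | nil => exact hl'.elim
      | cons y l' =>
        obtain ⟨h1, h2⟩ := isReduced_tail R hf
        refine ⟨hts, ih h1 hl.2 hl'.2 ?_ ?_⟩
        · by_contra hc
          have hP : (t * x)⁻¹ * (s * y) ∈ PJ cs h T X {i} := by
            have e : (t * x)⁻¹ * (s * y) = x⁻¹ * (t⁻¹ * s) * y := by group
            rw [e]
            exact mul_mem (mul_mem (inv_mem hl.1.1) (B_le_PJ hts)) hl'.1.1
          have h3 := Cell.mul_of_length R h2 ((mem_P_iff R).1 ⟨hP, hc⟩) (cell_gal R h1 hl'.2)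
          have h4 := (cell_gal R h1 hl.2).mul_right he
          have e : l.prod * ((t * (x :: l).prod)⁻¹ * (s * (y :: l').prod)) = (t * x)⁻¹ * (s * y) * l'.prod := by
            rw [List.prod_cons, List.prod_cons]; group
          rw [e] at h4
          have h5 := Cell.unique R h3 h4
          exact simple_ne_one R i (mul_eq_right.1 h5)
        · have e : (t * x * l.prod)⁻¹ * (s * y * l'.prod) = (t * (x :: l).prod)⁻¹ * (s * (y :: l').prod) := by
            rw [List.prod_cons, List.prod_cons, mul_assoc t x, mul_assoc s y]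
          rw [e]; exact he

/-- `B` is transitive on the galleries of reduced type from `B` -/
theorem trans_gal [Finite W] {f : List I} {l l' : List Y} (hf : cs.IsReduced f)
    (hl : GalE (RGD.B cs h T X) (fun j => PJ cs h T X {j}) f l)
    (hl' : GalE (RGD.B cs h T X) (fun j => PJ cs h T X {j}) f l') :
    ∃ y ∈ RGD.B cs h T X, Same (RGD.B cs h T X) y 1 l l' := by
  obtain ⟨b₁, hb₁, k, hk, b₂, hb₂, e⟩ := cell_gal R hf hl
  obtain ⟨c₁, hc₁, k', hk', c₂, hc₂, e'⟩ := cell_gal R hf hl'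
  refine ⟨c₁ * b₁⁻¹, mul_mem hc₁ (inv_mem hb₁), same_gal R hf hl hl' ?_ ?_⟩
  · rw [mul_one]; exact inv_mem (mul_mem hc₁ (inv_mem hb₁))
  · have h1 : k⁻¹ * k' ∈ RGD.B cs h T X := RGD.T_le_B (hk.unique hk')
    have e2 : (c₁ * b₁⁻¹ * l.prod)⁻¹ * (1 * l'.prod) = b₂⁻¹ * (k⁻¹ * k') * c₂ := by rw [e, e']; group
    rw [e2]
    exact mul_mem (mul_mem (inv_mem hb₂) h1) hc₂

theorem rp_word (f : List I) : Rp cs R.nsys (cs.wordProd f) (f.map n).prod := by
  induction f with
  | nil => rw [wordProd_nil, List.map_nil, List.prod_nil]; exact rp_one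
  | cons i f ih =>
    rw [wordProd_cons, List.map_cons, List.prod_cons]
    exact (rp_simple cs R.nsys i).mul ih

theorem galE_word [Finite W] (f : List I) :
    GalE (RGD.B cs h T X) (fun j => PJ cs h T X {j}) f (f.map n) := by
  induction f with
  | nil => exact trivial
  | cons i f ih => exact ⟨(mem_P_iff R).2 (cell_of_rp (rp_simple cs R.nsys i)), ih⟩

/-- **the residues of rank two are polygons** -/
theorem polygon_rgd [Finite W] (i j : I) :
    Polygon (RGD.B cs h T X) (fun j => PJ cs h T X {j}) i j (M i j) := by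
  have h1 : cs.IsReduced (alt i j (M i j)) := isReduced_alt cs fun _ => le_rfl
  have h2 : cs.IsReduced (alt j i (M i j)) := isReduced_alt cs fun _ => by rw [M.symmetric j i]
  exact
  { uniq := fun l l' hl hl' he => same_gal R h1 hl hl' (by simp [one_mem]) (by simpa using he)
    uniq' := fun l l' hl hl' he => same_gal R h2 hl hl' (by simp [one_mem]) (by simpa using he)
    swap := ⟨_, _, galE_word R _, galE_word R _, RGD.T_le_B (by
      have h3 := rp_word R (alt i j (M i j))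
      have h4 := rp_word R (alt j i (M i j))
      rw [← wordProd_alt] at h4
      exact h3.unique h4)⟩
    trans := fun l l' hl hl' => trans_gal R h1 hl hl'
    trans' := fun l l' hl hl' => trans_gal R h2 hl hl' }

omit R in
/-- `V_i`, the unipotent radical of `P_i` -/
theorem conj_V_mem {i : I} {g v : Y} (hv : v ∈ RGD.Sup X (RGD.PosNe cs h i))
    (hg : g ∈ Subgroup.normalizer (RGD.Sup X (RGD.PosNe cs h i) : Set Y)) :
    g * v * g⁻¹ ∈ RGD.Sup X (RGD.PosNe cs h i) := (Subgroup.mem_normalizer_iff.1 hg v).1 hv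

theorem n_mem_normalizer_V (i : I) : n i ∈ Subgroup.normalizer (RGD.Sup X (RGD.PosNe cs h i) : Set Y) := by
  rw [mem_normalizer_iff_cj]; exact R.cj_n_V i

theorem T_le_normalizer_V (i : I) : T ≤ Subgroup.normalizer (RGD.Sup X (RGD.PosNe cs h i) : Set Y) :=
  R.T_le_normalizer fun _ hx => hx.1

omit R in
theorem V_le_B (i : I) : RGD.Sup X (RGD.PosNe cs h i) ≤ RGD.B cs h T X :=
  (RGD.Sup_mono (S := RGD.PosNe cs h i) (S' := RGD.Pos cs h) fun _ hz => ⟨hz.1, hz.2.1⟩).trans RGD.U_le_B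

/-- `P_i = B ∪ X_i n_i B` -/
theorem exists_form [Finite W] {i : I} {x : Y} (hx : x ∈ PJ cs h T X {i}) (hxB : x ∉ RGD.B cs h T X) :
    ∃ u ∈ X (sr i), ∃ b ∈ RGD.B cs h T X, x = u * n i * b := by
  obtain ⟨b₁, hb₁, k, hk, b₂, hb₂, rfl⟩ := (mem_P_iff R).1 ⟨hx, hxB⟩
  obtain ⟨v, hv, u, hu, t, ht, rfl⟩ := R.mem_B' i hb₁
  have h1 : (n i)⁻¹ * k ∈ T := (rp_simple cs R.nsys i).unique hk
  have hn := n_mem_normalizer_V R i
  -- `v u t k b₂ = u n (n⁻¹ (u⁻¹ v u) n) (n⁻¹ t n) (n⁻¹ k) b₂`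
  have h2 : u⁻¹ * v * u ∈ RGD.Sup X (RGD.PosNe cs h i) := by
    have := conj_V_mem hv (inv_mem (R.X_le_normalizer_V i hu))
    rwa [inv_inv] at this
  have h3 : (n i)⁻¹ * (u⁻¹ * v * u) * n i ∈ RGD.Sup X (RGD.PosNe cs h i) := by
    have := conj_V_mem h2 (inv_mem hn)
    rwa [inv_inv] at this
  have h4 : (n i)⁻¹ * t * n i ∈ T := by
    have := (Subgroup.mem_normalizer_iff.1 (inv_mem (R.nsys.norm i)) t).1 ht
    rwa [inv_inv] at this
  refine ⟨u, hu, ((n i)⁻¹ * (u⁻¹ * v * u) * n i) * ((n i)⁻¹ * t * n i) * ((n i)⁻¹ * k) * b₂, ?_, by group⟩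
  exact mul_mem (mul_mem (mul_mem (V_le_B i h3) (RGD.T_le_B h4)) (RGD.T_le_B h1)) hb₂

/-- an element of `X_i` which fixes the chamber `n_i B` -/
theorem eq_one_of_conj [Finite W] {i : I} {u : Y} (hu : u ∈ X (sr i)) (hB : (n i)⁻¹ * u * n i ∈ RGD.B cs h T X) :
    u = 1 := by
  have hk : Rp cs R.nsys (cs.simple i) (n i)⁻¹ := by
    have := (rp_simple cs R.nsys i).inv
    rwa [inv_simple] at this
  exact eq_one_of_conj_mem_B R hu hk (by rwa [inv_inv])

/-- **the number of chambers in a panel** -/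
theorem relIndex_P [Finite W] [Finite Y] (i : I) :
    (RGD.B cs h T X).relIndex (PJ cs h T X {i}) = Nat.card (X (sr i)) + 1 := by
  classical
  have hnP : n i ∈ PJ cs h T X {i} := ((mem_P_iff R).2 (cell_of_rp (rp_simple cs R.nsys i))).1
  have hXP : X (sr i) ≤ PJ cs h T X {i} := (RGD.X_le_B (isRoot_sr cs h i) (sr_nonneg i)).trans B_le_PJ
  let f : Option (X (sr i)) → PJ cs h T X {i} ⧸ (RGD.B cs h T X).subgroupOf (PJ cs h T X {i}) := fun o =>
    match o with
    | none => QuotientGroup.mk 1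
    | some u => QuotientGroup.mk ⟨(u : Y) * n i, mul_mem (hXP u.2) hnP⟩
  have hnB : n i ∉ RGD.B cs h T X := ((mem_P_iff R).2 (cell_of_rp (rp_simple cs R.nsys i))).2
  have hX1 : X (sr i) ≤ RGD.B cs h T X := RGD.X_le_B (isRoot_sr cs h i) (sr_nonneg i)
  have key : ∀ u ∈ X (sr i), u * n i ∉ RGD.B cs h T X := by
    intro u hu hc
    apply hnB
    have := mul_mem (inv_mem (hX1 hu)) hc
    rwa [inv_mul_cancel_left] at this
  have hf : Function.Bijective f := by
    constructor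
    · rintro (_ | u) (_ | v) huv
      · rfl
      · exfalso
        have h1 : (QuotientGroup.mk (1 : PJ cs h T X {i}) :
            PJ cs h T X {i} ⧸ (RGD.B cs h T X).subgroupOf (PJ cs h T X {i})) =
            QuotientGroup.mk ⟨(v : Y) * n i, mul_mem (hXP v.2) hnP⟩ := huv
        rw [QuotientGroup.eq] at h1
        have h2 : (1 : Y)⁻¹ * ((v : Y) * n i) ∈ RGD.B cs h T X := h1
        rw [inv_one, one_mul] at h2
        exact key v v.2 h2
      · exfalso
        have h1 : (QuotientGroup.mk (⟨(u : Y) * n i, mul_mem (hXP u.2) hnP⟩ : PJ cs h T X {i}) :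
            PJ cs h T X {i} ⧸ (RGD.B cs h T X).subgroupOf (PJ cs h T X {i})) = QuotientGroup.mk 1 := huv
        rw [eq_comm, QuotientGroup.eq] at h1
        have h2 : (1 : Y)⁻¹ * ((u : Y) * n i) ∈ RGD.B cs h T X := h1
        rw [inv_one, one_mul] at h2
        exact key u u.2 h2
      · have h1 : (QuotientGroup.mk (⟨(u : Y) * n i, mul_mem (hXP u.2) hnP⟩ : PJ cs h T X {i}) :
            PJ cs h T X {i} ⧸ (RGD.B cs h T X).subgroupOf (PJ cs h T X {i})) =
            QuotientGroup.mk ⟨(v : Y) * n i, mul_mem (hXP v.2) hnP⟩ := huv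
        rw [QuotientGroup.eq] at h1
        have h2 : ((u : Y) * n i)⁻¹ * ((v : Y) * n i) ∈ RGD.B cs h T X := h1
        have e : ((u : Y) * n i)⁻¹ * ((v : Y) * n i) = (n i)⁻¹ * ((u : Y)⁻¹ * v) * n i := by group
        rw [e] at h2
        have h3 := eq_one_of_conj R (mul_mem (inv_mem u.2) v.2) h2
        have h4 : (u : Y) = v := inv_mul_eq_one.1 h3
        exact congrArg some (Subtype.ext h4)
    · intro y
      induction y using QuotientGroup.induction_on with
      | _ x =>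
      by_cases hx : (x : Y) ∈ RGD.B cs h T X
      · refine ⟨none, ?_⟩
        show (QuotientGroup.mk (1 : PJ cs h T X {i}) :
            PJ cs h T X {i} ⧸ (RGD.B cs h T X).subgroupOf (PJ cs h T X {i})) = QuotientGroup.mk x
        rw [QuotientGroup.eq, inv_one, one_mul]
        exact hx
      · obtain ⟨u, hu, b, hb, e⟩ := exists_form R x.2 hx
        refine ⟨some ⟨u, hu⟩, ?_⟩
        show (QuotientGroup.mk (⟨u * n i, mul_mem (hXP hu) hnP⟩ : PJ cs h T X {i}) :
            PJ cs h T X {i} ⧸ (RGD.B cs h T X).subgroupOf (PJ cs h T X {i})) = QuotientGroup.mk x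
        rw [QuotientGroup.eq]
        show (u * n i)⁻¹ * (x : Y) ∈ RGD.B cs h T X
        rw [e, inv_mul_cancel_left]; exact hb
  have h1 := Nat.card_eq_of_bijective f hf
  rw [Finite.card_option] at h1
  exact h1.symm

/-- **the panel condition** -/
theorem pan_rgd [Finite W] (i : I) : ∀ g ∈ RGD.Sup X (RGD.Pos cs h), ∀ x ∈ PJ cs h T X {i}, x ∉ RGD.B cs h T X →
    x⁻¹ * g * x ∈ RGD.B cs h T X → ∀ y ∈ PJ cs h T X {i}, y⁻¹ * g * y ∈ RGD.B cs h T X := by
  intro g hg x hx hxB hgx y hy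
  have hn := n_mem_normalizer_V R i
  have hnV : ∀ v ∈ RGD.Sup X (RGD.PosNe cs h i), (n i)⁻¹ * v * n i ∈ RGD.Sup X (RGD.PosNe cs h i) := by
    intro v hv
    have := conj_V_mem hv (inv_mem hn)
    rwa [inv_inv] at this
  have huV : ∀ u ∈ X (sr i), ∀ v ∈ RGD.Sup X (RGD.PosNe cs h i), u⁻¹ * v * u ∈ RGD.Sup X (RGD.PosNe cs h i) := by
    intro u hu v hv
    have := conj_V_mem hv (inv_mem (R.X_le_normalizer_V i hu))
    rwa [inv_inv] at this
  -- `g ∈ V_i`
  have hgV : g ∈ RGD.Sup X (RGD.PosNe cs h i) := by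
    have h1 : g ∈ ((RGD.Sup X (RGD.PosNe cs h i) ⊔ X (sr i) : Subgroup Y) : Set Y) := by
      rw [sup_comm, ← R.Upos_eq i]; exact hg
    rw [Subgroup.coe_mul_of_right_le_normalizer_left _ _ (R.X_le_normalizer_V i), Set.mem_mul] at h1
    obtain ⟨v, hv, u, hu, rfl⟩ := h1
    obtain ⟨u₁, hu₁, b, hb, rfl⟩ := exists_form R hx hxB
    have e : (u₁ * n i * b)⁻¹ * (v * u) * (u₁ * n i * b) =
        b⁻¹ * (((n i)⁻¹ * (u₁⁻¹ * v * u₁) * n i) * ((n i)⁻¹ * (u₁⁻¹ * u * u₁) * n i)) * b := by group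
    rw [e] at hgx
    have h2 : ((n i)⁻¹ * (u₁⁻¹ * v * u₁) * n i) * ((n i)⁻¹ * (u₁⁻¹ * u * u₁) * n i) ∈ RGD.B cs h T X := by
      have := mul_mem (mul_mem hb hgx) (inv_mem hb)
      have e2 : ∀ z : Y, b * (b⁻¹ * z * b) * b⁻¹ = z := fun z => by group
      rwa [e2] at this
    have h3 := V_le_B (T := T) i (hnV _ (huV u₁ hu₁ v hv))
    have h4 : (n i)⁻¹ * (u₁⁻¹ * u * u₁) * n i ∈ RGD.B cs h T X := by
      have := mul_mem (inv_mem h3) h2
      rwa [inv_mul_cancel_left] at this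
    have h5 := eq_one_of_conj R (mul_mem (mul_mem (inv_mem hu₁) hu) hu₁) h4
    have h6 : u = 1 := by
      calc u = u₁ * (u₁⁻¹ * u * u₁) * u₁⁻¹ := by group
        _ = 1 := by rw [h5]; group
    rw [h6, mul_one]; exact hv
  by_cases hyB : y ∈ RGD.B cs h T X
  · exact mul_mem (mul_mem (inv_mem hyB) (RGD.U_le_B hg)) hyB
  · obtain ⟨u, hu, b, hb, rfl⟩ := exists_form R hy hyB
    have e : (u * n i * b)⁻¹ * g * (u * n i * b) = b⁻¹ * ((n i)⁻¹ * (u⁻¹ * g * u) * n i) * b := by group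
    rw [e]
    exact mul_mem (mul_mem (inv_mem hb) (V_le_B i (hnV _ (huV u hu g hgV)))) hb

/-- the parabolics generate -/
theorem gen_rgd [Finite W] (hG : GG cs h T X = ⊤) : RGD.B cs h T X ⊔ ⨆ j, PJ cs h T X {j} = ⊤ := by
  set K : Subgroup Y := RGD.B cs h T X ⊔ ⨆ j, PJ cs h T X {j} with hK
  have hB : RGD.B cs h T X ≤ K := le_sup_left
  have hn : ∀ i, n i ∈ K := fun i =>
    (le_sup_right : _ ≤ K) ((le_iSup (fun j => PJ cs h T X {j}) i) ((mem_P_iff R).2 (cell_of_rp (rp_simple cs R.nsys i))).1)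
  rw [eq_top_iff, ← hG]
  intro g hg
  obtain ⟨w, b₁, hb₁, k, hk, b₂, hb₂, rfl⟩ := (mem_GG R).1 hg
  obtain ⟨ω, rfl⟩ := cs.wordProd_surjective w
  have h1 : (ω.map n).prod ∈ K := by
    apply Subgroup.list_prod_mem
    intro x hx
    obtain ⟨i, -, rfl⟩ := List.mem_map.1 hx
    exact hn i
  have h2 : (ω.map n).prod⁻¹ * k ∈ K := hB (RGD.T_le_B ((rp_word R ω).unique hk))
  have h3 := mul_mem h1 h2
  rw [mul_inv_cancel_left] at h3
  exact mul_mem (mul_mem (hB hb₁) h3) (hB hb₂)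

end rgd

/-- **The system of a root group datum of characteristic two.** -/
theorem xsys_of_rgd [Finite W] [Finite Y] (R : RGD cs h 2 T n X) (hG : GG cs h T X = ⊤)
    {q : I → ℕ} (hq : ∀ j, Nat.card (X (sr j)) = q j) :
    XSys (RGD.Sup X (RGD.Pos cs h)) (RGD.B cs h T X) (fun j => PJ cs h T X {j}) (fun i j => M i j) q where
  two := R.isPGroup_Upos
  max U hU hle := (eq_U_of_isPGroup R hU hle (by rw [hG]; exact le_top)).le
  mem_B x := by
    have h1 := normalizer_U R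
    rw [hG, inf_top_eq] at h1
    rw [← h1]
    constructor
    · intro hx t ht
      exact (Subgroup.mem_normalizer_iff.1 hx t).1 ht
    · exact fun hx => mem_normalizer_of hx
  BP _ := B_le_PJ
  gen := gen_rgd R hG
  pol i j _ := polygon_rgd R i j
  card j := by rw [relIndex_P R, hq]
  pan j := pan_rgd R j

end Cfsg.Agent.Omega.ThmID

end

section


/-!
# RowS, BACK (helper73), part 6: the system `XSys` of `S₃`
-/

set_option autoImplicit false

namespace Cfsg.Agent.Omega.EH3.RowS.XS3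

open Subgroup Cfsg.Agent.ParSys Cfsg.Agent.Omega.ThmID Cfsg.Agent.Omega.EH3.RowS.XProd

variable {X : Type*} [Group X] {d t : X}

/-- `X = ⟨d, t⟩ = S₃` -/
structure IsS3 (d t : X) : Prop where
  d3 : d * d * d = 1
  d_ne : d ≠ 1
  t2 : t * t = 1
  t_ne : t ≠ 1
  conj : t * d = d * d * t
  all : ∀ x : X, (x = 1 ∨ x = d ∨ x = d * d) ∨ x = t ∨ x = d * t ∨ x = d * d * t

namespace IsS3

variable (h : IsS3 d t)

include h

theorem dd_ne : d * d ≠ 1 := by
  intro h1
  have h2 := h.d3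
  rw [h1, one_mul] at h2
  exact h.d_ne h2

theorem d_ne_t : d ≠ t := by
  intro h1
  have h2 := h.t2
  rw [← h1] at h2
  exact h.dd_ne h2

theorem dd_ne_t : d * d ≠ t := by
  intro h1
  have h2 := h.t2
  rw [← h1] at h2
  have h3 : d * d * (d * d) = d * d * d * d := by group
  rw [h3, h.d3, one_mul] at h2
  exact h.d_ne h2

omit h in
theorem mem_zp (ht : t * t = 1) {x : X} : x ∈ zpowers t ↔ x = 1 ∨ x = t := by
  constructor
  · intro hx
    obtain ⟨n, rfl⟩ := mem_zpowers_iff.1 hx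
    rcases Int.even_or_odd' n with ⟨m, rfl | rfl⟩
    · left
      rw [zpow_mul, zpow_two, ht, one_zpow]
    · right
      rw [zpow_add, zpow_mul, zpow_two, ht, one_zpow, one_mul, zpow_one]
  · rintro (rfl | rfl)
    · exact one_mem _
    · exact mem_zpowers _

theorem mem_B {x : X} : x ∈ zpowers t ↔ x = 1 ∨ x = t := mem_zp h.t2

theorem not_mem_B {x : X} (hx : x ∉ zpowers t) :
    (x = d ∨ x = d * d) ∨ x = d * t ∨ x = d * d * t := by
  rw [h.mem_B, not_or] at hx
  rcases h.all x with (h1 | h1 | h1) | h1 | h1 | h1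
  · exact absurd h1 hx.1
  · exact Or.inl (Or.inl h1)
  · exact Or.inl (Or.inr h1)
  · exact absurd h1 hx.2
  · exact Or.inr (Or.inl h1)
  · exact Or.inr (Or.inr h1)

theorem d_not : d ∉ zpowers t := by
  rw [h.mem_B, not_or]
  exact ⟨h.d_ne, h.d_ne_t⟩

theorem dd_not : d * d ∉ zpowers t := by
  rw [h.mem_B, not_or]
  exact ⟨h.dd_ne, h.dd_ne_t⟩

theorem inv_d : d⁻¹ = d * d := by
  rw [inv_eq_iff_mul_eq_one, ← mul_assoc]
  exact h.d3

theorem inv_dd : (d * d)⁻¹ = d := by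
  rw [inv_eq_iff_mul_eq_one]
  exact h.d3

theorem inv_t : t⁻¹ = t := by
  rw [inv_eq_iff_mul_eq_one]
  exact h.t2

theorem t_dd : t * (d * d) = d * t := by
  rw [← mul_assoc, h.conj, mul_assoc, h.conj]
  have h3 : d * d * (d * d * t) = d * d * d * (d * t) := by group
  rw [h3, h.d3, one_mul]

theorem conj_d : d * t * d⁻¹ = d * d * t := by
  rw [h.inv_d, mul_assoc, h.t_dd, ← mul_assoc]

theorem conj_dd : d * d * t * (d * d)⁻¹ = d * t := by
  rw [h.inv_dd, mul_assoc, h.conj]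
  have h3 : d * d * (d * d * t) = d * d * d * (d * t) := by group
  rw [h3, h.d3, one_mul]

theorem dt_not : d * t ∉ zpowers t := by
  intro h1
  have h2 := mul_mem h1 (inv_mem (mem_zpowers t))
  rw [mul_inv_cancel_right] at h2
  exact h.d_not h2

theorem ddt_not : d * d * t ∉ zpowers t := by
  intro h1
  have h2 := mul_mem h1 (inv_mem (mem_zpowers t))
  rw [mul_inv_cancel_right] at h2
  exact h.dd_not h2

theorem conj_t_not {x : X} (hx : x ∉ zpowers t) : x * t * x⁻¹ ∉ zpowers t := by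
  rcases h.not_mem_B hx with (rfl | rfl) | rfl | rfl
  · rw [h.conj_d]; exact h.ddt_not
  · rw [h.conj_dd]; exact h.dt_not
  · have e : d * t * t * (d * t)⁻¹ = d * t * d⁻¹ := by group
    rw [e, h.conj_d]; exact h.ddt_not
  · have e : d * d * t * t * (d * d * t)⁻¹ = d * d * t * (d * d)⁻¹ := by group
    rw [e, h.conj_dd]; exact h.dt_not

theorem d_mem {U : Subgroup X} (hU : t ∈ U) {x : X} (hx : x ∈ U) (hxB : x ∉ zpowers t) : d ∈ U := by
  have key : d * d ∈ U → d ∈ U := by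
    intro h1
    have h2 := inv_mem h1
    rwa [h.inv_dd] at h2
  rcases h.not_mem_B hxB with (rfl | rfl) | rfl | rfl
  · exact hx
  · exact key hx
  · have h1 := mul_mem hx (inv_mem hU)
    rwa [mul_inv_cancel_right] at h1
  · have h1 := mul_mem hx (inv_mem hU)
    rw [mul_inv_cancel_right] at h1
    exact key h1

theorem not_two {U : Subgroup X} (hU : IsPGroup 2 U) : d ∉ U := by
  intro hd
  obtain ⟨n, hn⟩ := hU ⟨d, hd⟩
  have hn' : d ^ 2 ^ n = 1 := congrArg Subtype.val hn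
  have h3 : d ^ 3 = 1 := by rw [pow_succ, pow_two]; exact h.d3
  have h4 : orderOf d ∣ 2 ^ n := orderOf_dvd_of_pow_eq_one hn'
  have h5 : orderOf d ∣ 3 := orderOf_dvd_of_pow_eq_one h3
  have h6 : Nat.Coprime (2 ^ n) 3 := Nat.Coprime.pow_left n (by norm_num)
  have h7 := Nat.dvd_gcd h4 h5
  rw [h6] at h7
  exact h.d_ne (orderOf_eq_one_iff.1 (Nat.dvd_one.1 h7))

theorem card_eq : Nat.card X = 6 := by
  classical
  have e1 : (Set.univ : Set X) = {1, d, d * d, t, d * t, d * d * t} := by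
    ext x
    simp only [Set.mem_univ, Set.mem_insert_iff, Set.mem_singleton_iff, true_iff]
    rcases h.all x with (h1 | h1 | h1) | h1 | h1 | h1 <;> simp [h1]
  have e2 : Nat.card X = (Set.univ : Set X).ncard := (Set.ncard_univ X).symm
  have n1 := h.d_ne
  have n2 := h.dd_ne
  have n3 := h.t_ne
  have n4 : d * t ≠ 1 := fun h1 => h.dt_not (h1 ▸ one_mem _)
  have n5 : d * d * t ≠ 1 := fun h1 => h.ddt_not (h1 ▸ one_mem _)
  have n6 : d * d ≠ d := fun h1 => h.d_ne (mul_eq_left.1 h1)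
  have n7 := h.d_ne_t
  have n8 : d * t ≠ d := fun h1 => h.t_ne (mul_eq_left.1 h1)
  have n9 : d * d * t ≠ d := by
    intro h1
    rw [mul_assoc] at h1
    exact n4 (mul_eq_left.1 h1)
  have n10 := h.dd_ne_t
  have n11 : d * t ≠ d * d := fun h1 => n7 (mul_left_cancel h1).symm
  have n12 : d * d * t ≠ d * d := fun h1 => h.t_ne (mul_eq_left.1 h1)
  have n13 : d * t ≠ t := fun h1 => h.d_ne (mul_eq_right.1 h1)
  have n14 : d * d * t ≠ t := fun h1 => h.dd_ne (mul_eq_right.1 h1)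
  have n15 : d * d * t ≠ d * t := fun h1 => n6 (mul_right_cancel h1)
  rw [e2, e1]
  rw [Set.ncard_insert_of_notMem, Set.ncard_insert_of_notMem, Set.ncard_insert_of_notMem,
    Set.ncard_insert_of_notMem, Set.ncard_insert_of_notMem, Set.ncard_singleton]
  · rw [Set.mem_singleton_iff]; exact n15.symm
  · simp only [Set.mem_insert_iff, Set.mem_singleton_iff, not_or]; exact ⟨n13.symm, n14.symm⟩
  · simp only [Set.mem_insert_iff, Set.mem_singleton_iff, not_or]; exact ⟨n10, n11.symm, n12.symm⟩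
  · simp only [Set.mem_insert_iff, Set.mem_singleton_iff, not_or]; exact ⟨n6.symm, n7, n8.symm, n9.symm⟩
  · simp only [Set.mem_insert_iff, Set.mem_singleton_iff, not_or]
    exact ⟨n1.symm, n2.symm, n3.symm, n4.symm, n5.symm⟩

theorem card_t : Nat.card (zpowers t) = 2 := by
  rw [Nat.card_zpowers]
  exact orderOf_eq_prime (by rw [pow_two]; exact h.t2) h.t_ne

theorem index_t : (zpowers t).index = 3 := by
  have h1 := (zpowers t).card_mul_index
  rw [h.card_t, h.card_eq] at h1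
  omega

theorem xtr : XTr (zpowers t) (fun _ : Unit => (⊤ : Subgroup X)) where
  ex _ := ⟨d, mem_top _, h.d_not⟩
  tr _ x _ hx y _ hy := by
    -- `x ∈ dT ∪ d²T`
    have key : ∀ z, z ∉ zpowers t → (d⁻¹ * z ∈ zpowers t ∨ (d * d)⁻¹ * z ∈ zpowers t) := by
      intro z hz
      rcases h.not_mem_B hz with (rfl | rfl) | rfl | rfl
      · left; rw [inv_mul_cancel]; exact one_mem _
      · right; rw [inv_mul_cancel]; exact one_mem _
      · left; rw [inv_mul_cancel_left]; exact mem_zpowers _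
      · right; rw [inv_mul_cancel_left]; exact mem_zpowers _
    have htd : (t * d)⁻¹ * (d * d) ∈ zpowers t := by
      rw [h.conj]
      have e : (d * d * t)⁻¹ * (d * d) = t⁻¹ := by group
      rw [e]
      exact inv_mem (mem_zpowers _)
    have htdd : (t * (d * d))⁻¹ * d ∈ zpowers t := by
      rw [h.t_dd]
      have e : (d * t)⁻¹ * d = t⁻¹ := by group
      rw [e]
      exact inv_mem (mem_zpowers _)
    rcases key x hx with h1 | h1 <;> rcases key y hy with h2 | h2
    · refine ⟨1, one_mem _, ?_⟩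
      have e : (1 * x)⁻¹ * y = (d⁻¹ * x)⁻¹ * (d⁻¹ * y) := by group
      rw [e]; exact mul_mem (inv_mem h1) h2
    · refine ⟨t, mem_zpowers _, ?_⟩
      have e : (t * x)⁻¹ * y = (d⁻¹ * x)⁻¹ * ((t * d)⁻¹ * (d * d)) * ((d * d)⁻¹ * y) := by group
      rw [e]; exact mul_mem (mul_mem (inv_mem h1) htd) h2
    · refine ⟨t, mem_zpowers _, ?_⟩
      have e : (t * x)⁻¹ * y = ((d * d)⁻¹ * x)⁻¹ * ((t * (d * d))⁻¹ * d) * (d⁻¹ * y) := by group
      rw [e]; exact mul_mem (mul_mem (inv_mem h1) htdd) h2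
    · refine ⟨1, one_mem _, ?_⟩
      have e : (1 * x)⁻¹ * y = ((d * d)⁻¹ * x)⁻¹ * ((d * d)⁻¹ * y) := by group
      rw [e]; exact mul_mem (inv_mem h1) h2

theorem xsys : XSys (zpowers t) (zpowers t) (fun _ : Unit => (⊤ : Subgroup X)) (fun _ _ => 1) (fun _ => 2) where
  two := IsPGroup.of_card (n := 1) (by rw [h.card_t]; rfl)
  max U hU hle x hx := by
    by_contra hxB
    exact h.not_two hU (h.d_mem (hle (mem_zpowers t)) hx hxB)
  mem_B x := by
    constructor
    · intro hx s hs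
      exact mul_mem (mul_mem hx hs) (inv_mem hx)
    · intro hx
      by_contra hxB
      exact h.conj_t_not hxB (hx t (mem_zpowers t))
  BP _ := le_top
  gen := by
    rw [eq_top_iff]
    exact le_sup_of_le_right (le_iSup (fun _ : Unit => (⊤ : Subgroup X)) ())
  pol i j hij := absurd (Subsingleton.elim i j) hij
  card _ := by rw [relIndex_top_right, h.index_t]
  pan _ g hg x _ hxB hgx y _ := by
    rcases h.mem_B.1 hg with rfl | rfl
    · have e : y⁻¹ * 1 * y = 1 := by group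
      rw [e]; exact one_mem _
    · exfalso
      have hx' : x⁻¹ ∉ zpowers g := fun h1 => hxB (by have := inv_mem h1; rwa [inv_inv] at this)
      have h1 := h.conj_t_not hx'
      rw [inv_inv] at h1
      exact h1 hgx

end IsS3

/-- `S₃` from orders -/
theorem isS3_of (hd : orderOf d = 3) (ht : orderOf t = 2) (hc : t * d * t⁻¹ = d⁻¹)
    (hall : ∀ x : X, ∃ a ∈ zpowers d, ∃ b ∈ zpowers t, x = a * b) : IsS3 d t := by
  have d3 : d * d * d = 1 := by
    have := pow_orderOf_eq_one d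
    rw [hd, pow_succ, pow_two] at this
    exact this
  have t2 : t * t = 1 := by
    have := pow_orderOf_eq_one t
    rw [ht, pow_two] at this
    exact this
  have d_ne : d ≠ 1 := by
    rintro rfl
    rw [orderOf_one] at hd
    omega
  have t_ne : t ≠ 1 := by
    rintro rfl
    rw [orderOf_one] at ht
    omega
  have conj : t * d = d * d * t := by
    have h1 : t * d = d⁻¹ * t := by rw [← hc]; group
    have h2 : d⁻¹ = d * d := by
      rw [inv_eq_iff_mul_eq_one, ← mul_assoc]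
      exact d3
    rw [h1, h2]
  refine ⟨d3, d_ne, t2, t_ne, conj, fun x => ?_⟩
  obtain ⟨a, ha, b, hb, rfl⟩ := hall x
  have hd' : a = 1 ∨ a = d ∨ a = d * d := by
    obtain ⟨n, rfl⟩ := mem_zpowers_iff.1 ha
    have h3 : d ^ (3 : ℤ) = 1 := by
      have : d ^ (3 : ℕ) = 1 := by rw [← hd]; exact pow_orderOf_eq_one d
      exact_mod_cast this
    have h1 : d ^ n = d ^ (n % 3) := by
      conv_lhs => rw [← Int.emod_add_mul_ediv n 3]
      rw [zpow_add, zpow_mul, h3, one_zpow, mul_one]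
    have h2 : n % 3 = 0 ∨ n % 3 = 1 ∨ n % 3 = 2 := by omega
    rw [h1]
    rcases h2 with h2 | h2 | h2 <;> rw [h2]
    · left; exact zpow_zero d
    · right; left; exact zpow_one d
    · right; right; exact zpow_two d
  rcases (IsS3.mem_zp t2).1 hb with rfl | rfl <;> rcases hd' with rfl | rfl | rfl <;> simp

end Cfsg.Agent.Omega.EH3.RowS.XS3

end

section


/-!
# THEOREM FREE with local closure: BN-pairs with full stabilisers

The field `clo` of `Free.Sys` (every conjugate in `G` of an element of `U` which lies in `B` lies in `U`) is replaced by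
the local one (conjugation by the elements of the `P i` only).  So `B` can be the full stabiliser in `G` of a chamber
(field automorphisms and odd kernels included) and `U` its "unipotent linear" normal subgroup.

Output: `SysL.card_le` : `|U| ≤ q_{w0}`; if `|U| = q_{w0}`: `SysL.cosets`, `SysL.exists_bnPair`, `SysL.isLie`.
-/

set_option autoImplicit false

namespace Cfsg.Agent.ParSys.FreeLoc

open Cfsg.Agent.ParSys Cfsg.Agent.ParSys.Free Cfsg.Agent.Tits.Core

/-! ### Fixed galleries with a local property -/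

section spread

variable {C I : Type*} {A : I → C → C → Prop} {m : I → I → ℕ} {g : C → C}

/-- the property 'good and fixes a gallery of type `F`' spreads to the neighbours -/
theorem spread (hC : Cham A m) (hg : ∀ i c d, A i c d → A i (g c) (g d)) (hm : ∀ i j, m i j = m j i)
    {Good : C → Prop} (hgood : ∀ i c d, Good c → g c = c → g d = d → A i c d → Good d)
    (hpan : ∀ i c d e, Good c → g c = c → g d = d → A i c d → A i c e → g e = e) {F : List I}
    (hF : ∀ i, ∃ f i', Br m F (i :: f) ∧ Br m F (f ++ [i'])) {c d : C} (hcg : Good c) (h : FG A g F c d) {i : I}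
    {x : C} (hx : A i c x) : Good x ∧ ∃ d', FG A g F x d' := by
  obtain ⟨f, i', hf1, hf2⟩ := hF i
  have h1 := FG.br hC hg hf1 h
  obtain ⟨c1, ⟨hc, h2⟩, h3⟩ := fg_cons.1 h1
  have hgx : g x = x := hpan i c c1 x hcg hc h3.left h2 hx
  refine ⟨hgood i c x hcg hc hgx hx, ?_⟩
  by_cases hxc : x = c1
  · subst hxc
    have h4 := FG.br hC hg hf2 h
    obtain ⟨e, h5, h6, h7⟩ := fg_snoc.1 h4
    refine ⟨e, FG.br hC hg (hf2.symm hm) (fg_snoc.2 ⟨d, h3, hC.symm h6, h5.right⟩)⟩
  · refine ⟨d, FG.br hC hg (hf1.symm hm) (fg_cons.2 ⟨c1, ⟨hgx, hC.trans hx h2 hxc⟩, h3⟩)⟩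

/-- **THEOREM FREE (1)**, local form -/
theorem fix_all (hC : Cham A m) (hg : ∀ i c d, A i c d → A i (g c) (g d)) (hm : ∀ i j, m i j = m j i)
    {Good : C → Prop} (hgood : ∀ i c d, Good c → g c = c → g d = d → A i c d → Good d)
    (hpan : ∀ i c d e, Good c → g c = c → g d = d → A i c d → A i c e → g e = e) {F : List I}
    (hF : ∀ i, ∃ f i', Br m F (i :: f) ∧ Br m F (f ++ [i'])) {c d : C} (hcg : Good c) (h : FG A g F c d) {x : C}
    (hconn : Relation.ReflTransGen (fun y z => ∃ i, A i y z) c x) : Good x ∧ g x = x := by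
  have key : Good x ∧ ∃ d', FG A g F x d' := by
    induction hconn with
    | refl => exact ⟨hcg, d, h⟩
    | tail _ hbc ih =>
      obtain ⟨hb, d', hd'⟩ := ih
      obtain ⟨i, hi⟩ := hbc
      exact spread hC hg hm hgood hpan hF hb hd' hi
  exact ⟨key.1, key.2.choose_spec.left⟩

end spread

/-! ### The system -/

variable {G : Type*} [Group G] {I : Type*} {M : CoxeterMatrix I} {W : Type*} [Group W]

/-- The data of THEOREM FREE with local closure. -/
structure SysL (cs : CoxeterSystem M W) (B : Subgroup G) (P : I → Subgroup G) (U : Subgroup G) (q : I → ℕ) :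
    Prop where
  le : ∀ i, B ≤ P i
  gen : ⨆ i, P i = ⊤
  gp : GP B P (fun i j => M i j)
  /-- every panel has `q i + 1` chambers -/
  card : ∀ i, B.relIndex (P i) = q i + 1
  two : ∀ i, 2 ≤ q i
  U_le : U ≤ B
  /-- an element of `U` which fixes one more chamber of the panel `P i / B` fixes the panel -/
  pan : ∀ i, ∀ g ∈ U, ∀ x ∈ P i, x ∉ B → x⁻¹ * g * x ∈ B → ∀ y ∈ P i, y⁻¹ * g * y ∈ B
  /-- local closure -/
  clo : ∀ i, ∀ g ∈ U, ∀ x ∈ P i, x⁻¹ * g * x ∈ B → x⁻¹ * g * x ∈ U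
  /-- an element of `U` which lies in all conjugates of `B` is trivial -/
  core : ∀ g ∈ U, (∀ x, x⁻¹ * g * x ∈ B) → g = 1

namespace SysL

variable {cs : CoxeterSystem M W} {B : Subgroup G} {P : I → Subgroup G} {U : Subgroup G} {q : I → ℕ}
  (h : SysL cs B P U q)

include h

theorem ex (i : I) : ∃ x ∈ P i, x ∉ B := by
  by_contra hcon
  push Not at hcon
  have h1 : P i ≤ B := hcon
  have h2 := h.card i
  have h3 := h.two i
  rw [Subgroup.relIndex_eq_one.2 h1] at h2
  omega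

theorem cham : Cham (adj B P) (fun i j => M i j) := Free.cham h.le h.ex h.gp

theorem card_adj' [Finite G] (i : I) (c : G ⧸ B) : Nat.card {d // adj B P i c d} = q i := by
  have h1 := card_adj h.le i c
  rw [h.card] at h1
  omega

/-- `B` normalises `U` (if there is an index) -/
theorem norm (i : I) {b u : G} (hb : b ∈ B) (hu : u ∈ U) : b⁻¹ * u * b ∈ U :=
  h.clo i u hu b (h.le i hb) (B.mul_mem (B.mul_mem (B.inv_mem hb) (h.U_le hu)) hb)

theorem norm' (i : I) {b u : G} (hb : b ∈ B) (hu : u ∈ U) : b * u * b⁻¹ ∈ U := by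
  have := h.norm i (B.inv_mem hb) hu
  rwa [inv_inv] at this

/-- the element `u` is unipotent at the chamber `c` -/
def Good (U : Subgroup G) (B : Subgroup G) (u : G) (c : G ⧸ B) : Prop := ∃ x : G, c = (x : G ⧸ B) ∧ x⁻¹ * u * x ∈ U

theorem good_mk (i : I) {u x : G} : Good U B u (x : G ⧸ B) ↔ x⁻¹ * u * x ∈ U := by
  constructor
  · rintro ⟨y, hy, hu⟩
    rw [QuotientGroup.eq] at hy
    have h1 := h.norm' i hy hu
    have e : x⁻¹ * y * (y⁻¹ * u * y) * (x⁻¹ * y)⁻¹ = x⁻¹ * u * x := by group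
    rwa [e] at h1
  · intro hu
    exact ⟨x, rfl, hu⟩

theorem good_step {u : G} (i : I) (c d : G ⧸ B) (hc : Good U B u c) (hd : u • d = d) (hcd : adj B P i c d) :
    Good U B u d := by
  induction c using QuotientGroup.induction_on with
  | _ x =>
  induction d using QuotientGroup.induction_on with
  | _ y =>
  rw [h.good_mk i] at hc ⊢
  rw [Sys.smul_mk_eq] at hd
  rw [adj_mk h.le] at hcd
  have e : (x⁻¹ * y)⁻¹ * (x⁻¹ * u * x) * (x⁻¹ * y) = y⁻¹ * u * y := by group
  have h1 := h.clo i _ hc (x⁻¹ * y) hcd.1 (by rw [e]; exact hd)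
  rwa [e] at h1

/-- an element which is unipotent at `c` and fixes one more chamber of a panel at `c` fixes the panel -/
theorem pan' {u : G} (i : I) (c d e : G ⧸ B) (hc : Good U B u c) (hd : u • d = d)
    (hcd : adj B P i c d) (hce : adj B P i c e) : u • e = e := by
  induction c using QuotientGroup.induction_on with
  | _ x =>
  induction d using QuotientGroup.induction_on with
  | _ y =>
  induction e using QuotientGroup.induction_on with
  | _ z =>
  rw [h.good_mk i] at hc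
  rw [Sys.smul_mk_eq] at hd ⊢
  rw [adj_mk h.le] at hcd hce
  have h2 := h.pan i _ hc (x⁻¹ * y) hcd.1 hcd.2 (by
    have e : (x⁻¹ * y)⁻¹ * (x⁻¹ * u * x) * (x⁻¹ * y) = y⁻¹ * u * y := by group
    rw [e]; exact hd) (x⁻¹ * z) hce.1
  have e : (x⁻¹ * z)⁻¹ * (x⁻¹ * u * x) * (x⁻¹ * z) = z⁻¹ * u * z := by group
  rwa [e] at h2

theorem msymm (i j : I) : (fun i j => M i j) i j = (fun i j => M i j) j i := by
  have := h
  exact M.symmetric i j

/-- the words which are used: reduced words of `w0` -/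
theorem word [Finite I] [Finite W] {F : List I} (hF : cs.IsReduced F) (hw : cs.wordProd F = w0 cs) (i : I) :
    ∃ f i', Br (fun i j => M i j) F (i :: f) ∧ Br (fun i j => M i j) F (f ++ [i']) := by
  have := h
  obtain ⟨f, hf, he⟩ := cs.exists_isReduced (cs.simple i * w0 cs)
  have hlen : f.length + 1 = cs.length (w0 cs) := by
    have h1 := Tits.Exchange.length_mul_w0 cs (cs.simple i)
    rw [cs.length_simple] at h1
    have h2 : cs.length (cs.simple i * w0 cs) = f.length := by rw [he]; exact hf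
    omega
  have p1 : cs.wordProd (i :: f) = w0 cs := by
    rw [cs.wordProd_cons, ← he, ← mul_assoc, cs.simple_mul_simple_self, one_mul]
  have p2 : cs.wordProd (f ++ [op cs i]) = w0 cs := by
    rw [cs.wordProd_append, cs.wordProd_singleton, ← he, Tits.Exchange.simple_op]
    calc cs.simple i * w0 cs * (w0 cs * cs.simple i * w0 cs)
        = cs.simple i * (w0 cs * w0 cs) * cs.simple i * w0 cs := by group
      _ = w0 cs := by rw [Tits.Exchange.w0_mul_self, mul_one, cs.simple_mul_simple_self, one_mul]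
  refine ⟨f, op cs i, br_of_reduced cs hF ?_ (hw.trans p1.symm), br_of_reduced cs hF ?_ (hw.trans p2.symm)⟩
  · show cs.length (cs.wordProd (i :: f)) = (i :: f).length
    rw [p1, List.length_cons, hlen]
  · show cs.length (cs.wordProd (f ++ [op cs i])) = (f ++ [op cs i]).length
    rw [p2, List.length_append, List.length_singleton, hlen]

/-- **THEOREM FREE (1)**: `U` acts freely on the galleries of type `w0` from `B` -/
theorem free [Finite I] [Finite W] {F : List I} (hF : cs.IsReduced F) (hw : cs.wordProd F = w0 cs) {u : G}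
    (hu : u ∈ U) {l : List (G ⧸ B)} (hl : IsGal (adj B P) F ((1 : G) : G ⧸ B) l) (hfix : ∀ x ∈ l, u • x = x) :
    u = 1 := by
  have h1 : u • ((1 : G) : G ⧸ B) = ((1 : G) : G ⧸ B) := by
    rw [Sys.smul_mk_eq]
    simpa using h.U_le hu
  have hfg : FG (adj B P) (u • ·) F ((1 : G) : G ⧸ B) (l.getLastD ((1 : G) : G ⧸ B)) := ⟨h1, l, hl, hfix, rfl⟩
  apply h.core u hu
  intro x
  rw [← Sys.smul_mk_eq]
  exact (fix_all (g := (u • ·)) h.cham (fun i c d hcd => adj_smul u hcd) h.msymm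
    (Good := fun c => Good U B u c)
    (fun i c d hc _ hd hcd => h.good_step i c d hc hd hcd)
    (fun i c d e hc _ hd hcd hce => h.pan' i c d e hc hd hcd hce)
    (fun i => h.word hF hw i) ⟨1, rfl, by simpa using hu⟩ hfg (conn h.le h.gen _ _)).2

/-- **THEOREM FREE (2a)** -/
theorem card_le [Finite G] [Finite I] [Finite W] {F : List I} (hF : cs.IsReduced F)
    (hw : cs.wordProd F = w0 cs) : Nat.card U ≤ (F.map q).prod := by
  obtain ⟨l, hl⟩ := exists_isGal h.cham.ex F ((1 : G) : G ⧸ B)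
  refine Free.card_le (U := U) (A := adj B P) (fun u i c d hcd => adj_smul (u : G) hcd) h.card_adj' ?_ ?_ hl
  · intro u
    have := (Sys.smul_mk_eq (B := B) (u := u) (x := 1)).2 (by simpa using h.U_le u.2)
    exact this
  · intro u l hl hfix
    exact Subtype.ext (h.free hF hw u.2 hl hfix)

/-- transitivity on the galleries of type `w0` -/
theorem trans_w0 [Finite G] [Finite I] [Finite W] {F : List I} (hF : cs.IsReduced F)
    (hw : cs.wordProd F = w0 cs) (hcard : (F.map q).prod ≤ Nat.card U) {l l' : List (G ⧸ B)}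
    (hl : IsGal (adj B P) F ((1 : G) : G ⧸ B) l) (hl' : IsGal (adj B P) F ((1 : G) : G ⧸ B) l') :
    ∃ u : U, l' = l.map (u • ·) := by
  have hcard := le_antisymm (h.card_le hF hw) hcard
  refine Free.trans_of_card (U := U) (A := adj B P) (fun u i c d hcd => adj_smul (u : G) hcd) h.card_adj' ?_ ?_
    hcard hl hl'
  · intro u
    have := (Sys.smul_mk_eq (B := B) (u := u) (x := 1)).2 (by simpa using h.U_le u.2)
    exact this
  · intro u l hl hfix
    exact Subtype.ext (h.free hF hw u.2 hl hfix)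

/-- transitivity on the galleries of reduced type -/
theorem trans [Finite G] [Finite I] [Finite W] {F : List I} (hF : cs.IsReduced F)
    (hw : cs.wordProd F = w0 cs) (hcard : (F.map q).prod ≤ Nat.card U) {f : List I} (hf : cs.IsReduced f)
    {l l' : List (G ⧸ B)}
    (hl : IsGal (adj B P) f ((1 : G) : G ⧸ B) l) (hl' : IsGal (adj B P) f ((1 : G) : G ⧸ B) l') :
    ∃ u : U, l' = l.map (u • ·) := by
  obtain ⟨v, hv, he⟩ := cs.exists_isReduced ((cs.wordProd f)⁻¹ * w0 cs)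
  have p1 : cs.wordProd (f ++ v) = w0 cs := by
    rw [cs.wordProd_append, ← he, mul_inv_cancel_left]
  have hlen : f.length + v.length = cs.length (w0 cs) := by
    have h1 := Tits.Exchange.length_mul_w0 cs (cs.wordProd f)⁻¹
    rw [cs.length_inv, hf.eq] at h1
    have h2 : cs.length ((cs.wordProd f)⁻¹ * w0 cs) = v.length := by rw [he]; exact hv
    omega
  have hred : cs.IsReduced (f ++ v) := by
    show cs.length (cs.wordProd (f ++ v)) = (f ++ v).length
    rw [p1, List.length_append, hlen]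
  have hbr := br_of_reduced cs hF hred (hw.trans p1.symm)
  have hprod := prod_br h.cham h.msymm h.card_adj' hbr
  exact trans_prefix h.cham.ex (fun l l' hl hl' => h.trans_w0 hred p1 (hprod ▸ hcard) hl hl') hl hl'

theorem mem_D_iff [Finite I] [Finite W] {f : List I} (hf : cs.IsReduced f) {x : G} :
    x ∈ Sys.D cs B P (cs.wordProd f) ↔
      ∃ l, IsGal (adj B P) f ((1 : G) : G ⧸ B) l ∧ l.getLastD ((1 : G) : G ⧸ B) = (x : G ⧸ B) := by
  constructor
  · rintro ⟨f', hf', he, l, hl, hx⟩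
    have hfg : FG (adj B P) id f' ((1 : G) : G ⧸ B) (x : G ⧸ B) := ⟨rfl, l, hl, fun _ _ => rfl, hx⟩
    obtain ⟨-, l', hl', -, hx'⟩ := FG.br h.cham (fun i c d h => h) (br_of_reduced cs hf' hf he) hfg
    exact ⟨l', hl', hx'⟩
  · rintro ⟨l, hl, hx⟩
    exact ⟨f, hf, rfl, l, hl, hx⟩

theorem three [Finite G] (i : I) : ∃ x ∈ P i, ∃ y ∈ P i, x ∉ B ∧ y ∉ B ∧ x⁻¹ * y ∉ B := by
  have h1 := h.card_adj' i ((1 : G) : G ⧸ B)
  have h2 := h.two i
  have h3 : 1 < Nat.card {d // adj B P i ((1 : G) : G ⧸ B) d} := by omega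
  have h4 : Nontrivial {d // adj B P i ((1 : G) : G ⧸ B) d} := Finite.one_lt_card_iff_nontrivial.1 h3
  obtain ⟨⟨c, hc⟩, ⟨d, hd⟩, hne⟩ := exists_pair_ne {d // adj B P i ((1 : G) : G ⧸ B) d}
  induction c using QuotientGroup.induction_on with
  | _ x =>
  induction d using QuotientGroup.induction_on with
  | _ y =>
  rw [adj_mk h.le] at hc hd
  simp only [inv_one, one_mul] at hc hd
  refine ⟨x, hc.1, y, hd.1, hc.2, hd.2, fun hB => hne (Subtype.ext ?_)⟩
  exact QuotientGroup.eq.2 hB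

/-- **THEOREM FREE (2b)**: the Bruhat decomposition -/
theorem cosets [Finite G] [Finite I] [Finite W] {F : List I} (hF : cs.IsReduced F)
    (hw : cs.wordProd F = w0 cs) (hcard : (F.map q).prod ≤ Nat.card U) :
    Bruhat.Cosets cs B P (Sys.D cs B P) where
  single w := by
    obtain ⟨f, hf, rfl⟩ := cs.exists_isReduced w
    obtain ⟨l, hl⟩ := exists_isGal h.cham.ex f ((1 : G) : G ⧸ B)
    obtain ⟨x, hx⟩ := QuotientGroup.mk_surjective (l.getLastD ((1 : G) : G ⧸ B))
    refine ⟨x, ?_⟩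
    ext y
    rw [h.mem_D_iff hf, DoubleCoset.mem_doubleCoset]
    constructor
    · rintro ⟨l', hl', hy⟩
      obtain ⟨u, rfl⟩ := h.trans hF hw hcard hf hl hl'
      have h1 : (u : G) • ((1 : G) : G ⧸ B) = ((1 : G) : G ⧸ B) := by
        rw [Sys.smul_mk_eq]; simpa using h.U_le u.2
      have h2 := getLastD_map (fun c : G ⧸ B => (u : G) • c) ((1 : G) : G ⧸ B) l
      have h3 : (l.map (u • ·)).getLastD ((1 : G) : G ⧸ B) = (u : G) • (x : G ⧸ B) := by
        rw [hx, ← h2, h1]; rfl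
      rw [h3] at hy
      have h4 : ((u * x : G) : G ⧸ B) = (y : G ⧸ B) := hy
      rw [QuotientGroup.eq] at h4
      exact ⟨u, h.U_le u.2, _, h4, by group⟩
    · rintro ⟨a, ha, b, hb, rfl⟩
      have h1 : (a : G) • ((1 : G) : G ⧸ B) = ((1 : G) : G ⧸ B) := by
        rw [Sys.smul_mk_eq]; simpa using ha
      have h2 := hl.map (g := fun c : G ⧸ B => a • c) (fun i c d hcd => adj_smul a hcd)
      have h3 := getLastD_map (fun c : G ⧸ B => a • c) ((1 : G) : G ⧸ B) l
      simp only [h1] at h2 h3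
      refine ⟨_, h2, ?_⟩
      rw [h3, ← hx]
      have e : a • (x : G ⧸ B) = ((a * x : G) : G ⧸ B) := rfl
      rw [e, QuotientGroup.eq]
      have e' : (a * x)⁻¹ * (a * x * b) = b := by group
      rw [e']; exact hb
  one := ⟨[], by simp [CoxeterSystem.IsReduced], rfl, [], by simp, rfl⟩
  le := h.le
  up w i hlt x hx p hp hpB := by
    obtain ⟨f, hf, rfl⟩ := cs.exists_isReduced w
    obtain ⟨l, hl, hx⟩ := (h.mem_D_iff hf).1 hx
    have hred : cs.IsReduced (f ++ [i]) := by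
      show cs.length (cs.wordProd (f ++ [i])) = (f ++ [i]).length
      rw [cs.wordProd_append, cs.wordProd_singleton, List.length_append, List.length_singleton, ← hf.eq]
      rcases cs.length_mul_simple (cs.wordProd f) i with h1 | h1 <;> omega
    have e : cs.wordProd f * cs.simple i = cs.wordProd (f ++ [i]) := by
      rw [cs.wordProd_append, cs.wordProd_singleton]
    rw [e, h.mem_D_iff hred]
    refine ⟨l ++ [((x * p : G) : G ⧸ B)], hl.append ?_, ?_⟩
    · rw [hx]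
      refine ⟨?_, trivial⟩
      rw [adj_mk h.le, inv_mul_cancel_left]
      exact ⟨hp, hpB⟩
    · rw [getLastD_append]; rfl
  gen := h.gen
  three := h.three

/-- **THEOREM FREE (2b)**: the BN-pair -/
theorem exists_bnPair [Finite G] [Finite I] [Finite W] {F : List I} (hF : cs.IsReduced F)
    (hw : cs.wordProd F = w0 cs) (hcard : (F.map q).prod ≤ Nat.card U) :
    ∃ Q : Cfsg.BNPair G, Q.B = B ∧ Q.rank = Nat.card I ∧ (∃ e : I ≃ Q.S, ∀ i, (e i : G) ∈ P i) ∧
      ((∀ J : Set I, J.Nonempty → Jᶜ.Nonempty → ∃ i ∈ J, ∃ j ∈ Jᶜ, M i j ≠ 2) → Q.Irreducible) :=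
  (h.cosets hF hw hcard).exists_bnPair

end SysL

end Cfsg.Agent.ParSys.FreeLoc

end
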