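import Cfsg.Agent.Mrg.ParSys.Main
import Cfsg.Agent.Mrg.ParSys.Core
import Cfsg.Agent.FixBN.Split

section


/-!
# THEOREM PAR

`Sys p B U H P m`: a parabolic system in a finite group `G` with tori: rank one and rank two conditions only.  Then `G`
has a (B,N)-pair with Borel subgroup `B`, minimal parabolic subgroups `P i` (`Sys.exists_bnPair`).
-/

set_option autoImplicit false

namespace Cfsg.Agent.ParSys

open Subgroup

variable {G : Type*} [Group G] {I : Type*}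

/-- The kernel of the action of `M` on `M / B`. -/
def Qk (B M : Subgroup G) : Subgroup G where
  carrier := {x | ∀ g ∈ M, g⁻¹ * x * g ∈ B}
  mul_mem' := by
    intro x y hx hy g hg
    have := mul_mem (hx g hg) (hy g hg)
    have e : g⁻¹ * x * g * (g⁻¹ * y * g) = g⁻¹ * (x * y) * g := by group
    rwa [e] at this
  one_mem' := by
    intro g _
    have e : g⁻¹ * 1 * g = 1 := by group
    rw [e]; exact one_mem _
  inv_mem' := by
    intro x hx g hg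
    have := inv_mem (hx g hg)
    have e : (g⁻¹ * x * g)⁻¹ = g⁻¹ * x⁻¹ * g := by group
    rwa [e] at this

theorem mem_Qk {B M : Subgroup G} {x : G} : x ∈ Qk B M ↔ ∀ g ∈ M, g⁻¹ * x * g ∈ B := Iff.rfl

theorem Qk_le (B M : Subgroup G) : Qk B M ≤ B := fun x hx => by
  have := hx 1 (one_mem _)
  simpa using this

theorem Qk_mono {B M M' : Subgroup G} (h : M ≤ M') : Qk B M' ≤ Qk B M := fun _ hx g hg => hx g (h hg)

theorem Qk_conj {B M : Subgroup G} {x g : G} (hx : x ∈ Qk B M) (hg : g ∈ M) : g⁻¹ * x * g ∈ Qk B M := by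
  intro y hy
  have := hx (g * y) (mul_mem hg hy)
  have e : (g * y)⁻¹ * x * (g * y) = y⁻¹ * (g⁻¹ * x * g) * y := by group
  rwa [e] at this

theorem Qk_conj' {B M : Subgroup G} {x g : G} (hx : x ∈ Qk B M) (hg : g ∈ M) : g * x * g⁻¹ ∈ Qk B M := by
  have := Qk_conj hx (inv_mem hg)
  rwa [inv_inv] at this

/-- an element of `H` which centralises `U / Q i` and acts fixed-point-freely on `U / Q j` -/
def Sep (B U H : Subgroup G) (Pi Pj : Subgroup G) : Prop :=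
  ∃ h ∈ H, (∀ u ∈ U, h * u * h⁻¹ * u⁻¹ ∈ Qk B Pi) ∧ ∀ u ∈ U, h * u * h⁻¹ * u⁻¹ ∈ Qk B Pj → u ∈ Qk B Pj

/-- The form of `Sep` which is needed: if `T` covers `U / Q j`, then `T ⊓ Q i` covers `U / Q j`. -/
def SepT (B U H Pi Pj : Subgroup G) : Prop :=
  ∀ T ≤ U, H ≤ normalizer (T : Set G) → (∀ u ∈ U, ∃ t ∈ T, t⁻¹ * u ∈ Qk B Pj) →
    ∀ u ∈ U, ∃ t ∈ T, t ∈ Qk B Pi ∧ t⁻¹ * u ∈ Qk B Pj

/-- **A parabolic system with tori.** -/
structure Sys (p : ℕ) (B U H : Subgroup G) (P : I → Subgroup G) (m : I → I → ℕ) : Prop where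
  /-- `U` normal `p`-subgroup of `B`, `H` a Hall `p'`-subgroup of `U H`, `U H` normal in `B`, `B / U H` a `p`-group -/
  hall : Hall.HallData p B U H
  gen : ⨆ i, P i = ⊤
  le : ∀ i, B ≤ P i
  /-- every panel has at least three chambers -/
  three : ∀ i, ∃ x ∈ P i, ∃ y ∈ P i, x ∉ B ∧ y ∉ B ∧ x⁻¹ * y ∉ B
  /-- `U` is transitive on the panels -/
  ptr : ∀ i, Hall.HallData.PTr B U (P i)
  /-- `U` modulo the kernel is semiregular on the panels -/
  reg : ∀ i, ∀ u ∈ U, ∀ g ∈ P i, g ∉ B → g⁻¹ * u * g ∈ B → u ∈ Qk B (P i)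
  /-- `C_U(H)` acts trivially on the panels -/
  fix : ∀ i, ∀ c ∈ U, c ∈ centralizer (H : Set G) → c ∈ Qk B (P i)
  m_two : ∀ i j, i ≠ j → 2 ≤ m i j
  m_symm : ∀ i j, m i j = m j i
  /-- the residues of rank two are generalised polygons -/
  poly : ∀ i j, i ≠ j → Polygon B P i j (m i j)
  /-- `H` distinguishes the two types -/
  torus : ∀ i j, i ≠ j → SepT B U H (P i) (P j) ∨ SepT B U H (P j) (P i)
  /-- `Q i ∩ Q j` consists of non-generators of `U` modulo the kernel of the residue -/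
  frat : ∀ i j, i ≠ j → ∀ T ≤ U, H ≤ normalizer (T : Set G) →
    (∀ u ∈ U, ∃ t ∈ T, t⁻¹ * u ∈ Qk B (P i) ∧ t⁻¹ * u ∈ Qk B (P j)) →
    ∀ u ∈ U, ∃ t ∈ T, t⁻¹ * u ∈ Qk B (P i ⊔ P j)

/-- If `T` covers `U / Q` and `h` acts fixed-point-freely on `U / Q` then the commutators `[h, t]`, `t ∈ T`,
cover `U / Q`. -/
theorem cover_comm [Finite G] {U T Q : Subgroup G} {h : G} (hT : T ≤ U) (hhU : ∀ u ∈ U, h * u * h⁻¹ ∈ U)
    (hhQ : ∀ q ∈ Q, q ∈ U → h * q * h⁻¹ ∈ Q) (hQn : ∀ u ∈ U, ∀ q ∈ Q, u * q * u⁻¹ ∈ Q)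
    (hfpf : ∀ u ∈ U, h * u * h⁻¹ * u⁻¹ ∈ Q → u ∈ Q) (hcov : ∀ u ∈ U, ∃ t ∈ T, t⁻¹ * u ∈ Q) :
    ∀ u ∈ U, ∃ t ∈ T, (h * t * h⁻¹ * t⁻¹)⁻¹ * u ∈ Q := by
  classical
  -- the map induced on `U / (Q ∩ U)`
  let β : U → U := fun v => ⟨h * v * h⁻¹ * (v : G)⁻¹, mul_mem (hhU v v.2) (inv_mem v.2)⟩
  let R : Subgroup U := Q.subgroupOf U
  have hR : ∀ x : U, x ∈ R ↔ (x : G) ∈ Q := fun x => Subgroup.mem_subgroupOf
  have hwd : ∀ v w : U, v⁻¹ * w ∈ R → (β v)⁻¹ * β w ∈ R := by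
    intro v w hvw
    rw [hR] at hvw ⊢
    have hvw : (v : G)⁻¹ * w ∈ Q := hvw
    show (h * v * h⁻¹ * (v : G)⁻¹)⁻¹ * (h * w * h⁻¹ * (w : G)⁻¹) ∈ Q
    have h1 : (v : G)⁻¹ * w ∈ U := mul_mem (inv_mem v.2) w.2
    have h2 := hhQ _ hvw h1
    have h3 := mul_mem h2 (inv_mem hvw)
    have h4 := hQn v v.2 _ h3
    have e : (v : G) * (h * ((v : G)⁻¹ * w) * h⁻¹ * ((v : G)⁻¹ * w)⁻¹) * (v : G)⁻¹ =
        (h * v * h⁻¹ * (v : G)⁻¹)⁻¹ * (h * w * h⁻¹ * (w : G)⁻¹) := by group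
    rwa [e] at h4
  have hinj : ∀ v w : U, (β v)⁻¹ * β w ∈ R → v⁻¹ * w ∈ R := by
    intro v w hvw
    rw [hR] at hvw ⊢
    have hvw : (h * v * h⁻¹ * (v : G)⁻¹)⁻¹ * (h * w * h⁻¹ * (w : G)⁻¹) ∈ Q := hvw
    show (v : G)⁻¹ * w ∈ Q
    have h1 : (v : G)⁻¹ * w ∈ U := mul_mem (inv_mem v.2) w.2
    apply hfpf _ h1
    have h4 := hQn (v : G)⁻¹ (inv_mem v.2) _ hvw
    have e : (v : G)⁻¹ * ((h * v * h⁻¹ * (v : G)⁻¹)⁻¹ * (h * w * h⁻¹ * (w : G)⁻¹)) * ((v : G)⁻¹)⁻¹ =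
        h * ((v : G)⁻¹ * w) * h⁻¹ * ((v : G)⁻¹ * w)⁻¹ := by group
    rwa [e] at h4
  let γ : U ⧸ R → U ⧸ R := Quotient.map' β (fun v w hvw => by
    rw [QuotientGroup.leftRel_apply] at hvw ⊢
    exact hwd v w hvw)
  have hγ : Function.Injective γ := by
    intro x y
    induction x using QuotientGroup.induction_on with
    | H v =>
      induction y using QuotientGroup.induction_on with
      | H w =>
        intro hxy
        have h1 : ((β v : U) : U ⧸ R) = ((β w : U) : U ⧸ R) := hxy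
        rw [QuotientGroup.eq] at h1
        exact QuotientGroup.eq.2 (hinj v w h1)
  have hsur : Function.Surjective γ := Finite.surjective_of_injective hγ
  intro u hu
  obtain ⟨x, hx⟩ := hsur ((⟨u, hu⟩ : U) : U ⧸ R)
  induction x using QuotientGroup.induction_on with
  | H v =>
    obtain ⟨t, ht, htv⟩ := hcov v v.2
    have h1 : ((β v : U) : U ⧸ R) = ((⟨u, hu⟩ : U) : U ⧸ R) := hx
    rw [QuotientGroup.eq] at h1
    have h2 := hwd ⟨t, hT ht⟩ v (by rw [hR]; exact htv)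
    have h3 := mul_mem h2 h1
    rw [mul_assoc, mul_inv_cancel_left, hR] at h3
    exact ⟨t, ht, h3⟩

/-- a torus element separating the two panels -/
theorem Sep.sepT [Finite G] {p : ℕ} {B U H Pi Pj : Subgroup G} (hall : Hall.HallData p B U H) (hj : B ≤ Pj)
    (h : Sep B U H Pi Pj) : SepT B U H Pi Pj := by
  intro T hTU hTH hj'
  obtain ⟨h, hh, h1, h2⟩ := h
  have hhB := hall.H_le hh
  have hhU : ∀ u ∈ U, h * u * h⁻¹ ∈ U := fun u hu =>
    (Subgroup.mem_normalizer_iff.mp (hall.U_norm hhB) u).mp hu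
  have hhT : ∀ t ∈ T, h * t * h⁻¹ ∈ T := fun t ht =>
    (Subgroup.mem_normalizer_iff.mp (hTH hh) t).mp ht
  have key := cover_comm (Q := Qk B Pj) hTU hhU (fun q hq _ => Qk_conj' hq (hj hhB))
    (fun u hu q hq => Qk_conj' hq (hj (hall.U_le hu))) h2 hj'
  intro u hu
  obtain ⟨t, ht, h3⟩ := key u hu
  exact ⟨h * t * h⁻¹ * t⁻¹, mul_mem (hhT t ht) (inv_mem ht), h1 t (hTU ht), h3⟩

theorem ag_mul_Qk {B M : Subgroup G} {n : I → G} {t s k : G} {f : List I} {l : List G} (hk : k ∈ Qk B M)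
    (hn : ∀ i ∈ f, n i ∈ M) (hA : Ag B n (t * k) s f l) : Ag B n t s f l := by
  have key : ∀ {x y z : G}, x ∈ Qk B M → (y * x)⁻¹ * z ∈ B → y⁻¹ * z ∈ B := fun {x y z} hx h1 => by
    have := mul_mem (Qk_le B M hx) h1
    have e : x * ((y * x)⁻¹ * z) = y⁻¹ * z := by group
    rwa [e] at this
  induction f generalizing t s l k with
  | nil => exact key hk hA
  | cons i f ih =>
    cases l with
    | nil => exact hA.elim
    | cons x l =>
      refine ⟨key hk hA.1, ?_⟩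
      have h2 : Ag B n (t * k * n i) (s * x) f l := hA.2
      have e : t * k * n i = t * n i * ((n i)⁻¹ * k * n i) := by group
      rw [e] at h2
      exact ih (Qk_conj hk (hn i (by simp))) (fun j hj => hn j (by simp [hj])) h2

theorem mem_alt {a b i : I} {k : ℕ} (h : i ∈ alt a b k) : i = a ∨ i = b := by
  induction k generalizing a b with
  | zero => simp at h
  | succ k ih =>
    rw [alt_cons, List.mem_cons] at h
    rcases h with h | h
    · exact Or.inl h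
    · exact (ih h).symm

namespace Sys

variable {p : ℕ} {B U H : Subgroup G} {P : I → Subgroup G} {m : I → I → ℕ} (S : Sys p B U H P m)

include S

theorem Qk_normU (i : I) {u q : G} (hu : u ∈ U) (hq : q ∈ Qk B (P i)) : u * q * u⁻¹ ∈ Qk B (P i) :=
  Qk_conj' hq (S.le i (S.hall.U_le hu))

variable [Finite G] [Fact p.Prime]

/-- `B = U N_B(H)` -/
theorem exists_mul {b : G} (hb : b ∈ B) : ∃ u ∈ U, ∃ h ∈ B ⊓ normalizer (H : Set G), b = u * h := by
  open Pointwise in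
  obtain ⟨u, hu, h⟩ := S.hall.conj (K := MulAut.conj b • H) (by
    intro x hx
    rw [Subgroup.mem_smul_pointwise_iff_exists] at hx
    obtain ⟨a, ha, rfl⟩ := hx
    rw [MulAut.smul_def, MulAut.conj_apply]
    exact mul_mem (mul_mem hb (S.hall.H_le ha)) (inv_mem hb))
    (Nat.card_congr (Subgroup.equivSMul (MulAut.conj b) H).symm.toEquiv)
  refine ⟨u, hu, u⁻¹ * b, mem_inf.2 ⟨mul_mem (inv_mem (S.hall.U_le hu)) hb, ?_⟩, by group⟩
  open Pointwise in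
  have h2 : MulAut.conj (u⁻¹ * b) • H = H := by
    rw [map_mul, mul_smul, ← h, ← mul_smul, ← map_mul, inv_mul_cancel, map_one, one_smul]
  have h3 : ∀ x : G, MulAut.conj (u⁻¹ * b) • H = H → ∀ y ∈ H, (u⁻¹ * b) * y * (u⁻¹ * b)⁻¹ ∈ H := by
    intro _ h4 y hy
    have := Subgroup.smul_mem_pointwise_smul y (MulAut.conj (u⁻¹ * b)) H hy
    rw [h4] at this
    exact this
  rw [Subgroup.mem_normalizer_iff]
  intro y
  refine ⟨h3 1 h2 y, fun hy => ?_⟩
  rw [← h2, Subgroup.mem_smul_pointwise_iff_exists] at hy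
  obtain ⟨z, hz, hzy⟩ := hy
  rw [MulAut.smul_def, MulAut.conj_apply] at hzy
  have : z = y := by
    have h5 := congrArg (fun w => (u⁻¹ * b)⁻¹ * w * (u⁻¹ * b)) hzy
    have e1 : (u⁻¹ * b)⁻¹ * ((u⁻¹ * b) * z * (u⁻¹ * b)⁻¹) * (u⁻¹ * b) = z := by group
    have e2 : (u⁻¹ * b)⁻¹ * ((u⁻¹ * b) * y * (u⁻¹ * b)⁻¹) * (u⁻¹ * b) = y := by group
    rw [← e1, ← e2]; exact h5
  rwa [← this]

/-- two `H`-fixed chambers `≠ B` of a panel coincide -/
theorem panel_unique (i : I) {g g' : G} (hg : g ∈ P i) (hgB : g ∉ B) (hg' : g' ∈ P i) (hgB' : g' ∉ B)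
    (hfix : ∀ a ∈ H, g⁻¹ * a * g ∈ B) (hfix' : ∀ a ∈ H, g'⁻¹ * a * g' ∈ B) : g⁻¹ * g' ∈ B := by
  obtain ⟨u, hu, b, hb, he⟩ := S.ptr i g hg hgB g' hg' hgB'
  obtain ⟨c, hcU, hcC, hc⟩ := S.hall.fixed_trans (X := G ⧸ B) ((g : G) : G ⧸ B) ((g' : G) : G ⧸ B) (by
      intro a ha
      change ((a * g : G) : G ⧸ B) = _
      refine (QuotientGroup.eq.mpr ?_).symm
      rw [← mul_assoc]
      exact hfix a ha) (by
      intro a ha
      change ((a * g' : G) : G ⧸ B) = _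
      refine (QuotientGroup.eq.mpr ?_).symm
      rw [← mul_assoc]
      exact hfix' a ha) hu (by
      change ((u * g : G) : G ⧸ B) = _
      rw [he]
      exact (QuotientGroup.mk_mul_of_mem _ hb).symm)
  have h1 : ((c * g : G) : G ⧸ B) = ((g' : G) : G ⧸ B) := hc
  have h2 := QuotientGroup.eq.1 h1
  have h3 := S.fix i c hcU hcC g hg
  have h4 := mul_mem h3 h2
  have e : g⁻¹ * c * g * ((c * g)⁻¹ * g') = g⁻¹ * g' := by group
  rwa [e] at h4

omit S [Finite G] [Fact p.Prime] in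
theorem norm_conj_mem {n a : G} (hn : n ∈ normalizer (H : Set G)) (ha : a ∈ H) : n⁻¹ * a * n ∈ H := by
  have := (Subgroup.mem_normalizer_iff.mp (inv_mem hn) a).mp ha
  simpa using this

theorem conj_mem (i : I) {n : G} (hn : n ∈ P i) (hnB : n ∉ B) (hnH : n ∈ normalizer (H : Set G)) {y : G}
    (hy : y ∈ B) (hyH : y ∈ normalizer (H : Set G)) : n⁻¹ * y * n ∈ B := by
  have h1 : ∀ a ∈ H, n⁻¹ * a * n ∈ B := fun a ha => S.hall.H_le (norm_conj_mem hnH ha)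
  have h2 : ∀ a ∈ H, (y * n)⁻¹ * a * (y * n) ∈ B := by
    intro a ha
    have : (y * n)⁻¹ * a * (y * n) = n⁻¹ * (y⁻¹ * a * y) * n := by group
    rw [this]
    exact h1 _ (norm_conj_mem hyH ha)
  have h3 : y * n ∉ B := fun h => hnB (by simpa using B.mul_mem (B.inv_mem hy) h)
  have := S.panel_unique i hn hnB ((P i).mul_mem (S.le i hy) hn) h3 h1 h2
  rwa [← mul_assoc] at this

theorem conj_mem' (i : I) {n : G} (hn : n ∈ P i) (hnB : n ∉ B) (hnH : n ∈ normalizer (H : Set G)) {y : G}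
    (hy : y ∈ B) (hyH : y ∈ normalizer (H : Set G)) : n * y * n⁻¹ ∈ B := by
  have := S.conj_mem i ((P i).inv_mem hn) (fun h => hnB (by simpa using B.inv_mem h))
    (Subgroup.inv_mem _ hnH) hy hyH
  simpa using this

theorem sq_mem (i : I) {n : G} (hn : n ∈ P i) (hnB : n ∉ B) (hnH : n ∈ normalizer (H : Set G)) :
    n * n ∈ B := by
  by_contra hnn
  have h1 : ∀ a ∈ H, n⁻¹ * a * n ∈ B := fun a ha => S.hall.H_le (norm_conj_mem hnH ha)
  have h2 : ∀ a ∈ H, (n * n)⁻¹ * a * (n * n) ∈ B := by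
    intro a ha
    have : (n * n)⁻¹ * a * (n * n) = n⁻¹ * (n⁻¹ * a * n) * n := by group
    rw [this]
    exact h1 _ (norm_conj_mem hnH ha)
  have := S.panel_unique i hn hnB ((P i).mul_mem hn hn) hnn h1 h2
  exact hnB (by simpa using this)

theorem exists_n (i : I) : ∃ n ∈ P i, n ∉ B ∧ n ∈ normalizer (H : Set G) := by
  obtain ⟨x, hx, _, _, hxB, _⟩ := S.three i
  exact S.hall.exists_n (S.le i) ⟨x, hx, hxB⟩ (S.ptr i)

omit [Finite G] [Fact p.Prime] in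
/-- the covering step of (G1) -/
theorem cover_of_pan {n : I → G} (hn : ∀ i, n i ∈ P i) (hnB : ∀ i, n i ∉ B) {T : Subgroup G} (hTU : T ≤ U)
    {i : I} (hT : Pan B P n T i) : ∀ u ∈ U, ∃ t ∈ T, t⁻¹ * u ∈ Qk B (P i) := by
  intro u hu
  have hx : u * n i ∈ P i := mul_mem (S.le i (S.hall.U_le hu)) (hn i)
  have hxB : u * n i ∉ B := fun h => hnB i (by
    have := mul_mem (inv_mem (S.hall.U_le hu)) h
    rwa [inv_mul_cancel_left] at this)
  obtain ⟨t, ht, h1⟩ := hT _ hx hxB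
  refine ⟨t, ht, S.reg i _ (mul_mem (inv_mem (hTU ht)) hu) (n i) (hn i) (hnB i) ?_⟩
  have e : (n i)⁻¹ * (t⁻¹ * u) * n i = (t * n i)⁻¹ * (u * n i) := by group
  rwa [e]

omit [Finite G] [Fact p.Prime] in
theorem cover_inf {i j : I} (hij : SepT B U H (P i) (P j)) {T : Subgroup G} (hTU : T ≤ U)
    (hTH : H ≤ normalizer (T : Set G)) (hi : ∀ u ∈ U, ∃ t ∈ T, t⁻¹ * u ∈ Qk B (P i))
    (hj : ∀ u ∈ U, ∃ t ∈ T, t⁻¹ * u ∈ Qk B (P j)) :
    ∀ u ∈ U, ∃ t ∈ T, t⁻¹ * u ∈ Qk B (P i) ∧ t⁻¹ * u ∈ Qk B (P j) := by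
  intro u hu
  obtain ⟨t, ht, htu⟩ := hi u hu
  obtain ⟨t', ht', h1, h3⟩ := hij T hTU hTH hj (t⁻¹ * u) (mul_mem (inv_mem (hTU ht)) hu)
  refine ⟨t * t', mul_mem ht ht', ?_, ?_⟩
  · have e : (t * t')⁻¹ * u = t'⁻¹ * (t⁻¹ * u) := by group
    rw [e]
    exact mul_mem (inv_mem h1) htu
  · have e : (t * t')⁻¹ * u = t'⁻¹ * (t⁻¹ * u) := by group
    rw [e]; exact h3

/-- **(G1)** -/
theorem g1 {n : I → G} (hn : ∀ i, n i ∈ P i) (hnB : ∀ i, n i ∉ B)
    (hnH : ∀ i, n i ∈ normalizer (H : Set G)) {i j : I} (hij : i ≠ j) {T : Subgroup G}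
    (hT : Hall.HallData.Adm U H T) (hi : Pan B P n T i) (hj : Pan B P n T j) :
    Tr B P n T (alt i j (m i j)) := by
  have hTU := hT.1
  have hTB : T ≤ B := hTU.trans S.hall.U_le
  have hU := (S.poly i j hij).tr (n := n) S.le hn hnB S.hall.U_le (inf_le_left : B ⊓ normalizer (H : Set G) ≤ B)
    (fun i h hh => mem_inf.2 ⟨S.conj_mem i (hn i) (hnB i) (hnH i) (mem_inf.1 hh).1 (mem_inf.1 hh).2,
      by
        have h1 := mul_mem (mul_mem (inv_mem (hnH i)) (mem_inf.1 hh).2) (hnH i)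
        exact h1⟩)
    (fun y hy => S.exists_mul hy)
  have hci := S.cover_of_pan hn hnB hTU hi
  have hcj := S.cover_of_pan hn hnB hTU hj
  have hc : ∀ u ∈ U, ∃ t ∈ T, t⁻¹ * u ∈ Qk B (P i) ∧ t⁻¹ * u ∈ Qk B (P j) := by
    rcases S.torus i j hij with h | h
    · exact S.cover_inf h hTU hT.2 hci hcj
    · intro u hu
      obtain ⟨t, ht, h1, h2⟩ := S.cover_inf h hTU hT.2 hcj hci u hu
      exact ⟨t, ht, h2, h1⟩
  have hk := S.frat i j hij T hTU hT.2 hc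
  rw [tr_iff S.le hn hnB U S.hall.U_le] at hU
  rw [tr_iff S.le hn hnB T hTB]
  intro l hl
  obtain ⟨u, hu, hA⟩ := hU l hl
  obtain ⟨t, ht, h1⟩ := hk u hu
  refine ⟨t, ht, ag_mul_Qk h1 ?_ (by rw [mul_inv_cancel_left]; exact hA)⟩
  intro k hk
  rcases mem_alt hk with rfl | rfl
  · exact (le_sup_left : P _ ≤ _) (hn _)
  · exact (le_sup_right : P _ ≤ _) (hn _)

omit S [Finite G] [Fact p.Prime] in
theorem norm_nw {n : I → G} (hnH : ∀ i, n i ∈ normalizer (H : Set G)) (f : List I) :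
    nw n f ∈ normalizer (H : Set G) := by
  induction f with
  | nil => exact one_mem _
  | cons i f ih => rw [nw_cons]; exact mul_mem (hnH i) ih

theorem conj_nw {n : I → G} (hn : ∀ i, n i ∈ P i) (hnB : ∀ i, n i ∉ B)
    (hnH : ∀ i, n i ∈ normalizer (H : Set G)) (f : List I) {y : G} (hy : y ∈ B ⊓ normalizer (H : Set G)) :
    (nw n f)⁻¹ * y * nw n f ∈ B ⊓ normalizer (H : Set G) := by
  induction f generalizing y with
  | nil => simpa using hy
  | cons i f ih =>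
    have h1 : (n i)⁻¹ * y * n i ∈ B ⊓ normalizer (H : Set G) :=
      mem_inf.2 ⟨S.conj_mem i (hn i) (hnB i) (hnH i) (mem_inf.1 hy).1 (mem_inf.1 hy).2,
        mul_mem (mul_mem (inv_mem (hnH i)) (mem_inf.1 hy).2) (hnH i)⟩
    have h2 := ih h1
    have e : (nw n (i :: f))⁻¹ * y * nw n (i :: f) = (nw n f)⁻¹ * ((n i)⁻¹ * y * n i) * nw n f := by
      rw [nw_cons]; group
    rw [e]; exact h2

theorem braid {n : I → G} (hn : ∀ i, n i ∈ P i) (hnB : ∀ i, n i ∉ B)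
    (hnH : ∀ i, n i ∈ normalizer (H : Set G)) {i j : I} (hij : i ≠ j) :
    (nw n (alt i j (m i j)))⁻¹ * nw n (alt j i (m i j)) ∈ B ⊓ normalizer (H : Set G) := by
  set g := nw n (alt i j (m i j)) with hg
  set g' := nw n (alt j i (m i j)) with hg'
  have hgH : g ∈ normalizer (H : Set G) := norm_nw hnH _
  have hgH' : g' ∈ normalizer (H : Set G) := norm_nw hnH _
  obtain ⟨y, hy, h1⟩ := (S.poly i j hij).swap_std (n := n) hn hnB
  rw [← hg, ← hg'] at h1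
  obtain ⟨u, hu, h, hh, rfl⟩ := S.exists_mul hy
  have h2 : (u * g)⁻¹ * g' ∈ B := by
    have h3 := S.conj_nw hn hnB hnH (alt i j (m i j)) hh
    rw [← hg] at h3
    have h4 := mul_mem (mem_inf.1 h3).1 h1
    have e : g⁻¹ * h * g * ((u * h * g)⁻¹ * g') = (u * g)⁻¹ * g' := by group
    rwa [e] at h4
  obtain ⟨c, hcU, hcC, hc⟩ := S.hall.fixed_trans (X := G ⧸ B) ((g : G) : G ⧸ B) ((g' : G) : G ⧸ B) (by
      intro a ha
      change ((a * g : G) : G ⧸ B) = _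
      refine (QuotientGroup.eq.mpr ?_).symm
      rw [← mul_assoc]
      exact S.hall.H_le (norm_conj_mem hgH ha)) (by
      intro a ha
      change ((a * g' : G) : G ⧸ B) = _
      refine (QuotientGroup.eq.mpr ?_).symm
      rw [← mul_assoc]
      exact S.hall.H_le (norm_conj_mem hgH' ha)) hu (by
      change ((u * g : G) : G ⧸ B) = _
      exact QuotientGroup.eq.2 h2)
  have h5 : ((c * g : G) : G ⧸ B) = ((g' : G) : G ⧸ B) := hc
  have h6 := QuotientGroup.eq.1 h5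
  have hcN : c ∈ normalizer (H : Set G) := by
    rw [Subgroup.mem_normalizer_iff]
    intro y
    rw [Subgroup.mem_centralizer_iff] at hcC
    constructor
    · intro hy
      have := hcC y hy
      rwa [← this, mul_inv_cancel_right]
    · intro hy
      have := hcC _ hy
      have e : y = c⁻¹ * (c * y * c⁻¹ * c) := by group
      rw [e, this]
      have e2 : c⁻¹ * (c * (c * y * c⁻¹)) = c * y * c⁻¹ := by group
      rw [e2]
      exact hy
  have h7 : c ∈ B ⊓ normalizer (H : Set G) := mem_inf.2 ⟨S.hall.U_le hcU, hcN⟩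
  have h8 := S.conj_nw hn hnB hnH (alt i j (m i j)) h7
  rw [← hg] at h8
  have h9 : (c * g)⁻¹ * g' ∈ B ⊓ normalizer (H : Set G) :=
    mem_inf.2 ⟨h6, mul_mem (inv_mem (mul_mem hcN hgH)) hgH'⟩
  have h10 := mul_mem h8 h9
  have e : g⁻¹ * c * g * ((c * g)⁻¹ * g') = g⁻¹ * g' := by group
  rwa [e] at h10

/-- **THEOREM PAR**: the data of the abstract core. -/
theorem data : ∃ n : I → G, (∀ i, n i ∈ normalizer (H : Set G)) ∧
    Data B P n (B ⊓ normalizer (H : Set G)) U m (Hall.HallData.Adm U H) := by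
  choose n hn hnB hnH using S.exists_n
  refine ⟨n, hnH, ?_⟩
  have hB' : ∀ {g : G}, g ∉ B → g⁻¹ ∉ B := fun {g} h h' => h (by simpa using inv_mem h')
  exact {
    le := S.le
    gen := S.gen
    n_mem := hn
    n_not := hnB
    H_le := inf_le_left
    conj := fun i h hh => mem_inf.2 ⟨S.conj_mem' i (hn i) (hnB i) (hnH i) (mem_inf.1 hh).1 (mem_inf.1 hh).2,
      mul_mem (mul_mem (hnH i) (mem_inf.1 hh).2) (inv_mem (hnH i))⟩
    conj' := fun i h hh => mem_inf.2 ⟨S.conj_mem i (hn i) (hnB i) (hnH i) (mem_inf.1 hh).1 (mem_inf.1 hh).2,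
      mul_mem (mul_mem (inv_mem (hnH i)) (mem_inf.1 hh).2) (hnH i)⟩
    sq := fun i => mem_inf.2 ⟨S.sq_mem i (hn i) (hnB i) (hnH i), mul_mem (hnH i) (hnH i)⟩
    three := by
      intro i
      obtain ⟨x, hx, y, hy, hxB, hyB, hxy⟩ := S.three i
      by_cases h : (n i)⁻¹ * x ∈ B
      · refine ⟨y, hy, hyB, fun h' => hxy ?_⟩
        have := mul_mem (inv_mem h) h'
        have e : ((n i)⁻¹ * x)⁻¹ * ((n i)⁻¹ * y) = x⁻¹ * y := by group
        rwa [e] at this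
      · exact ⟨x, hx, hxB, h⟩
    m_two := S.m_two
    m_symm := S.m_symm
    braid := fun i j hij => S.braid hn hnB hnH hij
    unq := fun i j hij => (S.poly i j hij).unq S.le hn hnB
    U_le := S.hall.U_le
    adm_U := ⟨le_rfl, S.hall.H_norm_U⟩
    adm_le := fun T hT => hT.1
    adm_stp := fun T i hT => S.hall.adm_stp hT (hnH i)
    pan := by
      intro i x hx hxB
      obtain ⟨u, hu, b, hb, h⟩ := S.ptr i (n i) (hn i) (hnB i) x hx hxB
      refine ⟨u, hu, ?_⟩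
      rw [h]
      have e : (u * n i)⁻¹ * (u * n i * b) = b := by group
      rw [e]; exact hb
    g1 := fun i j hij T hT hi hj => S.g1 hn hnB hnH hij hT hi hj }

/-- **THEOREM PAR**: `G` has a (B,N)-pair with Borel subgroup `B`, of rank `|I|`. -/
theorem exists_bnPair : ∃ Q : Cfsg.BNPair G, Q.B = B ∧ Q.rank = Nat.card I ∧
    ((∀ J : Set I, J.Nonempty → Jᶜ.Nonempty → ∃ i ∈ J, ∃ j ∈ Jᶜ, 3 ≤ m i j) → Q.Irreducible) := by
  obtain ⟨n, -, D⟩ := S.data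
  exact ⟨D.bnPair, rfl, D.rank_bnPair, D.irreducible⟩

end Sys

end Cfsg.Agent.ParSys

end

section


/-!
# Lie pairs: a residue of type `{i, j}` whose quotient is a group with a split (B,N)-pair of rank two

`LiePair`: `φ` is a homomorphism from the residue `P i ⊔ P j` onto `L` with kernel in `B`, `E` is (embedded as) a
subgroup of `L` with a split (B,N)-pair of characteristic 2 and rank two, `L = E φ(B)`, `φ(U)` is the unipotent subgroup.
-/

set_option autoImplicit false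

namespace Cfsg.Agent.ParSys

open Subgroup
open Cfsg.Agent.Schreier.BNSch (Node)
open Cfsg.Agent.LieExceptional.BNPairCore

variable {G : Type*} [Group G] {I : Type*} {L E : Type*} [Group L] [Group E]

/-- The residue of type `{i, j}` is a group of Lie type of rank two (split (B,N)-pair of characteristic `p`) extended by
torus elements and field automorphisms. -/
structure LiePair (p : ℕ) (B U : Subgroup G) (P : I → Subgroup G) (i j : I) (φ : ↥(P i ⊔ P j) →* L) (ε : E →* L)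
    (Q : Cfsg.BNPair E) (UE : Subgroup E) (s t : E) : Prop where
  le : ∀ a, B ≤ P a
  surj : Function.Surjective φ
  ker : ∀ x, φ x = 1 → (x : G) ∈ B
  inj : Function.Injective ε
  split : FixBN.Split Q p UE
  S : Q.S = {s, t}
  ne : s ≠ t
  U_le : U ≤ B
  /-- `φ(U) ≤ ε(U_E)` -/
  U_to : ∀ u : ↥(P i ⊔ P j), (u : G) ∈ U → ∃ e ∈ UE, φ u = ε e
  /-- `ε(U_E) ≤ φ(U)` -/
  U_of : ∀ e ∈ UE, ∃ u : ↥(P i ⊔ P j), (u : G) ∈ U ∧ φ u = ε e
  /-- the Borel subgroup of `E` is contained in `φ(B)` -/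
  B_of : ∀ e ∈ Q.B, ∃ b : ↥(P i ⊔ P j), (b : G) ∈ B ∧ φ b = ε e
  /-- `B` normalises `U` -/
  norm : ∀ b ∈ B, ∀ u ∈ U, b * u * b⁻¹ ∈ U
  /-- `L = E φ(B)` -/
  cov : ∀ y : L, ∃ e : E, ∃ b : ↥(P i ⊔ P j), (b : G) ∈ B ∧ y = ε e * φ b
  /-- `U` is transitive on the panels -/
  ptr : ∀ a, a = i ∨ a = j → Hall.HallData.PTr B U (P a)
  lt : ∀ a, a = i ∨ a = j → ∃ x ∈ P a, x ∉ B
  inf : P i ⊓ P j ≤ B

/-- (F1): `V_s ∩ V_t` consists of non-generators of the unipotent group. -/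
def FOne (Q : Cfsg.BNPair E) (UE : Subgroup E) (s t : E) : Prop :=
  ∀ T : Subgroup E, T ≤ UE →
    (∀ e ∈ UE, ∃ x ∈ T, s⁻¹ * (x⁻¹ * e) * s ∈ Q.B ∧ t⁻¹ * (x⁻¹ * e) * t ∈ Q.B) → UE ≤ T

namespace LiePair

variable {p : ℕ} {B U : Subgroup G} {P : I → Subgroup G} {i j : I} {φ : ↥(P i ⊔ P j) →* L} {ε : E →* L}
  {Q : Cfsg.BNPair E} {UE : Subgroup E} {s t : E}

/-- the image of `B` -/
def BL (φ : ↥(P i ⊔ P j) →* L) (B : Subgroup G) : Subgroup L := (B.subgroupOf (P i ⊔ P j)).map φ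

/-- the subgroups of `E` corresponding to the `P a` -/
def PE (φ : ↥(P i ⊔ P j) →* L) (ε : E →* L) (a : I) : Subgroup E := (BL φ (P a)).comap ε

theorem mem_PE {φ : ↥(P i ⊔ P j) →* L} {ε : E →* L} {a : I} {e : E} : e ∈ PE φ ε a ↔ ε e ∈ BL φ (P a) := Iff.rfl

variable (h : LiePair p B U P i j φ ε Q UE s t)
include h

theorem hs : s ∈ Q.S := by rw [h.S]; simp

theorem ht : t ∈ Q.S := by rw [h.S]; simp

theorem mem_BL {x : ↥(P i ⊔ P j)} : (x : G) ∈ B ↔ φ x ∈ BL φ B := by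
  constructor
  · intro hx
    exact ⟨x, mem_subgroupOf.2 hx, rfl⟩
  · rintro ⟨y, hy, e⟩
    have h1 : φ (y⁻¹ * x) = 1 := by rw [map_mul, map_inv, e, inv_mul_cancel]
    have h2 := h.ker _ h1
    have h3 := mul_mem (mem_subgroupOf.1 hy) h2
    have e2 : (y : G) * ((y⁻¹ * x : ↥(P i ⊔ P j)) : G) = x := by
      rw [coe_mul, coe_inv, mul_inv_cancel_left]
    rwa [e2] at h3

theorem mem_PL (a : I) {x : ↥(P i ⊔ P j)} : (x : G) ∈ P a ↔ φ x ∈ BL φ (P a) := by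
  constructor
  · intro hx
    exact ⟨x, mem_subgroupOf.2 hx, rfl⟩
  · rintro ⟨y, hy, e⟩
    have h1 : φ (y⁻¹ * x) = 1 := by rw [map_mul, map_inv, e, inv_mul_cancel]
    have h2 := h.le a (h.ker _ h1)
    have h3 := mul_mem (mem_subgroupOf.1 hy) h2
    have e2 : (y : G) * ((y⁻¹ * x : ↥(P i ⊔ P j)) : G) = x := by
      rw [coe_mul, coe_inv, mul_inv_cancel_left]
    rwa [e2] at h3

theorem BL_le (a : I) : BL φ B ≤ BL φ (P a) := by
  rintro _ ⟨x, hx, rfl⟩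
  exact ⟨x, mem_subgroupOf.2 (h.le a (mem_subgroupOf.1 hx)), rfl⟩

theorem mem_QB [Finite E] {e : E} : e ∈ Q.B ↔ ε e ∈ BL φ B := by
  constructor
  · intro he
    obtain ⟨b, hb, e1⟩ := h.B_of e he
    exact ⟨b, mem_subgroupOf.2 hb, e1⟩
  · rintro ⟨b, hb, e1⟩
    have hb : (b : G) ∈ B := mem_subgroupOf.1 hb
    rw [← h.split.normalizer_eq]
    have key : ∀ (b : ↥(P i ⊔ P j)) (e : E), (b : G) ∈ B → φ b = ε e → ∀ u ∈ UE, e * u * e⁻¹ ∈ UE := by
      intro b e hb e1 u hu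
      obtain ⟨x, hx, e2⟩ := h.U_of u hu
      obtain ⟨u', hu', e3⟩ := h.U_to (b * x * b⁻¹) (by
        rw [coe_mul, coe_mul, coe_inv]
        exact h.norm _ hb _ hx)
      have e4 : ε (e * u * e⁻¹) = ε u' := by
        rw [← e3]
        simp only [map_mul, map_inv, e1, e2]
      rw [h.inj e4]
      exact hu'
    rw [mem_normalizer_iff]
    intro u
    refine ⟨fun hu => key b e hb e1 u hu, fun hu => ?_⟩
    have h2 := key b⁻¹ e⁻¹ (by rw [coe_inv]; exact inv_mem hb) (by rw [map_inv, map_inv, e1]) _ hu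
    have e5 : e⁻¹ * (e * u * e⁻¹) * e⁻¹⁻¹ = u := by group
    rwa [e5] at h2

theorem QB_le [Finite E] (a : I) : Q.B ≤ PE φ ε a := fun _ he => h.BL_le a (h.mem_QB.1 he)

theorem le_sup (a : I) (ha : a = i ∨ a = j) : P a ≤ P i ⊔ P j := by
  rcases ha with rfl | rfl
  · exact le_sup_left
  · exact le_sup_right

/-- `P a = E_a B` -/
theorem exists_PE {a : I} {y : L} (hy : y ∈ BL φ (P a)) : ∃ e ∈ PE φ ε a, ∃ c ∈ BL φ B, y = ε e * c := by
  obtain ⟨e, b, hb, rfl⟩ := h.cov y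
  have hb' : φ b ∈ BL φ B := ⟨b, mem_subgroupOf.2 hb, rfl⟩
  refine ⟨e, ?_, φ b, hb', rfl⟩
  rw [mem_PE]
  have := mul_mem hy (inv_mem (h.BL_le a hb'))
  rwa [mul_inv_cancel_right] at this

theorem not_both [Finite E] {a : I} (ha : a = i ∨ a = j) (h1 : s ∈ PE φ ε a) (h2 : t ∈ PE φ ε a) : False := by
  obtain ⟨x, hx, e1⟩ := mem_PE.1 h1
  obtain ⟨y, hy, e2⟩ := mem_PE.1 h2
  have hxB : (x : G) ∉ B := fun h3 => Cfsg.Agent.Schreier.BNSch.not_mem_B Q h.hs (h.mem_QB.2 (e1 ▸ h.mem_BL.1 h3))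
  have hyB : (y : G) ∉ B := fun h3 => Cfsg.Agent.Schreier.BNSch.not_mem_B Q h.ht (h.mem_QB.2 (e2 ▸ h.mem_BL.1 h3))
  obtain ⟨u, hu, b, hb, h3⟩ := h.ptr a ha x (mem_subgroupOf.1 hx) hxB y (mem_subgroupOf.1 hy) hyB
  have huM : u ∈ P i ⊔ P j := le_sup_left (a := P i) (h.le i (h.U_le hu))
  obtain ⟨v, hv, e3⟩ := h.U_to ⟨u, huM⟩ hu
  have h4 : φ ((⟨u, huM⟩ * x)⁻¹ * y) ∈ BL φ B := h.mem_BL.1 (by
    rw [coe_mul, coe_inv, coe_mul, h3]
    have e : (u * (x : G))⁻¹ * (u * x * b) = b := by group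
    rw [e]; exact hb)
  have h5 : ε ((v * s)⁻¹ * t) ∈ BL φ B := by
    have e4 : φ ((⟨u, huM⟩ * x)⁻¹ * y) = ε ((v * s)⁻¹ * t) := by
      simp only [map_mul, map_inv, e1, e2, e3]
    rwa [e4] at h4
  have h6 := h.mem_QB.2 h5
  have h7 : t ∈ C Q s := mem_C.2 ⟨v, h.split.le hv, (v * s)⁻¹ * t, h6, by group⟩
  exact h.ne (Q.inj s h.hs t h.ht (rel_of_C_eq (mem_N h.hs) (mem_N h.ht) (C_eq_of_mem h7).symm))

theorem PE_cases [Finite E] {a : I} (ha : a = i ∨ a = j) :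
    (PE φ ε a = Q.parabolic {s} ∧ t ∉ PE φ ε a) ∨ (PE φ ε a = Q.parabolic {t} ∧ s ∉ PE φ ε a) := by
  have h1 := eq_parabolic (h.QB_le a)
  have h2 : Q.S ∩ (PE φ ε a : Set E) ≠ ∅ := by
    intro h3
    obtain ⟨x, hx, hxB⟩ := h.lt a ha
    have hxM := h.le_sup a ha hx
    obtain ⟨e, he, c, hc, e1⟩ := h.exists_PE ((h.mem_PL a (x := ⟨x, hxM⟩)).1 hx)
    rw [h3, Cfsg.Agent.Schreier.BNSch.parabolic_empty] at h1
    rw [h1] at he
    apply hxB
    have h4 : φ ⟨x, hxM⟩ ∈ BL φ B := by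
      rw [e1]
      exact mul_mem (h.mem_QB.1 he) hc
    exact h.mem_BL.2 h4
  by_cases hs : s ∈ PE φ ε a
  · have ht : t ∉ PE φ ε a := fun ht => h.not_both ha hs ht
    left
    refine ⟨?_, ht⟩
    have h3 : Q.S ∩ (PE φ ε a : Set E) = {s} := by
      rw [h.S]
      ext x
      simp only [Set.mem_inter_iff, Set.mem_insert_iff, Set.mem_singleton_iff, SetLike.mem_coe]
      constructor
      · rintro ⟨rfl | rfl, hx⟩
        · rfl
        · exact absurd hx ht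
      · rintro rfl
        exact ⟨Or.inl rfl, hs⟩
    rw [h1, h3]
  · right
    refine ⟨?_, hs⟩
    have h3 : Q.S ∩ (PE φ ε a : Set E) = {t} := by
      rw [h.S]
      ext x
      simp only [Set.mem_inter_iff, Set.mem_insert_iff, Set.mem_singleton_iff, SetLike.mem_coe]
      constructor
      · rintro ⟨rfl | rfl, hx⟩
        · exact absurd hx hs
        · rfl
      · rintro rfl
        refine ⟨Or.inr rfl, ?_⟩
        by_contra ht
        apply h2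
        rw [h.S]
        ext x
        simp only [Set.mem_inter_iff, Set.mem_insert_iff, Set.mem_singleton_iff, SetLike.mem_coe,
          Set.mem_empty_iff_false, iff_false, not_and]
        rintro (rfl | rfl)
        · exact hs
        · exact ht
    rw [h1, h3]

/-- The parabolics of `E` correspond to `P i` and `P j`, in some order. -/
theorem PE_eq [Finite E] : (PE φ ε i = Q.parabolic {s} ∧ PE φ ε j = Q.parabolic {t}) ∨
    (PE φ ε i = Q.parabolic {t} ∧ PE φ ε j = Q.parabolic {s}) := by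
  have key : ∀ x ∈ Q.S, x ∈ PE φ ε i → x ∈ PE φ ε j → False := by
    intro x hx h1 h2
    obtain ⟨y, hy, e1⟩ := mem_PE.1 h1
    have h3 : φ y ∈ BL φ (P j) := by rw [e1]; exact h2
    have h4 : (y : G) ∈ P j := (h.mem_PL j).2 h3
    have h5 : (y : G) ∈ B := h.inf ⟨mem_subgroupOf.1 hy, h4⟩
    exact Cfsg.Agent.Schreier.BNSch.not_mem_B Q hx (h.mem_QB.2 (e1 ▸ h.mem_BL.1 h5))
  rcases h.PE_cases (Or.inl rfl) with ⟨h1, h1'⟩ | ⟨h1, h1'⟩
  · rcases h.PE_cases (Or.inr rfl) with ⟨h2, h2'⟩ | ⟨h2, h2'⟩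
    · exfalso
      exact key s h.hs (h1 ▸ Cfsg.Agent.Schreier.BNSch.mem_parabolic_self Q s)
        (h2 ▸ Cfsg.Agent.Schreier.BNSch.mem_parabolic_self Q s)
    · exact Or.inl ⟨h1, h2⟩
  · rcases h.PE_cases (Or.inr rfl) with ⟨h2, h2'⟩ | ⟨h2, h2'⟩
    · exact Or.inr ⟨h1, h2⟩
    · exfalso
      exact key t h.ht (h1 ▸ Cfsg.Agent.Schreier.BNSch.mem_parabolic_self Q t)
        (h2 ▸ Cfsg.Agent.Schreier.BNSch.mem_parabolic_self Q t)

/-- the link between the residue and the building of `E` -/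
theorem link [Finite E] : Link B P i j Q.B (PE φ ε)
    (fun g e => ∃ h : g ∈ P i ⊔ P j, (φ ⟨g, h⟩)⁻¹ * ε e ∈ BL φ B) :=
  link_of_hom (P i ⊔ P j) φ ε (BL φ B) (fun a => BL φ (P a)) (fun a ha => h.le_sup a ha) (fun _ => h.mem_BL)
    (fun a _ _ => h.mem_PL a) (fun _ => h.mem_QB) (fun _ _ _ => Iff.rfl) (fun a _ => h.BL_le a)
    (fun e => h.surj (ε e))
    (fun a _ y hy => by
      obtain ⟨e, -, c, hc, e1⟩ := h.exists_PE hy
      exact ⟨e, c, hc, e1⟩)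

/-- **The residue is a generalised polygon.** -/
theorem polygon [Finite E] {m : ℕ} (hm : LieRecognition.FeitHigmanGroup.Red Q s t m)
    (hbr : (LieRecognition.FeitHigmanGroup.alt m s t)⁻¹ * LieRecognition.FeitHigmanGroup.alt m t s ∈ Q.B) :
    Polygon B P i j m := by
  apply h.link.polygon
  rcases h.PE_eq with ⟨h1, h2⟩ | ⟨h1, h2⟩
  · exact polygon_of_red h.hs h.ht h1 h2 hm hbr
  · exact (polygon_of_red h.hs h.ht h2 h1 hm hbr).symm

/-- **The field `poly`**, together with `m ≥ 3` iff the node involutions do not commute. -/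
theorem exists_polygon [Finite E] : ∃ m, 2 ≤ m ∧ Polygon B P i j m ∧ (3 ≤ m ↔ s * t * s⁻¹ * t⁻¹ ∉ Q.B) := by
  obtain ⟨m, h2, hr, hb, hlt⟩ := LieRecognition.FeitHigmanGroup.exists_max_red h.S h.ne
  refine ⟨m, h2, h.polygon hr hb, ?_⟩
  have e : (LieRecognition.FeitHigmanGroup.alt 2 s t)⁻¹ * LieRecognition.FeitHigmanGroup.alt 2 t s =
      t⁻¹ * s⁻¹ * t * s := by
    simp only [LieRecognition.FeitHigmanGroup.alt_succ, LieRecognition.FeitHigmanGroup.alt_zero, mul_one]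
    group
  have hst : s * t ∈ Q.N := mul_mem (mem_N h.hs) (mem_N h.ht)
  have hts : t * s ∈ Q.N := mul_mem (mem_N h.ht) (mem_N h.hs)
  have key : s * t * s⁻¹ * t⁻¹ ∈ Q.B ↔ t⁻¹ * s⁻¹ * t * s ∈ Q.B := by
    constructor
    · intro h1
      have h3 : s * t * s⁻¹ * t⁻¹ ∈ Q.N := mul_mem (mul_mem hst (inv_mem (mem_N h.hs))) (inv_mem (mem_N h.ht))
      have h4 := conj_mem_inv (P := Q) hts h1 h3
      have h5 := inv_mem h4
      have e1 : ((t * s)⁻¹ * (s * t * s⁻¹ * t⁻¹) * (t * s))⁻¹ = t⁻¹ * s⁻¹ * t * s := by group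
      rwa [e1] at h5
    · intro h1
      have h3 : t⁻¹ * s⁻¹ * t * s ∈ Q.N := mul_mem (mul_mem (mul_mem (inv_mem (mem_N h.ht)) (inv_mem (mem_N h.hs)))
        (mem_N h.ht)) (mem_N h.hs)
      have h4 := conj_mem' (P := Q) hts h1 h3
      have h5 := inv_mem h4
      have e1 : (t * s * (t⁻¹ * s⁻¹ * t * s) * (t * s)⁻¹)⁻¹ = s * t * s⁻¹ * t⁻¹ := by group
      rwa [e1] at h5
  rw [key]
  constructor
  · intro h3 h4
    exact hlt 2 (by omega) (by omega) (by rw [e]; exact h4)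
  · intro h3
    by_contra h4
    obtain rfl : m = 2 := by omega
    rw [e] at hb
    exact h3 hb

/-! ### The fields `reg` and `frat` -/

/-- `u ∈ U`, `g⁻¹ u g ∈ B` for one `g ∈ P a` outside `B` implies it for all `g ∈ P a`. -/
theorem reg [Finite E] {a : I} (ha : a = i ∨ a = j) {u g : G} (hu : u ∈ U) (hg : g ∈ P a) (hgB : g ∉ B)
    (hug : g⁻¹ * u * g ∈ B) : u ∈ Qk B (P a) := by
  have hPe : ∃ r ∈ Q.S, PE φ ε a = Q.parabolic {r} := by
    rcases h.PE_cases ha with ⟨h1, -⟩ | ⟨h1, -⟩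
    · exact ⟨s, h.hs, h1⟩
    · exact ⟨t, h.ht, h1⟩
  obtain ⟨r, hr, hPr⟩ := hPe
  obtain ⟨V, hV⟩ := h.split.node r hr
  have huM : u ∈ P i ⊔ P j := le_sup_left (a := P i) (h.le i (h.U_le hu))
  obtain ⟨v, hv, e1⟩ := h.U_to ⟨u, huM⟩ hu
  have hdec : ∀ x ∈ P a, ∃ (hx : x ∈ P i ⊔ P j) (e : E) (c : L), e ∈ Q.parabolic {r} ∧ c ∈ BL φ B ∧
      φ ⟨x, hx⟩ = ε e * c := by
    intro x hx
    have hxM := h.le_sup a ha hx
    obtain ⟨e, he, c, hc, e2⟩ := h.exists_PE ((h.mem_PL a (x := ⟨x, hxM⟩)).1 hx)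
    exact ⟨hxM, e, c, hPr ▸ he, hc, e2⟩
  -- conjugation and `B`
  have hconj : ∀ (x : G) (hx : x ∈ P i ⊔ P j) (e : E) (c : L), c ∈ BL φ B → φ ⟨x, hx⟩ = ε e * c →
      (x⁻¹ * u * x ∈ B ↔ e⁻¹ * v * e ∈ Q.B) := by
    intro x hx e c hc e2
    have h1 : x⁻¹ * u * x ∈ B ↔ φ (⟨x, hx⟩⁻¹ * ⟨u, huM⟩ * ⟨x, hx⟩) ∈ BL φ B := by
      rw [← h.mem_BL, coe_mul, coe_mul, coe_inv]
    rw [h1, h.mem_QB, map_mul, map_mul, map_inv, e1, e2]
    have e3 : (ε e * c)⁻¹ * ε v * (ε e * c) = c⁻¹ * ε (e⁻¹ * v * e) * c := by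
      simp only [map_mul, map_inv]; group
    rw [e3]
    constructor
    · intro h2
      have := mul_mem (mul_mem hc h2) (inv_mem hc)
      have e4 : c * (c⁻¹ * ε (e⁻¹ * v * e) * c) * c⁻¹ = ε (e⁻¹ * v * e) := by group
      rwa [e4] at this
    · intro h2
      exact mul_mem (mul_mem (inv_mem hc) h2) hc
  -- `v ∈ V`
  have hvV : v ∈ V := by
    obtain ⟨hgM, e, c, he, hc, e2⟩ := hdec g hg
    have h2 := (hconj g hgM e c hc e2).1 hug
    have heB : e ∉ Q.B := by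
      intro h3
      apply hgB
      have h4 : φ ⟨g, hgM⟩ ∈ BL φ B := by rw [e2]; exact mul_mem (h.mem_QB.1 h3) hc
      exact h.mem_BL.2 h4
    rcases Cfsg.Agent.Schreier.BNSch.mem_parabolic_singleton Q hr he with h3 | ⟨b, hb, b', hb', rfl⟩
    · exact absurd h3 heB
    · have h4 := mul_mem (mul_mem hb' h2) (inv_mem hb')
      have e5 : b' * ((b * r * b')⁻¹ * v * (b * r * b')) * b'⁻¹ = r⁻¹ * (b⁻¹ * v * b) * r := by group
      rw [e5] at h4
      have h6 : b⁻¹ * v * b ∈ UE := by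
        have := h.split.norm b⁻¹ (inv_mem hb) v hv
        rwa [inv_inv] at this
      have h7 := hV.conj_B b hb _ (hV.stab _ h6 h4)
      have e8 : b * (b⁻¹ * v * b) * b⁻¹ = v := by group
      rwa [e8] at h7
  intro x hx
  obtain ⟨hxM, e, c, he, hc, e2⟩ := hdec x hx
  rw [hconj x hxM e c hc e2]
  exact h.split.le (hV.le (hV.conj_mem he hvV))

/-- **The field `frat`** from the fact (F1): `T ≤ U_E` with `U_E = T (V_s ∩ V_t)` is `U_E`. -/
theorem frat [Finite E]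
    (hF : FOne Q UE s t) {T : Subgroup G} (hT : T ≤ U)
    (hTU : ∀ u ∈ U, ∃ x ∈ T, x⁻¹ * u ∈ Qk B (P i) ∧ x⁻¹ * u ∈ Qk B (P j)) :
    ∀ u ∈ U, ∃ x ∈ T, x⁻¹ * u ∈ Qk B (P i ⊔ P j) := by
  have hUM : U ≤ P i ⊔ P j := fun u hu => le_sup_left (a := P i) (h.le i (h.U_le hu))
  -- the subgroup of `E` corresponding to `T`
  let TE : Subgroup E := ((T.subgroupOf (P i ⊔ P j)).map φ).comap ε
  have hTE : ∀ e, e ∈ TE ↔ ∃ x : ↥(P i ⊔ P j), (x : G) ∈ T ∧ φ x = ε e := by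
    intro e
    constructor
    · rintro ⟨x, hx, e1⟩
      exact ⟨x, mem_subgroupOf.1 hx, e1⟩
    · rintro ⟨x, hx, e1⟩
      exact ⟨x, mem_subgroupOf.2 hx, e1⟩
  have hTEle : TE ≤ UE := by
    intro e he
    obtain ⟨x, hx, e1⟩ := (hTE e).1 he
    obtain ⟨e', he', e2⟩ := h.U_to x (hT hx)
    have e3 : e = e' := h.inj (e1.symm.trans e2)
    rw [e3]; exact he'
  -- conjugation by `r`
  have hr : ∀ r ∈ Q.S, ∀ a, a = i ∨ a = j → r ∈ PE φ ε a → ∀ (y : ↥(P i ⊔ P j)) (e : E), φ y = ε e →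
      (∀ g ∈ P a, g⁻¹ * (y : G) * g ∈ B) → r⁻¹ * e * r ∈ Q.B := by
    intro r _ a ha hra y e e1 hy
    obtain ⟨z, hz, e2⟩ := mem_PE.1 hra
    have h1 := hy z (mem_subgroupOf.1 hz)
    rw [h.mem_QB]
    have h2 : φ (z⁻¹ * y * z) ∈ BL φ B := h.mem_BL.1 (by rw [coe_mul, coe_mul, coe_inv]; exact h1)
    have e3 : φ (z⁻¹ * y * z) = ε (r⁻¹ * e * r) := by simp only [map_mul, map_inv, e1, e2]
    rwa [e3] at h2
  have hs' : ∃ a b, (a = i ∨ a = j) ∧ (b = i ∨ b = j) ∧ s ∈ PE φ ε a ∧ t ∈ PE φ ε b := by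
    rcases h.PE_eq with ⟨h1, h2⟩ | ⟨h1, h2⟩
    · exact ⟨i, j, Or.inl rfl, Or.inr rfl, h1 ▸ Cfsg.Agent.Schreier.BNSch.mem_parabolic_self Q s,
        h2 ▸ Cfsg.Agent.Schreier.BNSch.mem_parabolic_self Q t⟩
    · exact ⟨j, i, Or.inr rfl, Or.inl rfl, h2 ▸ Cfsg.Agent.Schreier.BNSch.mem_parabolic_self Q s,
        h1 ▸ Cfsg.Agent.Schreier.BNSch.mem_parabolic_self Q t⟩
  obtain ⟨a, b, ha, hb, hsa, htb⟩ := hs'
  have hle : UE ≤ TE := by
    apply hF TE hTEle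
    intro e he
    obtain ⟨u, hu, e1⟩ := h.U_of e he
    obtain ⟨x, hx, hxi, hxj⟩ := hTU u hu
    have hxM := hUM (hT hx)
    obtain ⟨v, hv, e2⟩ := h.U_to ⟨x, hxM⟩ (hT hx)
    have hxa : ∀ a, a = i ∨ a = j → ∀ g ∈ P a, g⁻¹ * (((⟨x, hxM⟩⁻¹ * u : ↥(P i ⊔ P j)) : G)) * g ∈ B := by
      rintro a (rfl | rfl) g hg
      · rw [coe_mul, coe_inv]; exact hxi g hg
      · rw [coe_mul, coe_inv]; exact hxj g hg
    have e3 : φ (⟨x, hxM⟩⁻¹ * u) = ε (v⁻¹ * e) := by simp only [map_mul, map_inv, e1, e2]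
    exact ⟨v, (hTE v).2 ⟨⟨x, hxM⟩, hx, e2⟩, hr s h.hs a ha hsa _ _ e3 (hxa a ha),
      hr t h.ht b hb htb _ _ e3 (hxa b hb)⟩
  intro u hu
  obtain ⟨e, he, e1⟩ := h.U_to ⟨u, hUM hu⟩ hu
  obtain ⟨x, hx, e2⟩ := (hTE e).1 (hle he)
  refine ⟨x, hx, fun g hg => ?_⟩
  have e3 : φ (⟨g, hg⟩⁻¹ * (x⁻¹ * ⟨u, hUM hu⟩) * ⟨g, hg⟩) = 1 := by
    simp only [map_mul, map_inv, e1, e2]; group
  have h4 := h.ker _ e3
  rw [coe_mul, coe_mul, coe_mul, coe_inv, coe_inv] at h4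
  exact h4

end LiePair

end Cfsg.Agent.ParSys

end

section


/-!
# Lie pairs, abstract form: a residue linked with a group with a split (B,N)-pair of rank two

`LinkPair`: the residue of type `{i, j}` is linked (`Link`) with the building of `E`, `U` acts on the residue as `U_E`.
-/

set_option autoImplicit false

namespace Cfsg.Agent.ParSys

open Subgroup
open Cfsg.Agent.Schreier.BNSch (Node)
open Cfsg.Agent.LieExceptional.BNPairCore

variable {G : Type*} [Group G] {I : Type*} {E : Type*} [Group E]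

/-- `u` acts on the residue as `v` -/
def Acts (B : Subgroup G) (θ : G → E → Prop) (u : G) (v : E) : Prop :=
  ∀ g x g', θ g x → θ g' (v * x) → (u * g)⁻¹ * g' ∈ B

theorem Acts.mul {B : Subgroup G} {θ : G → E → Prop} (hsur : ∀ e, ∃ g, θ g e) {u u' : G} {v v' : E}
    (h : Acts B θ u v) (h' : Acts B θ u' v') : Acts B θ (u * u') (v * v') := by
  intro g x g' h1 h2
  obtain ⟨g1, h3⟩ := hsur (v' * x)
  have h4 := h' _ _ _ h1 h3
  have h5 := h _ _ _ h3 (by rwa [mul_assoc] at h2)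
  have := mul_mem h4 h5
  have e : (u' * g)⁻¹ * g1 * ((u * g1)⁻¹ * g') = (u * u' * g)⁻¹ * g' := by group
  rwa [e] at this

theorem Acts.inv {B : Subgroup G} {θ : G → E → Prop} {u : G} {v : E} (h : Acts B θ u v) : Acts B θ u⁻¹ v⁻¹ := by
  intro g x g' h1 h2
  have h3 := inv_mem (h _ _ _ h2 (by rwa [mul_inv_cancel_left]))
  have e : ((u * g')⁻¹ * g)⁻¹ = (u⁻¹ * g)⁻¹ * g' := by group
  rwa [e] at h3

/-- the literal form of `Acts` -/
theorem Link.acts_of {B : Subgroup G} {P : I → Subgroup G} {i j : I} {B' : Subgroup E}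
    {P' : I → Subgroup E} {θ : G → E → Prop} (L : Link B P i j B' P' θ) {u : G} {v : E}
    (huv : ∀ g x, θ g x → θ (u * g) (v * x)) : Acts B θ u v := by
  intro g x g' h1 h2
  rw [L.memB _ _ _ _ (huv _ _ h1) h2, inv_mul_cancel]
  exact one_mem _

/-- every element of `E` is induced by an element of `G` -/
theorem Link.exists_acts {B : Subgroup G} {P : I → Subgroup G} {i j : I} {B' : Subgroup E}
    {P' : I → Subgroup E} {θ : G → E → Prop} (L : Link B P i j B' P' θ) (v : E) : ∃ u, Acts B θ u v := by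
  obtain ⟨u, hu⟩ := L.act v
  exact ⟨u, L.acts_of hu⟩

/-- The residue of type `{i, j}` is linked with the building of the split (B,N)-pair `Q` of rank two of `E`. -/
structure LinkPair (p : ℕ) (B U : Subgroup G) (P : I → Subgroup G) (i j : I) (Q : Cfsg.BNPair E)
    (UE : Subgroup E) (s t : E) (P' : I → Subgroup E) (θ : G → E → Prop) : Prop where
  link : Link B P i j Q.B P' θ
  Pi : P' i = Q.parabolic {s}
  Pj : P' j = Q.parabolic {t}
  split : FixBN.Split Q p UE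
  S : Q.S = {s, t}
  ne : s ≠ t
  U_le : U ≤ B
  /-- `U` acts on the residue as elements of `U_E` -/
  U_to : ∀ u ∈ U, ∃ e ∈ UE, Acts B θ u e
  /-- the elements of `U_E` are induced by elements of `U` -/
  U_of : ∀ e ∈ UE, ∃ u ∈ U, Acts B θ u e

/-- `T_2`: an element of the torus which centralises `U_E / V_s` and acts fixed-point-freely on `U_E / V_t`. -/
def SepE (Q : Cfsg.BNPair E) (UE : Subgroup E) (s t : E) : Prop :=
  ∃ h ∈ Q.B ⊓ Q.N, (∀ u ∈ UE, s⁻¹ * (h * u * h⁻¹ * u⁻¹) * s ∈ Q.B) ∧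
    ∀ u ∈ UE, t⁻¹ * (h * u * h⁻¹ * u⁻¹) * t ∈ Q.B → t⁻¹ * u * t ∈ Q.B

/-- `T_3`: an element of the torus which acts fixed-point-freely on `U_E / V_s`. -/
def FpfE (Q : Cfsg.BNPair E) (UE : Subgroup E) (s : E) : Prop :=
  ∃ h ∈ Q.B ⊓ Q.N, ∀ u ∈ UE, s⁻¹ * (h * u * h⁻¹ * u⁻¹) * s ∈ Q.B → s⁻¹ * u * s ∈ Q.B

namespace LinkPair

variable {p : ℕ} {B U : Subgroup G} {P : I → Subgroup G} {i j : I} {Q : Cfsg.BNPair E} {UE : Subgroup E} {s t : E}
  {P' : I → Subgroup E} {θ : G → E → Prop} (h : LinkPair p B U P i j Q UE s t P' θ)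

include h

theorem hs : s ∈ Q.S := by rw [h.S]; simp

theorem ht : t ∈ Q.S := by rw [h.S]; simp

theorem symm : LinkPair p B U P j i Q UE t s P' θ where
  link := h.link.symm
  Pi := h.Pj
  Pj := h.Pi
  split := h.split
  S := by rw [h.S, Set.pair_comm]
  ne := h.ne.symm
  U_le := h.U_le
  U_to := h.U_to
  U_of := h.U_of

/-- **The residue is a generalised polygon.** -/
theorem polygon {m : ℕ} (hm : LieRecognition.FeitHigmanGroup.Red Q s t m)
    (hbr : (LieRecognition.FeitHigmanGroup.alt m s t)⁻¹ * LieRecognition.FeitHigmanGroup.alt m t s ∈ Q.B) :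
    Polygon B P i j m :=
  h.link.polygon (polygon_of_red h.hs h.ht h.Pi h.Pj hm hbr)

/-- **The field `poly`**, together with `m ≥ 3` iff the node involutions do not commute. -/
theorem exists_polygon [Finite E] : ∃ m, 2 ≤ m ∧ Polygon B P i j m ∧ (3 ≤ m ↔ s * t * s⁻¹ * t⁻¹ ∉ Q.B) := by
  obtain ⟨m, h2, hr, hb, hlt⟩ := LieRecognition.FeitHigmanGroup.exists_max_red h.S h.ne
  refine ⟨m, h2, h.polygon hr hb, ?_⟩
  have e : (LieRecognition.FeitHigmanGroup.alt 2 s t)⁻¹ * LieRecognition.FeitHigmanGroup.alt 2 t s =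
      t⁻¹ * s⁻¹ * t * s := by
    simp only [LieRecognition.FeitHigmanGroup.alt_succ, LieRecognition.FeitHigmanGroup.alt_zero, mul_one]
    group
  have hst : s * t ∈ Q.N := mul_mem (mem_N h.hs) (mem_N h.ht)
  have hts : t * s ∈ Q.N := mul_mem (mem_N h.ht) (mem_N h.hs)
  have key : s * t * s⁻¹ * t⁻¹ ∈ Q.B ↔ t⁻¹ * s⁻¹ * t * s ∈ Q.B := by
    constructor
    · intro h1
      have h3 : s * t * s⁻¹ * t⁻¹ ∈ Q.N := mul_mem (mul_mem hst (inv_mem (mem_N h.hs))) (inv_mem (mem_N h.ht))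
      have h4 := conj_mem_inv (P := Q) hts h1 h3
      have h5 := inv_mem h4
      have e1 : ((t * s)⁻¹ * (s * t * s⁻¹ * t⁻¹) * (t * s))⁻¹ = t⁻¹ * s⁻¹ * t * s := by group
      rwa [e1] at h5
    · intro h1
      have h3 : t⁻¹ * s⁻¹ * t * s ∈ Q.N := mul_mem (mul_mem (mul_mem (inv_mem (mem_N h.ht)) (inv_mem (mem_N h.hs)))
        (mem_N h.ht)) (mem_N h.hs)
      have h4 := conj_mem' (P := Q) hts h1 h3
      have h5 := inv_mem h4
      have e1 : (t * s * (t⁻¹ * s⁻¹ * t * s) * (t * s)⁻¹)⁻¹ = s * t * s⁻¹ * t⁻¹ := by group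
      rwa [e1] at h5
  rw [key]
  constructor
  · intro h3 h4
    exact hlt 2 (by omega) (by omega) (by rw [e]; exact h4)
  · intro h3
    by_contra h4
    obtain rfl : m = 2 := by omega
    rw [e] at hb
    exact h3 hb

/-- the residue is covered by the link -/
theorem dom {g : G} (hg : g ∈ P i ⊔ P j) : ∃ x, θ g x := by
  let D : Subgroup G :=
    { carrier := {g | (∀ a x, θ a x → ∃ y, θ (a * g) y) ∧ ∀ a x, θ a x → ∃ y, θ (a * g⁻¹) y}
      mul_mem' := by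
        rintro g g' ⟨h1, h2⟩ ⟨h3, h4⟩
        refine ⟨fun a x hax => ?_, fun a x hax => ?_⟩
        · obtain ⟨y, hy⟩ := h1 a x hax
          obtain ⟨z, hz⟩ := h3 _ y hy
          exact ⟨z, by rwa [← mul_assoc]⟩
        · obtain ⟨y, hy⟩ := h4 a x hax
          obtain ⟨z, hz⟩ := h2 _ y hy
          exact ⟨z, by rwa [mul_inv_rev, ← mul_assoc]⟩
      one_mem' := ⟨fun a x hax => ⟨x, by rwa [mul_one]⟩, fun a x hax => ⟨x, by rwa [inv_one, mul_one]⟩⟩
      inv_mem' := by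
        rintro g ⟨h1, h2⟩
        exact ⟨h2, by rwa [inv_inv]⟩ }
  have hD : ∀ g, g ∈ D ↔ ((∀ a x, θ a x → ∃ y, θ (a * g) y) ∧ ∀ a x, θ a x → ∃ y, θ (a * g⁻¹) y) := fun _ => Iff.rfl
  have hi : P i ≤ D := fun g hg => (hD g).2
    ⟨fun a x hax => h.link.ex i (Or.inl rfl) a x hax g hg,
      fun a x hax => h.link.ex i (Or.inl rfl) a x hax _ (inv_mem hg)⟩
  have hj : P j ≤ D := fun g hg => (hD g).2
    ⟨fun a x hax => h.link.ex j (Or.inr rfl) a x hax g hg,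
      fun a x hax => h.link.ex j (Or.inr rfl) a x hax _ (inv_mem hg)⟩
  obtain ⟨y, hy⟩ := ((hD g).1 ((sup_le hi hj) hg)).1 1 1 h.link.one
  exact ⟨y, by rwa [one_mul] at hy⟩

theorem memB {g : G} {x : E} (hgx : θ g x) : g ∈ B ↔ x ∈ Q.B := by
  have := h.link.memB 1 1 g x h.link.one hgx
  simpa using this

theorem memP {a : I} (ha : a = i ∨ a = j) {g : G} {x : E} (hgx : θ g x) : g ∈ P a ↔ x ∈ P' a := by
  have := h.link.memP a ha 1 1 g x h.link.one hgx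
  simpa using this

theorem exP {a : I} (ha : a = i ∨ a = j) {g : G} (hg : g ∈ P a) : ∃ x ∈ P' a, θ g x := by
  obtain ⟨x, hx⟩ := h.link.ex a ha 1 1 h.link.one g hg
  rw [one_mul] at hx
  exact ⟨x, (h.memP ha hx).1 hg, hx⟩

theorem hP {a : I} (ha : a = i ∨ a = j) : ∃ r ∈ Q.S, P' a = Q.parabolic {r} := by
  rcases ha with rfl | rfl
  · exact ⟨s, h.hs, h.Pi⟩
  · exact ⟨t, h.ht, h.Pj⟩

theorem acts_mul {u u' : G} {v v' : E} (h1 : Acts B θ u v) (h2 : Acts B θ u' v') : Acts B θ (u * u') (v * v') :=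
  h1.mul h.link.sur h2

theorem acts_one : Acts B θ 1 (1 : E) := by
  apply h.link.acts_of
  intro g x h1
  rwa [one_mul, one_mul]

theorem acts_pow {u : G} {v : E} (h1 : Acts B θ u v) (n : ℕ) : Acts B θ (u ^ n) (v ^ n) := by
  induction n with
  | zero => rw [pow_zero, pow_zero]; exact h.acts_one
  | succ n ih => rw [pow_succ, pow_succ]; exact h.acts_mul ih h1

/-- `g⁻¹ u g ∈ B` in terms of the link -/
theorem conj_iff {u : G} {v : E} (huv : Acts B θ u v) {g : G} {x : E} (hgx : θ g x) :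
    g⁻¹ * u * g ∈ B ↔ x⁻¹ * v * x ∈ Q.B := by
  obtain ⟨g', hg'⟩ := h.link.sur (v * x)
  have h1 := huv _ _ _ hgx hg'
  have h2 := h.link.memB _ _ _ _ hgx hg'
  rw [← mul_assoc] at h2
  rw [← h2]
  constructor
  · intro h3
    have := mul_mem h3 h1
    have e : g⁻¹ * u * g * ((u * g)⁻¹ * g') = g⁻¹ * g' := by group
    rwa [e] at this
  · intro h3
    have := mul_mem h3 (inv_mem h1)
    have e : g⁻¹ * g' * ((u * g)⁻¹ * g')⁻¹ = g⁻¹ * u * g := by group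
    rwa [e] at this

/-- elements inducing elements of the Borel subgroup lie in `B` -/
theorem acts_mem_B {u : G} {v : E} (huv : Acts B θ u v) : u ∈ B ↔ v ∈ Q.B := by
  have := h.conj_iff huv h.link.one
  simpa using this

/-- uniqueness of the induced element -/
theorem acts_unique {u : G} {v v' : E} (h1 : Acts B θ u v) (h2 : Acts B θ u v') : v = v' := by
  have h3 : v⁻¹ * v' ∈ Q.B.normalCore := by
    intro x
    obtain ⟨g, hg⟩ := h.link.sur x⁻¹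
    have h4 := h.conj_iff (h.acts_mul h1.inv h2) hg
    rw [inv_inv] at h4
    rw [← h4, inv_mul_cancel, mul_one, inv_mul_cancel]
    exact one_mem _
  rw [h.split.core, mem_bot, inv_mul_eq_one] at h3
  exact h3

/-- elements inducing the same element -/
theorem acts_same {u x : G} {e : E} (h1 : Acts B θ u e) (h2 : Acts B θ x e) : x⁻¹ * u ∈ Qk B (P i ⊔ P j) := by
  intro g hg
  obtain ⟨y, hy⟩ := h.dom hg
  have h3 := h.conj_iff (h.acts_mul h2.inv h1) hy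
  rw [inv_mul_cancel, mul_one, inv_mul_cancel] at h3
  exact h3.2 (one_mem _)

/-- an element of `P_s \ B` is `v s b`, `v ∈ U_E` -/
theorem form {r e : E} (hr : r ∈ Q.S) (he : e ∈ Q.parabolic {r}) (heB : e ∉ Q.B) : ∃ v ∈ UE, ∃ b ∈ Q.B, e = v * r * b := by
  rcases Cfsg.Agent.Schreier.BNSch.mem_parabolic_singleton Q hr he with h1 | ⟨b, hb, b', hb', rfl⟩
  · exact absurd h1 heB
  · obtain ⟨v, hv, y, hy, rfl⟩ := h.split.cover' hb
    refine ⟨v, hv, r⁻¹ * y * r * b', mul_mem ?_ hb', by group⟩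
    exact conj_mem_inv (P := Q) (mem_N hr) (mem_inf.1 hy).1 (mem_inf.1 hy).2

/-- **The field `ptr`**: `U` is transitive on the panels. -/
theorem ptr {a : I} (ha : a = i ∨ a = j) : Hall.HallData.PTr B U (P a) := by
  obtain ⟨r, hr, hPr⟩ := h.hP ha
  intro g hg hgB g' hg' hgB'
  obtain ⟨e, he, hge⟩ := h.exP ha hg
  obtain ⟨e', he', hge'⟩ := h.exP ha hg'
  rw [hPr] at he he'
  obtain ⟨v, hv, b, hb, rfl⟩ := h.form hr he (fun h1 => hgB ((h.memB hge).2 h1))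
  obtain ⟨v', hv', b', hb', rfl⟩ := h.form hr he' (fun h1 => hgB' ((h.memB hge').2 h1))
  obtain ⟨u, hu, h1⟩ := h.U_of (v' * v⁻¹) (mul_mem hv' (inv_mem hv))
  refine ⟨u, hu, (u * g)⁻¹ * g', ?_, by group⟩
  obtain ⟨g1, hg1⟩ := h.link.sur (v' * v⁻¹ * (v * r * b))
  have h2 := h1 _ _ _ hge hg1
  have h3 : g1⁻¹ * g' ∈ B := by
    rw [h.link.memB _ _ _ _ hg1 hge']
    have e1 : (v' * v⁻¹ * (v * r * b))⁻¹ * (v' * r * b') = b⁻¹ * b' := by group
    rw [e1]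
    exact mul_mem (inv_mem hb) hb'
  have h4 := mul_mem h2 h3
  have e2 : (u * g)⁻¹ * g1 * (g1⁻¹ * g') = (u * g)⁻¹ * g' := by group
  rwa [e2] at h4

/-- **The field `three`**: the panels have at least three chambers. -/
theorem three {a : I} (ha : a = i ∨ a = j) : ∃ x ∈ P a, ∃ y ∈ P a, x ∉ B ∧ y ∉ B ∧ x⁻¹ * y ∉ B := by
  obtain ⟨r, hr, hPr⟩ := h.hP ha
  have hrB := Cfsg.Agent.Schreier.BNSch.not_mem_B Q hr
  obtain ⟨V, hV⟩ := h.split.node r hr
  obtain ⟨v, hv, hvV⟩ := hV.ne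
  obtain ⟨g, hg⟩ := h.link.sur r
  obtain ⟨g', hg'⟩ := h.link.sur (v * r)
  have hr' : r ∈ P' a := hPr ▸ Cfsg.Agent.Schreier.BNSch.mem_parabolic_self Q r
  have hgP : g ∈ P a := (h.memP ha hg).2 hr'
  have hgB : g ∉ B := fun h1 => hrB ((h.memB hg).1 h1)
  have hvP : v ∈ P' a := hPr ▸ Cfsg.Agent.Schreier.BNSch.B_le_parabolic Q {r} (h.split.le hv)
  refine ⟨g, hgP, g', (h.memP ha hg').2 (mul_mem hvP hr'), hgB, fun h1 => ?_, fun h1 => ?_⟩
  · have h2 := (h.memB hg').1 h1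
    apply hrB
    have := mul_mem (inv_mem (h.split.le hv)) h2
    rwa [inv_mul_cancel_left] at this
  · rw [h.link.memB _ _ _ _ hg hg', ← mul_assoc] at h1
    exact hvV (hV.stab v hv h1)

/-- **The field `reg`**: `u ∈ U`, `g⁻¹ u g ∈ B` for one `g ∈ P a` outside `B` implies it for all `g ∈ P a`. -/
theorem reg [Finite E] {a : I} (ha : a = i ∨ a = j) {u g : G} (hu : u ∈ U) (hg : g ∈ P a) (hgB : g ∉ B)
    (hug : g⁻¹ * u * g ∈ B) : u ∈ Qk B (P a) := by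
  obtain ⟨r, hr, hPr⟩ := h.hP ha
  obtain ⟨V, hV⟩ := h.split.node r hr
  obtain ⟨v, hv, huv⟩ := h.U_to u hu
  have hvV : v ∈ V := by
    obtain ⟨e, he, hge⟩ := h.exP ha hg
    have h2 := (h.conj_iff huv hge).1 hug
    rw [hPr] at he
    obtain ⟨w, hw, b, hb, rfl⟩ := h.form hr he (fun h1 => hgB ((h.memB hge).2 h1))
    have h4 := mul_mem (mul_mem hb h2) (inv_mem hb)
    have e5 : b * ((w * r * b)⁻¹ * v * (w * r * b)) * b⁻¹ = r⁻¹ * (w⁻¹ * v * w) * r := by group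
    rw [e5] at h4
    have h7 := hV.conj_B w (h.split.le hw) _ (hV.stab _ (mul_mem (mul_mem (inv_mem hw) hv) hw) h4)
    have e8 : w * (w⁻¹ * v * w) * w⁻¹ = v := by group
    rwa [e8] at h7
  intro x hx
  obtain ⟨e, he, hxe⟩ := h.exP ha hx
  rw [h.conj_iff huv hxe]
  exact h.split.le (hV.le (hV.conj_mem (hPr ▸ he) hvV))

/-- `u ∈ Q_i` in terms of the link -/
theorem mem_Qk_iff [Finite E] {a : I} (ha : a = i ∨ a = j) {r : E} (hr : r ∈ Q.S) (hPr : P' a = Q.parabolic {r})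
    {u : G} (hu : u ∈ U) {v : E} (huv : Acts B θ u v) : u ∈ Qk B (P a) ↔ r⁻¹ * v * r ∈ Q.B := by
  have hrB := Cfsg.Agent.Schreier.BNSch.not_mem_B Q hr
  obtain ⟨g, hg⟩ := h.link.sur r
  have hgP : g ∈ P a := (h.memP ha hg).2 (hPr ▸ Cfsg.Agent.Schreier.BNSch.mem_parabolic_self Q r)
  have hgB : g ∉ B := fun h1 => hrB ((h.memB hg).1 h1)
  rw [← h.conj_iff huv hg]
  exact ⟨fun h1 => h1 g hgP, fun h1 => h.reg ha hu hgP hgB h1⟩

/-- **The field `frat`** from the fact (F1). -/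
theorem frat [Finite E]
    (hF : FOne Q UE s t) {T : Subgroup G} (hT : T ≤ U)
    (hTU : ∀ u ∈ U, ∃ x ∈ T, x⁻¹ * u ∈ Qk B (P i) ∧ x⁻¹ * u ∈ Qk B (P j)) :
    ∀ u ∈ U, ∃ x ∈ T, x⁻¹ * u ∈ Qk B (P i ⊔ P j) := by
  -- the subgroup of `E` corresponding to `T`
  let TE : Subgroup E :=
    { carrier := {e | ∃ x ∈ T, Acts B θ x e}
      mul_mem' := by
        rintro e e' ⟨x, hx, h1⟩ ⟨x', hx', h2⟩
        exact ⟨x * x', mul_mem hx hx', h.acts_mul h1 h2⟩
      one_mem' := ⟨1, one_mem _, h.acts_one⟩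
      inv_mem' := by
        rintro e ⟨x, hx, h1⟩
        exact ⟨x⁻¹, inv_mem hx, h1.inv⟩ }
  have hTE : ∀ e, e ∈ TE ↔ ∃ x ∈ T, Acts B θ x e := fun e => Iff.rfl
  have hTEle : TE ≤ UE := by
    intro e he
    obtain ⟨x, hx, h1⟩ := (hTE e).1 he
    obtain ⟨e', he', h2⟩ := h.U_to x (hT hx)
    rw [h.acts_unique h1 h2]; exact he'
  have hle : UE ≤ TE := by
    apply hF TE hTEle
    intro e he
    obtain ⟨u, hu, h1⟩ := h.U_of e he
    obtain ⟨x, hx, hxi, hxj⟩ := hTU u hu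
    obtain ⟨v, hv, h2⟩ := h.U_to x (hT hx)
    have h4 := h.acts_mul h2.inv h1
    have hxu : x⁻¹ * u ∈ U := mul_mem (inv_mem (hT hx)) hu
    exact ⟨v, (hTE v).2 ⟨x, hx, h2⟩, (h.mem_Qk_iff (Or.inl rfl) h.hs h.Pi hxu h4).1 hxi,
      (h.mem_Qk_iff (Or.inr rfl) h.ht h.Pj hxu h4).1 hxj⟩
  intro u hu
  obtain ⟨e, he, h1⟩ := h.U_to u hu
  obtain ⟨x, hx, h2⟩ := (hTE e).1 (hle he)
  exact ⟨x, hx, h.acts_same h1 h2⟩

/-! ### The torus -/

/-- `p'`-elements of `E` normalising `U_E` are induced by elements of `H`, up to conjugation under `U_E`. -/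
theorem exists_acts_H [Finite G] [Fact p.Prime] {H : Subgroup G} (D : Hall.HallData p B U H) {e : E} (he : e ∈ Q.B)
    {n : ℕ} (hn : ¬ p ∣ n) (hen : e ^ n = 1) : ∃ x ∈ H, ∃ v ∈ UE, Acts B θ x (v * e * v⁻¹) := by
  obtain ⟨u, hu⟩ := h.link.exists_acts e
  have huB : u ∈ B := (h.acts_mem_B hu).2 he
  -- the `p'`-part
  have hp : p.Prime := Fact.out
  obtain ⟨a, m, hm, hum⟩ := Nat.exists_eq_pow_mul_and_not_dvd (orderOf_pos u).ne' p hp.ne_one
  have hcop : Nat.Coprime (p ^ a) (n * m) :=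
    Nat.Coprime.pow_left _ ((Nat.Prime.coprime_iff_not_dvd hp).2 (fun h1 =>
      (hp.dvd_mul.1 h1).elim hn hm))
  obtain ⟨k, hk1, hk2⟩ := Nat.chineseRemainder hcop 0 1
  have hk3 : Nat.ModEq n k 1 := hk2.of_mul_right m
  have hxe : Acts B θ (u ^ k) e := by
    have := h.acts_pow hu k
    have h3 : e ^ k = e := by
      have h4 : orderOf e ∣ n := orderOf_dvd_of_pow_eq_one hen
      have h5 : Nat.ModEq (orderOf e) k 1 := hk3.of_dvd h4
      have h6 := pow_eq_pow_iff_modEq.2 h5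
      rwa [pow_one] at h6
    rwa [h3] at this
  have hcard : p.Coprime (Nat.card (Subgroup.zpowers (u ^ k))) := by
    rw [Nat.card_zpowers]
    have h4 : (u ^ k) ^ m = 1 := by
      obtain ⟨c, hc⟩ := (Nat.modEq_zero_iff_dvd.1 hk1)
      rw [hc, ← pow_mul, mul_right_comm, ← hum, pow_mul, pow_orderOf_eq_one, one_pow]
    rw [Nat.Prime.coprime_iff_not_dvd hp]
    intro h5
    exact hm (h5.trans (orderOf_dvd_of_pow_eq_one h4))
  have hle : Subgroup.zpowers (u ^ k) ≤ B := by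
    rw [Subgroup.zpowers_le]; exact pow_mem huB k
  -- conjugation into `H`
  have hcc : (Nat.card (Subgroup.zpowers (u ^ k))).Coprime (Nat.card U) := by
    obtain ⟨r, hr⟩ := (IsPGroup.iff_card (p := p)).mp D.U_pgroup
    rw [hr]
    exact (hcard.pow_left r).symm
  obtain ⟨w, hw, h1⟩ := Solvable.Glauberman.exists_smul_fixed (Subgroup.zpowers (u ^ k)) U (hle.trans D.U_norm) hcc
    (Or.inr D.U_solvable) (X := G ⧸ H) ((1 : G) : G ⧸ H) (by
      intro a ha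
      have h2 := D.le_sup hle hcard ha
      rw [sup_comm] at h2
      obtain ⟨y, hy, b, hb, rfl⟩ := Solvable.Glauberman.exists_mul_of_mem_sup H U D.H_norm_U h2
      refine ⟨y, hy, ?_⟩
      change (((y * b) * 1 : G) : G ⧸ H) = ((y * 1 : G) : G ⧸ H)
      rw [QuotientGroup.eq, mul_one, mul_one]
      have e1 : (y * b)⁻¹ * y = b⁻¹ := by group
      rw [e1]
      exact inv_mem hb)
  have h2 := h1 (u ^ k) (Subgroup.mem_zpowers _)
  change ((u ^ k * (w * 1) : G) : G ⧸ H) = ((w * 1 : G) : G ⧸ H) at h2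
  rw [QuotientGroup.eq, mul_one] at h2
  have h3 : w⁻¹ * u ^ k * w ∈ H := by
    have := inv_mem h2
    have e1 : ((u ^ k * w)⁻¹ * w)⁻¹ = w⁻¹ * u ^ k * w := by group
    rwa [e1] at this
  obtain ⟨v, hv, hwv⟩ := h.U_to w hw
  refine ⟨_, h3, v⁻¹, inv_mem hv, ?_⟩
  have := h.acts_mul (h.acts_mul hwv.inv hxe) hwv
  rwa [inv_inv]

/-- the subgroup `V_r = U_E ∩ U_E^r` -/
theorem exists_V {r : E} (hr : r ∈ Q.S) : ∃ V : Subgroup E, (∀ w ∈ UE, r⁻¹ * w * r ∈ Q.B ↔ w ∈ V) ∧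
    ∀ b ∈ Q.B, ∀ v ∈ V, b * v * b⁻¹ ∈ V := by
  obtain ⟨V, hV⟩ := h.split.node r hr
  exact ⟨V, fun w hw => ⟨hV.stab w hw, fun h1 => h.split.le (hV.le (hV.conj_s w h1))⟩, hV.conj_B⟩

/-- commutators with `v e v⁻¹` -/
theorem comm_conj {r e v u : E} (hr : r ∈ Q.S) (he : e ∈ Q.B) (hv : v ∈ UE) (hu : u ∈ UE) :
    r⁻¹ * (v * e * v⁻¹ * u * (v * e * v⁻¹)⁻¹ * u⁻¹) * r ∈ Q.B ↔
      r⁻¹ * (e * (v⁻¹ * u * v) * e⁻¹ * (v⁻¹ * u * v)⁻¹) * r ∈ Q.B := by
  obtain ⟨V, hV, hVB⟩ := h.exists_V hr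
  have h1 : v⁻¹ * u * v ∈ UE := mul_mem (mul_mem (inv_mem hv) hu) hv
  have h2 : e * (v⁻¹ * u * v) * e⁻¹ * (v⁻¹ * u * v)⁻¹ ∈ UE := mul_mem (h.split.norm e he _ h1) (inv_mem h1)
  have e1 : v * e * v⁻¹ * u * (v * e * v⁻¹)⁻¹ * u⁻¹ =
      v * (e * (v⁻¹ * u * v) * e⁻¹ * (v⁻¹ * u * v)⁻¹) * v⁻¹ := by group
  rw [e1, hV _ h2, hV _ (mul_mem (mul_mem hv h2) (inv_mem hv))]
  constructor
  · intro h3
    have h4 := hVB v⁻¹ (inv_mem (h.split.le hv)) _ h3
    have e2 : v⁻¹ * (v * (e * (v⁻¹ * u * v) * e⁻¹ * (v⁻¹ * u * v)⁻¹) * v⁻¹) * v⁻¹⁻¹ =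
        e * (v⁻¹ * u * v) * e⁻¹ * (v⁻¹ * u * v)⁻¹ := by group
    rwa [e2] at h4
  · exact hVB v (h.split.le hv) _

theorem conj_V_iff {r v u : E} (hr : r ∈ Q.S) (hv : v ∈ UE) (hu : u ∈ UE) :
    r⁻¹ * (v⁻¹ * u * v) * r ∈ Q.B ↔ r⁻¹ * u * r ∈ Q.B := by
  obtain ⟨V, hV, hVB⟩ := h.exists_V hr
  rw [hV _ hu, hV _ (mul_mem (mul_mem (inv_mem hv) hu) hv)]
  constructor
  · intro h3
    have h4 := hVB v (h.split.le hv) _ h3
    have e2 : v * (v⁻¹ * u * v) * v⁻¹ = u := by group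
    rwa [e2] at h4
  · intro h3
    have h4 := hVB v⁻¹ (inv_mem (h.split.le hv)) _ h3
    rwa [inv_inv] at h4

/-- torus elements of `E` are induced by elements of `H`, up to conjugation under `U_E`. -/
theorem exists_acts_torus [Finite G] [Fact p.Prime] {H : Subgroup G} (D : Hall.HallData p B U H) {e : E}
    (he : e ∈ Q.B ⊓ Q.N) : ∃ x ∈ H, ∃ v ∈ UE, Acts B θ x (v * e * v⁻¹) := by
  obtain ⟨n, hn, hh⟩ := h.split.tor
  exact h.exists_acts_H D (mem_inf.1 he).1 hn (hh e (mem_inf.1 he).1 (mem_inf.1 he).2)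

/-- **The field `torus`** from the fact (T2). -/
theorem sep [Finite G] [Finite E] [Fact p.Prime] {H : Subgroup G} (D : Hall.HallData p B U H)
    (hS : SepE Q UE s t) : Sep B U H (P i) (P j) := by
  obtain ⟨e, he, h1, h2⟩ := hS
  obtain ⟨x, hx, v, hv, hxv⟩ := h.exists_acts_torus D he
  have heB := (mem_inf.1 he).1
  have hcU : ∀ u ∈ U, x * u * x⁻¹ * u⁻¹ ∈ U := fun u hu =>
    mul_mem ((Subgroup.mem_normalizer_iff.mp (D.H_norm_U hx) u).mp hu) (inv_mem hu)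
  have hact : ∀ u w, Acts B θ u w → Acts B θ (x * u * x⁻¹ * u⁻¹) (v * e * v⁻¹ * w * (v * e * v⁻¹)⁻¹ * w⁻¹) :=
    fun u w huw => h.acts_mul (h.acts_mul (h.acts_mul hxv huw) hxv.inv) huw.inv
  refine ⟨x, hx, fun u hu => ?_, fun u hu h3 => ?_⟩
  · obtain ⟨w, hw, huw⟩ := h.U_to u hu
    rw [h.mem_Qk_iff (Or.inl rfl) h.hs h.Pi (hcU u hu) (hact u w huw), h.comm_conj h.hs heB hv hw]
    exact h1 _ (mul_mem (mul_mem (inv_mem hv) hw) hv)
  · obtain ⟨w, hw, huw⟩ := h.U_to u hu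
    rw [h.mem_Qk_iff (Or.inr rfl) h.ht h.Pj (hcU u hu) (hact u w huw), h.comm_conj h.ht heB hv hw] at h3
    have h4 := h2 _ (mul_mem (mul_mem (inv_mem hv) hw) hv) h3
    rw [h.conj_V_iff h.ht hv hw] at h4
    rwa [h.mem_Qk_iff (Or.inr rfl) h.ht h.Pj hu huw]

/-- **The field `fix`** from the fact (T3). -/
theorem fix [Finite G] [Finite E] [Fact p.Prime] {H : Subgroup G} (D : Hall.HallData p B U H)
    (hS : FpfE Q UE s) : ∀ c ∈ U, c ∈ centralizer (H : Set G) → c ∈ Qk B (P i) := by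
  obtain ⟨e, he, h1⟩ := hS
  obtain ⟨x, hx, v, hv, hxv⟩ := h.exists_acts_torus D he
  have heB := (mem_inf.1 he).1
  intro c hc hcC
  obtain ⟨w, hw, hcw⟩ := h.U_to c hc
  have h2 : x * c * x⁻¹ * c⁻¹ = 1 := by
    rw [Subgroup.mem_centralizer_iff] at hcC
    rw [hcC x hx]; group
  have h3 : Acts B θ (x * c * x⁻¹ * c⁻¹) (v * e * v⁻¹ * w * (v * e * v⁻¹)⁻¹ * w⁻¹) :=
    h.acts_mul (h.acts_mul (h.acts_mul hxv hcw) hxv.inv) hcw.inv
  rw [h2] at h3
  have h4 := h.acts_unique h3 h.acts_one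
  have h5 := (h.comm_conj h.hs heB hv hw).1 (by
    rw [h4, mul_one, inv_mul_cancel]; exact one_mem _)
  have h6 := h1 _ (mul_mem (mul_mem (inv_mem hv) hw) hv) h5
  rw [h.conj_V_iff h.hs hv hw] at h6
  rwa [h.mem_Qk_iff (Or.inl rfl) h.hs h.Pi hc hcw]

end LinkPair

end Cfsg.Agent.ParSys

end

section


/-!
# The facts about the simple groups of Lie type of rank two which THEOREM PAR uses

`KPair p F Q UE s t`: the group `F` has a split (B,N)-pair `Q` of characteristic `p` and rank two with generators `s`, `t`,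
such that

* `irr` : `s`, `t` do not commute modulo `B` (the Weyl group is dihedral of order `2 m`, `m ≥ 3`);
* `one` (F1): the unipotent group is generated by its two fundamental root groups;
* `gen` (T1): the Borel subgroup is generated by the Borel subgroups of the two rank one groups `⟨UE, UE^s⟩`, `⟨UE, UE^t⟩`;
* `fpfs`, `fpft` (T3): an element of the torus is fixed-point-free on `UE / V_s`, one on `UE / V_t` (`FpfE`);
* `comm`: the torus is abelian.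

`SepE Q UE s t` (T2, `LinkPair.lean`): an element of the torus centralises `UE / V_s` and is fixed-point-free on
`UE / V_t`.  True for one of the two orders in every simple group of Lie type of rank two of characteristic two, except `L₃(4)`
(and the groups over `F₂`).
-/

set_option autoImplicit false

namespace Cfsg.Agent.ParSys

open Subgroup

variable {F : Type*} [Group F]

/-- the rank one group `⟨UE, UE^s⟩` -/
def Rone (UE : Subgroup F) (s : F) : Subgroup F := UE ⊔ UE.map (MulAut.conj s).toMonoidHom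

/-- **The facts about a group of Lie type of rank two.** -/
structure KPair (p : ℕ) (Q : Cfsg.BNPair F) (UE : Subgroup F) (s t : F) : Prop where
  split : FixBN.Split Q p UE
  S : Q.S = {s, t}
  ne : s ≠ t
  irr : s * t * s⁻¹ * t⁻¹ ∉ Q.B
  /-- (F1) -/
  one : FOne Q UE s t
  /-- (T1) -/
  gen : Q.B ≤ (Rone UE s ⊓ Q.B) ⊔ (Rone UE t ⊓ Q.B)
  /-- (T3) -/
  fpfs : FpfE Q UE s
  fpft : FpfE Q UE t
  comm : ∀ x ∈ Q.B, ∀ y ∈ Q.B, x * y * x⁻¹ * y⁻¹ ∈ UE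

/-- The torus of the rank one groups: cyclic modulo `UE`, and inverted by `s` (or by `t`) at one of the two nodes.
(At a node of type `L₂(q)` or `Sz(q)` the torus is inverted, at a node of type `U₃(q)` it is not.)  With `KPair` this gives
the same facts for the perfect central `p'`-extensions of `F` (`Central.lean`). -/
structure KTor (Q : Cfsg.BNPair F) (UE : Subgroup F) (s t : F) : Prop where
  cycs : ∃ c ∈ Rone UE s, c ∈ Q.B ∧ ∀ x ∈ Rone UE s, x ∈ Q.B → ∃ k : ℤ, x * c ^ k ∈ UE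
  cyct : ∃ c ∈ Rone UE t, c ∈ Q.B ∧ ∀ x ∈ Rone UE t, x ∈ Q.B → ∃ k : ℤ, x * c ^ k ∈ UE
  inv : (∀ x ∈ Rone UE s, x ∈ Q.B → x ∈ Q.N → s * x * s⁻¹ * x = 1) ∨
    (∀ x ∈ Rone UE t, x ∈ Q.B → x ∈ Q.N → t * x * t⁻¹ * x = 1)

/-- (T4): an element of the torus of the rank one group at `t` is fixed-point-free on `UE / V_s`.  True for both orders in
all families, except one order in `G₂(4)`. -/
def FpfR (Q : Cfsg.BNPair F) (UE : Subgroup F) (s t : F) : Prop :=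
  ∃ h ∈ Rone UE t, h ∈ Q.B ⊓ Q.N ∧ ∀ u ∈ UE, s⁻¹ * (h * u * h⁻¹ * u⁻¹) * s ∈ Q.B → s⁻¹ * u * s ∈ Q.B

/-- What is to be proved for the simple groups `L₃(q)`, `Sp₄(q)`, `U₄(q)`, `U₅(q)`, `G₂(q)`, `³D₄(q)`, `q ≥ 4` even, and
`²F₄(q)`, `q ≥ 8`. -/
def HasKPair (p : ℕ) (F : Type*) [Group F] : Prop :=
  ∃ (Q : Cfsg.BNPair F) (UE : Subgroup F) (s t : F), KPair p Q UE s t ∧ KTor Q UE s t

/-- The same with (T2). -/
def HasKPairSep (p : ℕ) (F : Type*) [Group F] : Prop :=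
  ∃ (Q : Cfsg.BNPair F) (UE : Subgroup F) (s t : F), KPair p Q UE s t ∧ KTor Q UE s t ∧
    (SepE Q UE s t ∨ SepE Q UE t s)

end Cfsg.Agent.ParSys

end
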