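import Cfsg.Agent.Mrg.ParSys.Core
import Cfsg.Agent.Mrg.ParSys.FreeTrans
import Cfsg.Agent.Mrg.ParSys.RootExc

section


/-!
# Positive roots of type `B_n` (`n = m + 1`) and `D_n` (`n = m + 2`) in `ε`-coordinates
-/

set_option autoImplicit false
set_option linter.unusedSectionVars false

namespace Cfsg.Agent.ParSys.RootEpsBD

open Cfsg.Agent.ChevalleyStructure.CoxeterGeom Cfsg.Agent.Tits.Core Cfsg.Agent.ParSys.RootCount
  Cfsg.Agent.ParSys.RootEps

/-! ### Common facts -/

theorem mem_plus' {n a b : ℕ} (hab : a ≠ b) (ha : a < n) (hb : b < n) : E a + E b ∈ plus n := by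
  rw [mem_plus]
  rcases lt_or_gt_of_ne hab with h | h
  · exact ⟨a, b, h, hb, rfl⟩
  · exact ⟨b, a, h, ha, add_comm _ _⟩

theorem mem_minus' {n a b : ℕ} (hab : a < b) (hb : b < n) : E a - E b ∈ minus n := by
  rw [mem_minus]; exact ⟨a, b, hab, hb, rfl⟩

theorem mem_short' {n a : ℕ} (ha : a < n) : E a ∈ short n := by
  rw [mem_short]; exact ⟨a, ha, rfl⟩

theorem S_minus {n : ℕ} {α : ℕ → ℤ} (h : α ∈ minus n) : S n α = 0 := by
  obtain ⟨i, j, h1, h2, rfl⟩ := mem_minus.1 h
  rw [map_sub, S_E, S_E, if_pos (by omega), if_pos h2, sub_self]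

theorem S_plus {n : ℕ} {α : ℕ → ℤ} (h : α ∈ plus n) : S n α = 2 := by
  obtain ⟨i, j, h1, h2, rfl⟩ := mem_plus.1 h
  rw [map_add, S_E, S_E, if_pos (by omega), if_pos h2]; rfl

theorem S_short {n : ℕ} {α : ℕ → ℤ} (h : α ∈ short n) : S n α = 1 := by
  obtain ⟨i, h1, rfl⟩ := mem_short.1 h
  rw [S_E, if_pos h1]

theorem disj_mp (n : ℕ) : Disjoint (minus n) (plus n) := by
  rw [Finset.disjoint_left]
  intro α h1 h2
  have h3 := S_minus h1
  rw [S_plus h2] at h3
  omega

section

open Classical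

/-- the positive roots of type `D` -/
noncomputable def rootsD (n : ℕ) : Finset (ℕ → ℤ) := minus n ∪ plus n

/-- the positive roots of type `B` -/
noncomputable def rootsB (n : ℕ) : Finset (ℕ → ℤ) := rootsD n ∪ short n

theorem mem_rootsD {n : ℕ} {α : ℕ → ℤ} : α ∈ rootsD n ↔ α ∈ minus n ∨ α ∈ plus n := by
  unfold rootsD; rw [Finset.mem_union]

theorem mem_rootsB {n : ℕ} {α : ℕ → ℤ} : α ∈ rootsB n ↔ α ∈ rootsD n ∨ α ∈ short n := by
  unfold rootsB; rw [Finset.mem_union]

theorem card_rootsD (n : ℕ) : (rootsD n).card = n * (n - 1) := by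
  unfold rootsD
  rw [Finset.card_union_of_disjoint (disj_mp n), card_minus, card_plus, ← card_pairs_two]
  ring

theorem disj_ds (n : ℕ) : Disjoint (rootsD n) (short n) := by
  rw [Finset.disjoint_left]
  intro α h1 h2
  have h3 := S_short h2
  rcases mem_rootsD.1 h1 with h4 | h4
  · rw [S_minus h4] at h3; omega
  · rw [S_plus h4] at h3; omega

theorem card_rootsB (n : ℕ) : (rootsB n).card = n * n := by
  unfold rootsB
  rw [Finset.card_union_of_disjoint (disj_ds n), card_rootsD, card_short]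
  rcases n with _ | n
  · rfl
  · simp only [Nat.add_sub_cancel]; ring

/-- the weight of type `B`: `x` on the roots `ε_i ± ε_j`, `y` on the roots `ε_i` -/
noncomputable def wtB {T : Type*} (n : ℕ) (x y : T) (α : ℕ → ℤ) : T := if Even (S n α) then x else y

theorem prod_rootsB {T : Type*} [CommMonoid T] (n : ℕ) (x y : T) :
    ∏ α ∈ rootsB n, wtB n x y α = x ^ (n * (n - 1)) * y ^ n := by
  unfold rootsB
  rw [Finset.prod_union (disj_ds n)]
  congr 1
  · rw [← card_rootsD, ← Finset.prod_const]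
    refine Finset.prod_congr rfl fun α hα => ?_
    unfold wtB
    rw [if_pos]
    rcases mem_rootsD.1 hα with h | h
    · rw [S_minus h]; exact Even.zero
    · rw [S_plus h]; exact even_two
  · rw [← Finset.prod_congr rfl (fun α hα => ?_), Finset.prod_const, card_short]
    unfold wtB
    rw [if_neg]
    rw [S_short hα]; decide

end

/-- swapping `i` and `i + 1` -/
def tau (i j : ℕ) : ℕ := if j = i then i + 1 else if j = i + 1 then i else j

theorem tau_ne {i a b : ℕ} (h : a ≠ b) : tau i a ≠ tau i b := by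
  unfold tau; split_ifs <;> omega

theorem tau_le {i a m : ℕ} (hi : i < m) (h : a ≤ m) : tau i a ≤ m := by
  unfold tau; split_ifs <;> omega

theorem tau_lt {i a b : ℕ} (h : a < b) (hne : ¬ (a = i ∧ b = i + 1)) : tau i a < tau i b := by
  unfold tau; split_ifs <;> omega

/-- the swapping reflection on `ε_j` -/
theorem swap_E {B : Type*} (a : B → ℕ → ℤ) (c : B → (ℕ → ℤ) →+ ℤ) (x : B) (i : ℕ)
    (ha : a x = E i - E (i + 1)) (hc : ∀ v, c x v = v i - v (i + 1)) (j : ℕ) :
    rho a c x (E j) = E (tau i j) := by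
  unfold rho tau
  rw [hc, ha]
  simp only [E_apply]
  by_cases h1 : j = i
  · subst h1
    rw [if_pos rfl, if_pos rfl, if_neg (by omega), sub_zero, one_smul]; abel
  · by_cases h2 : j = i + 1
    · subst h2
      rw [if_neg (by omega), if_neg h1, if_pos rfl, if_pos rfl, zero_sub, neg_smul, one_smul]; abel
    · rw [if_neg h1, if_neg h2, if_neg (Ne.symm h1), if_neg (Ne.symm h2), sub_zero, zero_smul, sub_zero]

/-! ### Type B -/

section B

variable {m : ℕ}

def aB (i : Fin (m + 1)) : ℕ → ℤ := if (i : ℕ) = m then E m else E i - E (i + 1)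
def cB (i : Fin (m + 1)) : (ℕ → ℤ) →+ ℤ := if (i : ℕ) = m then 2 • co m else co i - co (i + 1)

/-- type `B_{m+1}` -/
def TypeB (M : CoxeterMatrix (Fin (m + 1))) : Prop :=
  ∀ i j : Fin (m + 1), i ≠ j → M i j =
    if ((i : ℕ) + 1 = j ∧ (j : ℕ) = m) ∨ ((j : ℕ) + 1 = i ∧ (i : ℕ) = m) then 4
    else if (i : ℕ) + 1 = j ∨ (j : ℕ) + 1 = i then 3 else 2

theorem aB_lt {i : Fin (m + 1)} (h : (i : ℕ) < m) : aB i = E i - E (i + 1) := by
  unfold aB; rw [if_neg (by omega)]

theorem aB_last {i : Fin (m + 1)} (h : (i : ℕ) = m) : aB i = E m := by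
  unfold aB; rw [if_pos h]

theorem cB_lt {i : Fin (m + 1)} (h : (i : ℕ) < m) (v : ℕ → ℤ) : cB i v = v i - v (i + 1) := by
  unfold cB; rw [if_neg (by omega)]; rfl

theorem cB_last {i : Fin (m + 1)} (h : (i : ℕ) = m) (v : ℕ → ℤ) : cB i v = 2 * v m := by
  unfold cB; rw [if_pos h, AddMonoidHom.nsmul_apply, co_apply, nsmul_eq_mul]; rfl

theorem car_B (i j : Fin (m + 1)) : car aB cB i j =
    if i = j then 2
    else if ((i : ℕ) + 1 = j ∧ (j : ℕ) = m) then -1
    else if ((j : ℕ) + 1 = i ∧ (i : ℕ) = m) then -2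
    else if (i : ℕ) + 1 = j ∨ (j : ℕ) + 1 = i then -1 else 0 := by
  have hi := i.2
  have hj := j.2
  unfold car
  rcases Nat.lt_or_ge i m with h1 | h1 <;> rcases Nat.lt_or_ge j m with h2 | h2
  · rw [cB_lt h1, aB_lt h2]
    simp only [Pi.sub_apply, E_apply, Fin.ext_iff]
    split_ifs <;> omega
  · rw [cB_lt h1, aB_last (by omega)]
    simp only [E_apply, Fin.ext_iff]
    split_ifs <;> omega
  · rw [cB_last (by omega), aB_lt h2]
    simp only [Pi.sub_apply, E_apply, Fin.ext_iff]
    split_ifs <;> omega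
  · rw [cB_last (by omega), aB_last (by omega)]
    simp only [E_apply, Fin.ext_iff]
    split_ifs <;> omega

theorem isCartan_B {M : CoxeterMatrix (Fin (m + 1))} (hM : TypeB M) : IsCartan M (car (aB (m := m)) cB) where
  diag i := by rw [car_B, if_pos rfl]
  rel i j hij := by
    rw [hM i j hij, car_B, car_B, if_neg hij, if_neg (Ne.symm hij)]
    by_cases h1 : (i : ℕ) + 1 = j ∧ (j : ℕ) = m
    · rw [if_pos (Or.inl h1), if_pos h1, if_neg (by omega), if_pos h1]
      right; right; left; exact ⟨rfl, Or.inl ⟨rfl, rfl⟩⟩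
    · by_cases h2 : (j : ℕ) + 1 = i ∧ (i : ℕ) = m
      · rw [if_pos (Or.inr h2), if_neg h1, if_pos h2, if_pos h2]
        right; right; left; exact ⟨rfl, Or.inr ⟨rfl, rfl⟩⟩
      · rw [if_neg (by tauto), if_neg h1, if_neg h2, if_neg h2, if_neg h1]
        by_cases h : (i : ℕ) + 1 = j ∨ (j : ℕ) + 1 = i
        · rw [if_pos h, if_pos h, if_pos h.symm]; right; left; exact ⟨rfl, rfl, rfl⟩
        · rw [if_neg h, if_neg h, if_neg (fun h' => h h'.symm)]; left; exact ⟨rfl, rfl, rfl⟩

theorem rho_B_lt {i : Fin (m + 1)} (h : (i : ℕ) < m) (j : ℕ) : rho aB cB i (E j) = E (tau i j) :=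
  swap_E aB cB i i (aB_lt h) (cB_lt h) j

theorem rho_B_last {i : Fin (m + 1)} (h : (i : ℕ) = m) (j : ℕ) :
    rho aB cB i (E j) = if j = m then - E m else E j := by
  unfold rho
  rw [cB_last h, aB_last h]
  simp only [E_apply]
  by_cases h1 : j = m
  · subst h1
    rw [if_pos rfl, if_pos rfl, mul_one, two_smul]; abel
  · rw [if_neg h1, if_neg (Ne.symm h1), mul_zero, zero_smul, sub_zero]

theorem cone_B_short {i : ℕ} (hi : i ≤ m) : E i ∈ cone (aB (m := m)) := by
  have key : ∀ d i, i + d = m → E i ∈ cone (aB (m := m)) := by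
    intro d
    induction d with
    | zero =>
      intro i hi
      have := mem_cone aB (⟨m, by omega⟩ : Fin (m + 1))
      rw [aB_last rfl] at this
      obtain rfl : i = m := by omega
      exact this
    | succ d ih =>
      intro i hi
      have h1 := mem_cone aB (⟨i, by omega⟩ : Fin (m + 1))
      rw [aB_lt (show ((⟨i, by omega⟩ : Fin (m + 1)) : ℕ) < m by simp only; omega)] at h1
      have h2 := add_mem h1 (ih (i + 1) (by omega))
      have e : E i - E (i + 1) + E (i + 1) = E i := by abel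
      simp only at h2
      rwa [e] at h2
  exact key (m - i) i (by omega)

theorem cone_B_minus {i j : ℕ} (hij : i < j) (hj : j ≤ m) : E i - E j ∈ cone (aB (m := m)) := by
  induction j with
  | zero => omega
  | succ j ih =>
    have h1 := mem_cone aB (⟨j, by omega⟩ : Fin (m + 1))
    rw [aB_lt (show ((⟨j, by omega⟩ : Fin (m + 1)) : ℕ) < m by simp only; omega)] at h1
    simp only at h1
    rcases Nat.lt_or_ge i j with h | h
    · have h2 := add_mem (ih h (by omega)) h1
      have e : E i - E j + (E j - E (j + 1)) = E i - E (j + 1) := by abel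
      rwa [e] at h2
    · obtain rfl : i = j := by omega
      exact h1

theorem roots_B : Roots (car (aB (m := m)) cB) (lin aB) (rho aB cB) (rootsB (m + 1)) := by
  refine roots_mk aB cB (fun j => S (j + 1)) ?_ ?_ ?_ ?_ ?_ ?_
  · intro i j hij
    have hi := i.2
    have hj := j.2
    have : (i : ℕ) ≠ j := fun h => hij (Fin.ext h)
    rcases Nat.lt_or_ge i m with h1 | h1
    · rw [aB_lt h1, map_sub, S_E, S_E]
      split_ifs <;> omega
    · rw [aB_last (by omega), S_E]
      split_ifs <;> omega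
  · intro j
    have hj := j.2
    rcases Nat.lt_or_ge j m with h1 | h1
    · rw [aB_lt h1, map_sub, S_E, S_E]
      split_ifs <;> omega
    · rw [aB_last (by omega), S_E]
      split_ifs <;> omega
  · intro i
    have hi := i.2
    rw [mem_rootsB, mem_rootsD]
    rcases Nat.lt_or_ge i m with h1 | h1
    · rw [aB_lt h1]; exact Or.inl (Or.inl (mem_minus' (by omega) (by omega)))
    · rw [aB_last (by omega)]; exact Or.inr (mem_short' (by omega))
  · intro α hα
    rw [mem_rootsB, mem_rootsD, mem_minus, mem_plus, mem_short] at hα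
    rcases hα with (⟨i, j, h1, h2, rfl⟩ | ⟨i, j, h1, h2, rfl⟩) | ⟨i, h1, rfl⟩
    · exact cone_B_minus h1 (by omega)
    · exact add_mem (cone_B_short (by omega)) (cone_B_short (by omega))
    · exact cone_B_short (by omega)
  · intro h0
    rw [mem_rootsB, mem_rootsD, mem_minus, mem_plus, mem_short] at h0
    rcases h0 with (⟨i, j, h1, h2, h3⟩ | ⟨i, j, h1, h2, h3⟩) | ⟨i, h1, h3⟩
    · exact sub_ne_zero' (by omega) h3.symm
    · exact add_ne_zero' _ _ h3.symm
    · exact E_ne_zero _ h3.symm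
  · intro i α hα hne
    have hi := i.2
    rw [mem_rootsB, mem_rootsD, mem_minus, mem_plus, mem_short] at hα
    rw [mem_rootsB, mem_rootsD]
    rcases Nat.lt_or_ge i m with h0 | h0
    · rw [aB_lt h0] at hne
      rcases hα with (⟨a, b, h1, h2, rfl⟩ | ⟨a, b, h1, h2, rfl⟩) | ⟨a, h1, rfl⟩
      · left; left
        rw [rho_sub, rho_B_lt h0, rho_B_lt h0]
        refine mem_minus' (tau_lt h1 ?_) (Nat.lt_succ_of_le (tau_le h0 (by omega)))
        rintro ⟨rfl, rfl⟩; exact hne rfl
      · left; right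
        rw [rho_add, rho_B_lt h0, rho_B_lt h0]
        exact mem_plus' (tau_ne (by omega)) (Nat.lt_succ_of_le (tau_le h0 (by omega)))
          (Nat.lt_succ_of_le (tau_le h0 (by omega)))
      · right
        rw [rho_B_lt h0]
        exact mem_short' (Nat.lt_succ_of_le (tau_le h0 (by omega)))
    · have h0' : (i : ℕ) = m := by omega
      rw [aB_last h0'] at hne
      rcases hα with (⟨a, b, h1, h2, rfl⟩ | ⟨a, b, h1, h2, rfl⟩) | ⟨a, h1, rfl⟩
      · left
        rw [rho_sub, rho_B_last h0', rho_B_last h0', if_neg (by omega)]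
        by_cases hb : b = m
        · rw [if_pos hb, sub_neg_eq_add]; right
          exact mem_plus' (by omega) (by omega) (by omega)
        · rw [if_neg hb]; left
          exact mem_minus' h1 h2
      · left
        rw [rho_add, rho_B_last h0', rho_B_last h0', if_neg (by omega)]
        by_cases hb : b = m
        · rw [if_pos hb, ← sub_eq_add_neg]; left
          exact mem_minus' (by omega) (by omega)
        · rw [if_neg hb]; right
          exact mem_plus' (by omega) (by omega) h2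
      · right
        rw [rho_B_last h0']
        by_cases ha : a = m
        · subst ha; exact absurd rfl hne
        · rw [if_neg ha]; exact mem_short' h1

theorem wtB_rho {T : Type*} (x y : T) (i : Fin (m + 1)) (α : ℕ → ℤ) :
    wtB (m + 1) x y (rho aB cB i α) = wtB (m + 1) x y α := by
  have hi := i.2
  have key : Even (S (m + 1) (rho aB cB i α)) ↔ Even (S (m + 1) α) := by
    unfold rho
    rw [map_sub, map_zsmul, smul_eq_mul]
    rcases Nat.lt_or_ge i m with h0 | h0
    · rw [aB_lt h0, map_sub, S_E, S_E, if_pos (by omega), if_pos (by omega), sub_self, mul_zero, sub_zero]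
    · rw [cB_last (by omega), mul_assoc, Int.even_sub]
      simp
  unfold wtB
  simp only [key]

end B

/-! ### Type D -/

section D

variable {m : ℕ}

def aD (i : Fin (m + 2)) : ℕ → ℤ := if (i : ℕ) = m + 1 then E m + E (m + 1) else E i - E (i + 1)
def cD (i : Fin (m + 2)) : (ℕ → ℤ) →+ ℤ := if (i : ℕ) = m + 1 then co m + co (m + 1) else co i - co (i + 1)

/-- type `D_{m+2}`: the last node is joined with the node `m - 1` -/
def TypeD (M : CoxeterMatrix (Fin (m + 2))) : Prop :=
  ∀ i j : Fin (m + 2), i ≠ j → M i j =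
    if ((i : ℕ) + 1 = j ∧ (j : ℕ) ≤ m) ∨ ((j : ℕ) + 1 = i ∧ (i : ℕ) ≤ m) ∨
      ((i : ℕ) + 2 = j ∧ (j : ℕ) = m + 1) ∨ ((j : ℕ) + 2 = i ∧ (i : ℕ) = m + 1) then 3 else 2

theorem aD_lt {i : Fin (m + 2)} (h : (i : ℕ) ≤ m) : aD i = E i - E (i + 1) := by
  unfold aD; rw [if_neg (by omega)]

theorem aD_last {i : Fin (m + 2)} (h : (i : ℕ) = m + 1) : aD i = E m + E (m + 1) := by
  unfold aD; rw [if_pos h]

theorem cD_lt {i : Fin (m + 2)} (h : (i : ℕ) ≤ m) (v : ℕ → ℤ) : cD i v = v i - v (i + 1) := by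
  unfold cD; rw [if_neg (by omega)]; rfl

theorem cD_last {i : Fin (m + 2)} (h : (i : ℕ) = m + 1) (v : ℕ → ℤ) : cD i v = v m + v (m + 1) := by
  unfold cD; rw [if_pos h]; rfl

theorem car_D (i j : Fin (m + 2)) : car aD cD i j =
    if i = j then 2
    else if ((i : ℕ) + 1 = j ∧ (j : ℕ) ≤ m) ∨ ((j : ℕ) + 1 = i ∧ (i : ℕ) ≤ m) ∨
      ((i : ℕ) + 2 = j ∧ (j : ℕ) = m + 1) ∨ ((j : ℕ) + 2 = i ∧ (i : ℕ) = m + 1) then -1 else 0 := by
  have hi := i.2
  have hj := j.2
  unfold car
  rcases Nat.lt_or_ge i (m + 1) with h1 | h1 <;> rcases Nat.lt_or_ge j (m + 1) with h2 | h2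
  · rw [cD_lt (by omega), aD_lt (by omega)]
    simp only [Pi.sub_apply, E_apply, Fin.ext_iff]
    split_ifs <;> omega
  · rw [cD_lt (by omega), aD_last (by omega)]
    simp only [Pi.add_apply, E_apply, Fin.ext_iff]
    split_ifs <;> omega
  · rw [cD_last (by omega), aD_lt (by omega)]
    simp only [Pi.sub_apply, E_apply, Fin.ext_iff]
    split_ifs <;> omega
  · rw [cD_last (by omega), aD_last (by omega)]
    simp only [Pi.add_apply, E_apply, Fin.ext_iff]
    split_ifs <;> omega

theorem isCartan_D {M : CoxeterMatrix (Fin (m + 2))} (hM : TypeD M) : IsCartan M (car (aD (m := m)) cD) where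
  diag i := by rw [car_D, if_pos rfl]
  rel i j hij := by
    rw [hM i j hij, car_D, car_D, if_neg hij, if_neg (Ne.symm hij)]
    by_cases h : ((i : ℕ) + 1 = j ∧ (j : ℕ) ≤ m) ∨ ((j : ℕ) + 1 = i ∧ (i : ℕ) ≤ m) ∨
      ((i : ℕ) + 2 = j ∧ (j : ℕ) = m + 1) ∨ ((j : ℕ) + 2 = i ∧ (i : ℕ) = m + 1)
    · rw [if_pos h, if_pos h, if_pos (by tauto)]; right; left; exact ⟨rfl, rfl, rfl⟩
    · rw [if_neg h, if_neg h, if_neg (by tauto)]; left; exact ⟨rfl, rfl, rfl⟩

theorem rho_D_lt {i : Fin (m + 2)} (h : (i : ℕ) ≤ m) (j : ℕ) : rho aD cD i (E j) = E (tau i j) :=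
  swap_E aD cD i i (aD_lt h) (cD_lt h) j

theorem rho_D_last {i : Fin (m + 2)} (h : (i : ℕ) = m + 1) (j : ℕ) :
    rho aD cD i (E j) = if j = m then - E (m + 1) else if j = m + 1 then - E m else E j := by
  unfold rho
  rw [cD_last h, aD_last h]
  simp only [E_apply]
  by_cases h1 : j = m
  · subst h1
    rw [if_pos rfl, if_neg (by omega), if_pos rfl, add_zero, one_smul]; abel
  · by_cases h2 : j = m + 1
    · subst h2
      rw [if_neg (by omega), if_pos rfl, if_neg h1, if_pos rfl, zero_add, one_smul]; abel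
    · rw [if_neg h1, if_neg h2, if_neg (Ne.symm h1), if_neg (Ne.symm h2), add_zero, zero_smul, sub_zero]

theorem cone_D_minus {i j : ℕ} (hij : i < j) (hj : j ≤ m + 1) : E i - E j ∈ cone (aD (m := m)) := by
  induction j with
  | zero => omega
  | succ j ih =>
    have h1 := mem_cone aD (⟨j, by omega⟩ : Fin (m + 2))
    rw [aD_lt (show ((⟨j, by omega⟩ : Fin (m + 2)) : ℕ) ≤ m by simp only; omega)] at h1
    simp only at h1
    rcases Nat.lt_or_ge i j with h | h
    · have h2 := add_mem (ih h (by omega)) h1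
      have e : E i - E j + (E j - E (j + 1)) = E i - E (j + 1) := by abel
      rwa [e] at h2
    · obtain rfl : i = j := by omega
      exact h1

theorem cone_D_plus {i j : ℕ} (hij : i < j) (hj : j ≤ m + 1) : E i + E j ∈ cone (aD (m := m)) := by
  have h0 := mem_cone aD (⟨m + 1, by omega⟩ : Fin (m + 2))
  rw [aD_last rfl] at h0
  have h1 : E i + E (m + 1) ∈ cone (aD (m := m)) := by
    rcases Nat.lt_or_ge i m with h | h
    · have h2 := add_mem (cone_D_minus (m := m) h (by omega)) h0
      have e : E i - E m + (E m + E (m + 1)) = E i + E (m + 1) := by abel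
      rwa [e] at h2
    · obtain rfl : i = m := by omega
      exact h0
  rcases Nat.lt_or_ge j (m + 1) with h | h
  · have h2 := add_mem h1 (cone_D_minus (m := m) h le_rfl)
    have e : E i + E (m + 1) + (E j - E (m + 1)) = E i + E j := by abel
    rwa [e] at h2
  · obtain rfl : j = m + 1 := by omega
    exact h1

/-- the dual functionals -/
def omD (j : Fin (m + 2)) : (ℕ → ℤ) →+ ℤ :=
  if (j : ℕ) = m then S (m + 1) - co (m + 1) else S (j + 1)

theorem roots_D : Roots (car (aD (m := m)) cD) (lin aD) (rho aD cD) (rootsD (m + 2)) := by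
  refine roots_mk aD cD omD ?_ ?_ ?_ ?_ ?_ ?_
  · intro i j hij
    have hi := i.2
    have hj := j.2
    have : (i : ℕ) ≠ j := fun h => hij (Fin.ext h)
    unfold omD
    rcases Nat.lt_or_ge i (m + 1) with h1 | h1
    · rw [aD_lt (by omega)]
      by_cases h2 : (j : ℕ) = m
      · rw [if_pos h2, AddMonoidHom.sub_apply, map_sub, map_sub, S_E, S_E, co_apply, co_apply, E_apply, E_apply]
        split_ifs <;> omega
      · rw [if_neg h2, map_sub, S_E, S_E]
        split_ifs <;> omega
    · rw [aD_last (by omega)]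
      by_cases h2 : (j : ℕ) = m
      · rw [if_pos h2, AddMonoidHom.sub_apply, map_add, map_add, S_E, S_E, co_apply, co_apply, E_apply, E_apply]
        split_ifs <;> omega
      · rw [if_neg h2, map_add, S_E, S_E]
        split_ifs <;> omega
  · intro j
    have hj := j.2
    unfold omD
    rcases Nat.lt_or_ge j (m + 1) with h1 | h1
    · rw [aD_lt (by omega)]
      by_cases h2 : (j : ℕ) = m
      · rw [if_pos h2, AddMonoidHom.sub_apply, map_sub, map_sub, S_E, S_E, co_apply, co_apply, E_apply, E_apply]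
        split_ifs <;> omega
      · rw [if_neg h2, map_sub, S_E, S_E]
        split_ifs <;> omega
    · rw [aD_last (by omega), if_neg (by omega), map_add, S_E, S_E]
      split_ifs <;> omega
  · intro i
    have hi := i.2
    rw [mem_rootsD]
    rcases Nat.lt_or_ge i (m + 1) with h1 | h1
    · rw [aD_lt (by omega)]; exact Or.inl (mem_minus' (by omega) (by omega))
    · rw [aD_last (by omega)]; exact Or.inr (mem_plus' (by omega) (by omega) (by omega))
  · intro α hα
    rw [mem_rootsD, mem_minus, mem_plus] at hα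
    rcases hα with ⟨i, j, h1, h2, rfl⟩ | ⟨i, j, h1, h2, rfl⟩
    · exact cone_D_minus h1 (by omega)
    · exact cone_D_plus h1 (by omega)
  · intro h0
    rw [mem_rootsD, mem_minus, mem_plus] at h0
    rcases h0 with ⟨i, j, h1, h2, h3⟩ | ⟨i, j, h1, h2, h3⟩
    · exact sub_ne_zero' (by omega) h3.symm
    · exact add_ne_zero' _ _ h3.symm
  · intro i α hα hne
    have hi := i.2
    rw [mem_rootsD, mem_minus, mem_plus] at hα
    rw [mem_rootsD]
    rcases Nat.lt_or_ge i (m + 1) with h0 | h0
    · have h0 : (i : ℕ) ≤ m := by omega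
      rw [aD_lt h0] at hne
      rcases hα with ⟨a, b, h1, h2, rfl⟩ | ⟨a, b, h1, h2, rfl⟩
      · left
        rw [rho_sub, rho_D_lt h0, rho_D_lt h0]
        refine mem_minus' (tau_lt h1 ?_) (Nat.lt_succ_of_le (tau_le (m := m + 1) (by omega) (by omega)))
        rintro ⟨rfl, rfl⟩; exact hne rfl
      · right
        rw [rho_add, rho_D_lt h0, rho_D_lt h0]
        exact mem_plus' (tau_ne (by omega)) (Nat.lt_succ_of_le (tau_le (m := m + 1) (by omega) (by omega)))
          (Nat.lt_succ_of_le (tau_le (m := m + 1) (by omega) (by omega)))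
    · have h0' : (i : ℕ) = m + 1 := by omega
      rw [aD_last h0'] at hne
      rcases hα with ⟨a, b, h1, h2, rfl⟩ | ⟨a, b, h1, h2, rfl⟩
      · rw [rho_sub, rho_D_last h0', rho_D_last h0']
        by_cases ha : a = m
        · obtain rfl : b = m + 1 := by omega
          left
          rw [if_pos ha, if_neg (by omega), if_pos rfl]
          have e : -E (m + 1) - -E m = E m - E (m + 1) := by abel
          rw [e]; exact mem_minus' (by omega) (by omega)
        · rw [if_neg ha, if_neg (by omega)]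
          by_cases hb : b = m
          · right
            rw [if_pos hb, sub_neg_eq_add]; exact mem_plus' (by omega) (by omega) (by omega)
          · rw [if_neg hb]
            by_cases hb' : b = m + 1
            · right
              rw [if_pos hb', sub_neg_eq_add]; exact mem_plus' (by omega) (by omega) (by omega)
            · left
              rw [if_neg hb']; exact mem_minus' h1 h2
      · rw [rho_add, rho_D_last h0', rho_D_last h0']
        by_cases ha : a = m
        · obtain rfl : b = m + 1 := by omega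
          subst ha; exact absurd rfl hne
        · rw [if_neg ha, if_neg (by omega)]
          by_cases hb : b = m
          · left
            rw [if_pos hb, ← sub_eq_add_neg]; exact mem_minus' (by omega) (by omega)
          · rw [if_neg hb]
            by_cases hb' : b = m + 1
            · left
              rw [if_pos hb', ← sub_eq_add_neg]; exact mem_minus' (by omega) (by omega)
            · right
              rw [if_neg hb']; exact mem_plus' (by omega) (by omega) h2

end D

end Cfsg.Agent.ParSys.RootEpsBD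

end

section


/-!
# THEOREM FREE: the number `q_{w₀}` for the irreducible spherical diagrams

`HasQ M q N` : the Coxeter group of `M` is finite and the product of the `q i` along a reduced word of `w₀` is `N`.
`HasQ.exists_bnPair` : a system (`Free.Sys`) of type `M` with `|U| = N` is a (B,N)-pair.
`conn_of_parent` : connectedness of a diagram.
-/

set_option autoImplicit false

namespace Cfsg.Agent.ParSys.FreeCount

open Cfsg.Agent.ChevalleyStructure.CoxeterGeom Cfsg.Agent.Tits.Core Cfsg.Agent.ParSys.RootCount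
  Cfsg.Agent.ParSys.RootEps Cfsg.Agent.ParSys.RootEpsBD Cfsg.Agent.ParSys.RootExc

variable {I : Type*}

/-! ### Reindexing -/

section reindex

variable {J : Type*} {M : CoxeterMatrix I} {W : Type*} [Group W] (cs : CoxeterSystem M W) (e : I ≃ J)

theorem wordProd_reindex (F : List I) : (cs.reindex e).wordProd (F.map e) = cs.wordProd F := by
  unfold CoxeterSystem.wordProd
  rw [List.map_map]
  congr 1
  refine List.map_congr_left fun i _ => ?_
  rw [Function.comp_apply, CoxeterSystem.reindex_simple, Equiv.symm_apply_apply]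

theorem length_reindex (w : W) : (cs.reindex e).length w = cs.length w := by
  apply le_antisymm
  · obtain ⟨F, hF, rfl⟩ := cs.exists_isReduced w
    have h1 := (cs.reindex e).length_wordProd_le (F.map e)
    rw [wordProd_reindex, List.length_map] at h1
    rw [hF.eq]; exact h1
  · obtain ⟨F, hF, rfl⟩ := (cs.reindex e).exists_isReduced w
    have h2 : (cs.reindex e).wordProd F = cs.wordProd (F.map e.symm) := by
      rw [← wordProd_reindex cs e, List.map_map]
      simp
    have h1 := cs.length_wordProd_le (F.map e.symm)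
    rw [List.length_map] at h1
    rw [hF.eq, h2]; exact h1

theorem isReduced_reindex {F : List I} (hF : cs.IsReduced F) : (cs.reindex e).IsReduced (F.map e) := by
  unfold CoxeterSystem.IsReduced at hF ⊢
  rw [wordProd_reindex, length_reindex, List.length_map]
  exact hF

theorem w0_reindex [Finite W] : w0 (cs.reindex e) = w0 cs := by
  symm
  apply Tits.Exchange.eq_w0_of_length
  rw [length_reindex, length_reindex]
  exact Tits.Exchange.length_le_w0 cs _

end reindex

/-! ### The invariant -/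

/-- the Coxeter group of `M` is finite and the product of the `q i` along a reduced word of `w₀` is `N` -/
def HasQ (M : CoxeterMatrix I) (q : I → ℕ) (N : ℕ) : Prop :=
  Finite M.Group ∧ ∀ F : List I, M.toCoxeterSystem.IsReduced F →
    M.toCoxeterSystem.wordProd F = w0 M.toCoxeterSystem → (F.map q).prod = N

variable {M : CoxeterMatrix I} {q : I → ℕ} {N : ℕ}

/-- **THEOREM FREE** with the number `q_{w₀}` known -/
theorem HasQ.exists_bnPair {G : Type*} [Group G] [Finite G] [Finite I] (hM : HasQ M q N)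
    {B : Subgroup G} {P : I → Subgroup G} {U : Subgroup G}
    (h : Free.Sys M.toCoxeterSystem B P U q) (hcard : Nat.card U = N) :
    ∃ Q : Cfsg.BNPair G, Q.B = B ∧ Q.rank = Nat.card I ∧ (∃ e : I ≃ Q.S, ∀ i, (e i : G) ∈ P i) ∧
      ((∀ J : Set I, J.Nonempty → Jᶜ.Nonempty → ∃ i ∈ J, ∃ j ∈ Jᶜ, M i j ≠ 2) → Q.Irreducible) := by
  have := hM.1
  obtain ⟨F, hF, he⟩ := M.toCoxeterSystem.exists_isReduced (w0 M.toCoxeterSystem)
  exact h.exists_bnPair hF he.symm (by rw [hcard, hM.2 F hF he.symm])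

/-- the bound for `|U|` -/
theorem HasQ.card_le {G : Type*} [Group G] [Finite G] [Finite I] (hM : HasQ M q N)
    {B : Subgroup G} {P : I → Subgroup G} {U : Subgroup G}
    (h : Free.Sys M.toCoxeterSystem B P U q) : Nat.card U ≤ N := by
  have := hM.1
  obtain ⟨F, hF, he⟩ := M.toCoxeterSystem.exists_isReduced (w0 M.toCoxeterSystem)
  have := h.card_le hF he.symm
  rwa [hM.2 F hF he.symm] at this

/-- transport to an arbitrary index set -/
theorem hasQ_of_fin {n : ℕ} (e : I ≃ Fin n) {A : Fin n → Fin n → ℤ} (hA : IsCartan (M.reindex e) A)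
    {L : Type*} [AddCommGroup L] {f : (Fin n → ℤ) →+ L} {ρ : Fin n → L → L} {Φ : Finset L}
    (hΦ : Roots A f ρ Φ) (wt : L → ℕ)
    (hwt : ∀ i, ∀ α ∈ Φ, α ≠ f (Pi.single i 1) → wt (ρ i α) = wt α)
    (hq : ∀ i, q i = wt (f (Pi.single (e i) 1))) (hN : ∏ α ∈ Φ, wt α = N) : HasQ M q N := by
  have hfin : Finite M.Group := hΦ.finite hA (M.toCoxeterSystem.reindex e)
  refine ⟨hfin, fun F hF hw => ?_⟩
  have h1 := hΦ.prod_w0 hA (M.toCoxeterSystem.reindex e) wt hwt (F.map e)
    (isReduced_reindex _ e hF) (by rw [wordProd_reindex, w0_reindex, hw])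
  rw [List.map_map, hN] at h1
  rw [← h1]
  congr 1
  exact List.map_congr_left fun i _ => hq i

theorem hasQ_of_pos {n : ℕ} (e : I ≃ Fin n) {A : Fin n → Fin n → ℤ} (hA : IsCartan (M.reindex e) A)
    {R : Finset (Fin n → ℤ)} (hR : PosRoots A R) (wt : (Fin n → ℤ) → ℕ)
    (hwt : ∀ i, ∀ v ∈ R, v ≠ Pi.single i 1 → wt (refl A i v) = wt v)
    (hq : ∀ i, q i = wt (Pi.single (e i) 1)) (hN : ∏ v ∈ R, wt v = N) : HasQ M q N := by
  have hfin : Finite M.Group := hR.finite hA (M.toCoxeterSystem.reindex e)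
  refine ⟨hfin, fun F hF hw => ?_⟩
  have h1 := hR.prod_w0 hA (M.toCoxeterSystem.reindex e) wt hwt (F.map e)
    (isReduced_reindex _ e hF) (by rw [wordProd_reindex, w0_reindex, hw])
  rw [List.map_map, hN] at h1
  rw [← h1]
  congr 1
  exact List.map_congr_left fun i _ => hq i

/-! ### The diagrams -/

/-- type `A_n` -/
theorem hasQ_A {n : ℕ} (e : I ≃ Fin n) (hM : TypeA (M.reindex e)) {x : ℕ} (hq : ∀ i, q i = x) :
    HasQ M q (x ^ (n * (n + 1) / 2)) := by
  refine hasQ_of_fin e (isCartan_A hM) roots_A (fun _ => x) (fun _ _ _ _ => rfl) hq ?_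
  rw [Finset.prod_const, card_minus, card_pairs, Nat.add_sub_cancel, mul_comm]

/-- type `B_n`, `n = m + 1`: the last node has the parameter `y` -/
theorem hasQ_B {m : ℕ} (e : I ≃ Fin (m + 1)) (hM : TypeB (M.reindex e)) {x y : ℕ}
    (hq : ∀ i, q i = if (e i : ℕ) = m then y else x) : HasQ M q (x ^ ((m + 1) * m) * y ^ (m + 1)) := by
  refine hasQ_of_fin e (isCartan_B hM) roots_B (wtB (m + 1) x y) (fun i α _ _ => wtB_rho x y i α) ?_ ?_
  · intro i
    rw [hq, lin_single, one_smul]
    have hi := (e i).2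
    rcases Nat.lt_or_ge (e i) m with h | h
    · have h1 : S (m + 1) (aB (e i)) = 0 := by
        rw [aB_lt h, map_sub, S_E, S_E, if_pos (by omega), if_pos (by omega), sub_self]
      rw [if_neg (show ¬ (e i : ℕ) = m by omega)]
      unfold wtB
      rw [h1, if_pos Even.zero]
    · have h1 : S (m + 1) (aB (e i)) = 1 := by
        rw [aB_last (show (e i : ℕ) = m by omega), S_E, if_pos (by omega)]
      rw [if_pos (show (e i : ℕ) = m by omega)]
      unfold wtB
      rw [h1, if_neg (by decide)]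
  · rw [prod_rootsB]; rfl

/-- type `D_n`, `n = m + 2` -/
theorem hasQ_D {m : ℕ} (e : I ≃ Fin (m + 2)) (hM : TypeD (M.reindex e)) {x : ℕ} (hq : ∀ i, q i = x) :
    HasQ M q (x ^ ((m + 2) * (m + 1))) := by
  refine hasQ_of_fin e (isCartan_D hM) roots_D (fun _ => x) (fun _ _ _ _ => rfl) hq ?_
  rw [Finset.prod_const, card_rootsD]; rfl

/-- the weight of type `F₄` -/
def longF (v : Fin 4 → ℤ) : Bool := v 2 % 2 == 0 && v 3 % 2 == 0

theorem longF_refl : ∀ i, ∀ v ∈ LF4, v ≠ Pi.single i 1 → longF (refl AF4 i v) = longF v := by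
  decide +kernel

theorem count_long : (LF4.filter fun v => longF v).length = 12 := by decide +kernel
theorem count_short : (LF4.filter fun v => !longF v).length = 12 := by decide +kernel
theorem nodup_F4 : LF4.Nodup := by decide +kernel

theorem prod_F4 (x y : ℕ) : ∏ v ∈ RF4, (if longF v then x else y) = x ^ 12 * y ^ 12 := by
  rw [Finset.prod_ite, Finset.prod_const, Finset.prod_const]
  have h1 : (RF4.filter fun v => longF v = true).card = 12 := by
    unfold RF4
    rw [← List.toFinset_filter, List.toFinset_card_of_nodup (nodup_F4.filter _)]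
    simpa using count_long
  have h2 : (RF4.filter fun v => ¬ longF v = true).card = 12 := by
    have h3 := Finset.card_filter_add_card_filter_not (s := RF4) (fun v => longF v = true)
    rw [h1, card_F4] at h3
    omega
  rw [h1, h2]

/-- type `F₄`: the nodes `0, 1` have the parameter `x`, the nodes `2, 3` the parameter `y` -/
theorem hasQ_F4 (e : I ≃ Fin 4) (hM : M.reindex e = CoxeterMatrix.F₄) {x y : ℕ}
    (hq : ∀ i, q i = if (e i : ℕ) < 2 then x else y) : HasQ M q (x ^ 12 * y ^ 12) := by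
  refine hasQ_of_pos e (hM ▸ isCartan_F4) posRoots_F4 (fun v => if longF v then x else y) ?_ ?_
    (prod_F4 x y)
  · intro i v hv hne
    show (if longF (refl AF4 i v) then x else y) = if longF v then x else y
    rw [longF_refl i v (List.mem_toFinset.1 hv) hne]
  · intro i
    rw [hq]
    have key : ∀ k : Fin 4, longF (Pi.single k 1) = decide ((k : ℕ) < 2) := by decide
    rw [key]
    simp

theorem hasQ_E6 (e : I ≃ Fin 6) (hM : M.reindex e = CoxeterMatrix.E₆) {x : ℕ} (hq : ∀ i, q i = x) :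
    HasQ M q (x ^ 36) := by
  refine hasQ_of_pos e (hM ▸ isCartan_E6) posRoots_E6 (fun _ => x) (fun _ _ _ _ => rfl) hq ?_
  rw [Finset.prod_const, card_E6]

theorem hasQ_E7 (e : I ≃ Fin 7) (hM : M.reindex e = CoxeterMatrix.E₇) {x : ℕ} (hq : ∀ i, q i = x) :
    HasQ M q (x ^ 63) := by
  refine hasQ_of_pos e (hM ▸ isCartan_E7) posRoots_E7 (fun _ => x) (fun _ _ _ _ => rfl) hq ?_
  rw [Finset.prod_const, card_E7]

theorem hasQ_E8 (e : I ≃ Fin 8) (hM : M.reindex e = CoxeterMatrix.E₈) {x : ℕ} (hq : ∀ i, q i = x) :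
    HasQ M q (x ^ 120) := by
  refine hasQ_of_pos e (hM ▸ isCartan_E8) posRoots_E8 (fun _ => x) (fun _ _ _ _ => rfl) hq ?_
  rw [Finset.prod_const, card_E8]

/-! ### Connectedness -/

/-- a diagram in which every node but one is joined with a node of smaller rank is connected -/
theorem conn_of_rank {J₀ : Type*} (e : I ≃ J₀) (r : J₀ → ℕ) (o : J₀)
    (h : ∀ k : J₀, k ≠ o → ∃ l : J₀, r l < r k ∧ M.reindex e k l ≠ 2) :
    ∀ J : Set I, J.Nonempty → Jᶜ.Nonempty → ∃ i ∈ J, ∃ j ∈ Jᶜ, M i j ≠ 2 := by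
  intro J hJ hJ'
  have key : ∀ T : Set J₀, T.Nonempty → Tᶜ.Nonempty →
      ∃ i ∈ T, ∃ j ∈ Tᶜ, M.reindex e i j ≠ 2 := by
    intro T hT hT'
    by_contra hcon
    push Not at hcon
    obtain ⟨a, ha⟩ := hT
    obtain ⟨b, hb⟩ := hT'
    have hsym : ∀ i j, M.reindex e i j = M.reindex e j i := fun i j => (M.reindex e).symmetric i j
    have hall : ∀ (m : ℕ) (k : J₀), r k = m → (k ∈ T ↔ o ∈ T) := by
      intro m
      induction m using Nat.strong_induction_on with
      | _ m ih =>
        intro k hk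
        by_cases hko : k = o
        · rw [hko]
        · obtain ⟨l, hl, hne⟩ := h k hko
          have h1 := ih (r l) (by omega) l rfl
          rw [← h1]
          constructor
          · intro h2
            by_contra h3
            exact hne (hcon _ h2 l h3)
          · intro h2
            by_contra h3
            exact hne (by rw [hsym]; exact hcon l h2 _ h3)
    exact hb ((hall _ b rfl).2 ((hall _ a rfl).1 ha))
  obtain ⟨i, hi, j, hj, hij⟩ := key (e '' J) (hJ.image e) (by
    obtain ⟨x, hx⟩ := hJ'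
    exact ⟨e x, fun ⟨y, hy, hxy⟩ => hx (e.injective hxy ▸ hy)⟩)
  obtain ⟨x, hx, rfl⟩ := hi
  refine ⟨x, hx, e.symm j, fun h3 => hj ⟨_, h3, e.apply_symm_apply j⟩, ?_⟩
  rw [CoxeterMatrix.reindex_apply, Equiv.symm_apply_apply] at hij
  exact hij

/-- a diagram in which every node `k > 0` is joined with a smaller node is connected -/
theorem conn_of_parent {n : ℕ} (e : I ≃ Fin n)
    (h : ∀ k : Fin n, 0 < (k : ℕ) → ∃ l : Fin n, (l : ℕ) < k ∧ M.reindex e k l ≠ 2) :
    ∀ J : Set I, J.Nonempty → Jᶜ.Nonempty → ∃ i ∈ J, ∃ j ∈ Jᶜ, M i j ≠ 2 := by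
  intro J hJ hJ'
  have hn : 0 < n := by
    obtain ⟨x, -⟩ := hJ
    exact lt_of_le_of_lt (Nat.zero_le _) (e x).2
  refine conn_of_rank e (fun k => (k : ℕ)) ⟨0, hn⟩ (fun k hk => h k ?_) J hJ hJ'
  rcases Nat.eq_zero_or_pos (k : ℕ) with h0 | h0
  · exact absurd (Fin.ext h0) hk
  · exact h0

theorem conn_A {n : ℕ} (e : I ≃ Fin n) (hM : TypeA (M.reindex e)) :
    ∀ J : Set I, J.Nonempty → Jᶜ.Nonempty → ∃ i ∈ J, ∃ j ∈ Jᶜ, M i j ≠ 2 := by
  refine conn_of_parent e fun k hk => ⟨⟨k - 1, by omega⟩, by simp only; omega, ?_⟩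
  rw [hM _ _ (fun h => by rw [Fin.ext_iff] at h; simp only at h; omega), if_pos (by simp only; omega)]
  decide

theorem conn_B {m : ℕ} (e : I ≃ Fin (m + 1)) (hM : TypeB (M.reindex e)) :
    ∀ J : Set I, J.Nonempty → Jᶜ.Nonempty → ∃ i ∈ J, ∃ j ∈ Jᶜ, M i j ≠ 2 := by
  refine conn_of_parent e fun k hk => ⟨⟨k - 1, by omega⟩, by simp only; omega, ?_⟩
  rw [hM _ _ (fun h => by rw [Fin.ext_iff] at h; simp only at h; omega)]
  split_ifs with h1 h2
  · decide
  · decide
  · exact absurd (by simp only; omega) h2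

theorem conn_D {m : ℕ} (e : I ≃ Fin (m + 2)) (h1m : 1 ≤ m) (hM : TypeD (M.reindex e)) :
    ∀ J : Set I, J.Nonempty → Jᶜ.Nonempty → ∃ i ∈ J, ∃ j ∈ Jᶜ, M i j ≠ 2 := by
  refine conn_of_parent e fun k hk => ?_
  have hk2 := k.2
  rcases Nat.lt_or_ge k (m + 1) with h | h
  · refine ⟨⟨k - 1, by omega⟩, by simp only; omega, ?_⟩
    rw [hM _ _ (fun h => by rw [Fin.ext_iff] at h; simp only at h; omega), if_pos (by simp only; omega)]
    decide
  · refine ⟨⟨m - 1, by omega⟩, by simp only; omega, ?_⟩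
    rw [hM _ _ (fun h => by rw [Fin.ext_iff] at h; simp only at h; omega), if_pos (by simp only; omega)]
    decide

/-- a Cartan matrix whose graph is connected -/
theorem conn_of_cartan {n : ℕ} {M₀ : CoxeterMatrix (Fin n)} {A : Fin n → Fin n → ℤ} (hA : IsCartan M₀ A)
    (e : I ≃ Fin n) (hM : M.reindex e = M₀) (r : Fin n → ℕ) (o : Fin n)
    (h : ∀ k : Fin n, k ≠ o → ∃ l : Fin n, r l < r k ∧ A k l ≠ 0) :
    ∀ J : Set I, J.Nonempty → Jᶜ.Nonempty → ∃ i ∈ J, ∃ j ∈ Jᶜ, M i j ≠ 2 := by
  refine conn_of_rank e r o fun k hk => ?_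
  obtain ⟨l, h1, h2⟩ := h k hk
  refine ⟨l, h1, fun h3 => h2 ?_⟩
  have h4 := hA.rel k l (fun h => by rw [h] at h1; omega)
  rw [← hM, h3] at h4
  rcases h4 with h4 | h4 | h4 | h4
  · exact h4.2.1
  all_goals exact absurd h4.1 (by decide)

theorem conn_F4 (e : I ≃ Fin 4) (hM : M.reindex e = CoxeterMatrix.F₄) :
    ∀ J : Set I, J.Nonempty → Jᶜ.Nonempty → ∃ i ∈ J, ∃ j ∈ Jᶜ, M i j ≠ 2 :=
  conn_of_cartan isCartan_F4 e hM ![0, 1, 2, 3] 0 (by decide)

theorem conn_E6 (e : I ≃ Fin 6) (hM : M.reindex e = CoxeterMatrix.E₆) :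
    ∀ J : Set I, J.Nonempty → Jᶜ.Nonempty → ∃ i ∈ J, ∃ j ∈ Jᶜ, M i j ≠ 2 :=
  conn_of_cartan isCartan_E6 e hM ![0, 3, 1, 2, 3, 4] 0 (by decide)

theorem conn_E7 (e : I ≃ Fin 7) (hM : M.reindex e = CoxeterMatrix.E₇) :
    ∀ J : Set I, J.Nonempty → Jᶜ.Nonempty → ∃ i ∈ J, ∃ j ∈ Jᶜ, M i j ≠ 2 :=
  conn_of_cartan isCartan_E7 e hM ![0, 3, 1, 2, 3, 4, 5] 0 (by decide)

theorem conn_E8 (e : I ≃ Fin 8) (hM : M.reindex e = CoxeterMatrix.E₈) :
    ∀ J : Set I, J.Nonempty → Jᶜ.Nonempty → ∃ i ∈ J, ∃ j ∈ Jᶜ, M i j ≠ 2 :=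
  conn_of_cartan isCartan_E8 e hM ![0, 3, 1, 2, 3, 4, 5, 6] 0 (by decide)

end Cfsg.Agent.ParSys.FreeCount

end
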