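import Cfsg.Agent.Mrg.ParSys.RootEpsBD
import Cfsg.Agent.Mrg.ParSys.FreeTrans
import Cfsg.Agent.S1143
import Cfsg.Agent.TitsThree.SolvedFF
import Cfsg.Agent.TitsThree.KExcF4
import Cfsg.Agent.ChevalleyStructure.FieldIso
import Cfsg.Agent.FourTwo.Base
import Cfsg.Agent.FourTwo.AutF4
import Cfsg.Agent.FourTwo.CentAll
import Cfsg.Agent.FourTwo.Facts
import Cfsg.Agent.Lib.NormalAbelian

section


/-!
# THEOREM FREE for a simple group of rank at least three: the group is of Lie type
-/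

set_option autoImplicit false

namespace Cfsg.Agent.ParSys.FreeLie

open Cfsg.Agent.ParSys.FreeCount

variable {I : Type*} {M : CoxeterMatrix I} {G : Type*} [Group G] {q : I → ℕ} {N : ℕ}
  {B : Subgroup G} {P : I → Subgroup G} {U : Subgroup G}

/-- a simple group with a system (`Free.Sys`) of a connected spherical type `M` of rank at least three, `|U| = q_{w₀}` -/
theorem isLie [Finite G] [IsSimpleGroup G] [Finite I] (hM : HasQ M q N)
    (h : Free.Sys M.toCoxeterSystem B P U q) (hcard : Nat.card U = N) (h3 : 3 ≤ Nat.card I)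
    (hconn : ∀ J : Set I, J.Nonempty → Jᶜ.Nonempty → ∃ i ∈ J, ∃ j ∈ Jᶜ, M i j ≠ 2) :
    Cfsg.IsPSL G ∨ Cfsg.IsPSp G ∨ Cfsg.IsPSU G ∨ Cfsg.IsPOmegaOdd G ∨ Cfsg.IsPOmegaPlus G ∨ Cfsg.IsPOmegaMinus G ∨
      Cfsg.IsExceptionalLieType G := by
  obtain ⟨Q, -, hr, -, hirr⟩ := hM.exists_bnPair h hcard
  exact Cfsg.Agent.S1143.result Q (hr ▸ h3) (hirr hconn)

/-- three chambers in each panel -/
theorem isLie_two [Finite G] [IsSimpleGroup G] [Finite I] (hM : HasQ M (fun _ => 2) N)
    (htop : B ≠ ⊤) (hBP : ∀ i, B ≤ P i) (hgen : ⨆ i, P i = ⊤) (hgp : Free.GP B P (fun i j => M i j))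
    (hthree : ∀ i, B.relIndex (P i) = 3) (hcard : Nat.card B = N) (h3 : 3 ≤ Nat.card I)
    (hconn : ∀ J : Set I, J.Nonempty → Jᶜ.Nonempty → ∃ i ∈ J, ∃ j ∈ Jᶜ, M i j ≠ 2) :
    Cfsg.IsPSL G ∨ Cfsg.IsPSp G ∨ Cfsg.IsPSU G ∨ Cfsg.IsPOmegaOdd G ∨ Cfsg.IsPOmegaPlus G ∨ Cfsg.IsPOmegaMinus G ∨
      Cfsg.IsExceptionalLieType G :=
  isLie hM (Free.sys_two M.toCoxeterSystem htop hBP hgen hgp hthree) hcard h3 hconn

end Cfsg.Agent.ParSys.FreeLie

end

section


/-!
# THEOREM FREE with local closure, numbers `q_{w₀}` known; a simple group of rank at least three is of Lie type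
-/

set_option autoImplicit false

namespace Cfsg.Agent.ParSys.FreeLieLoc

open Cfsg.Agent.ParSys.FreeCount Cfsg.Agent.Tits.Core

variable {I : Type*} {M : CoxeterMatrix I} {G : Type*} [Group G] {q : I → ℕ} {N : ℕ}
  {B : Subgroup G} {P : I → Subgroup G} {U : Subgroup G}

/-- the bound for `|U|` -/
theorem card_le [Finite G] [Finite I] (hM : HasQ M q N) (h : FreeLoc.SysL M.toCoxeterSystem B P U q) :
    Nat.card U ≤ N := by
  have := hM.1
  obtain ⟨F, hF, he⟩ := M.toCoxeterSystem.exists_isReduced (w0 M.toCoxeterSystem)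
  have := h.card_le hF he.symm
  rwa [hM.2 F hF he.symm] at this

/-- **THEOREM FREE** (local closure) with the number `q_{w₀}` known -/
theorem exists_bnPair [Finite G] [Finite I] (hM : HasQ M q N) (h : FreeLoc.SysL M.toCoxeterSystem B P U q)
    (hcard : N ≤ Nat.card U) :
    ∃ Q : Cfsg.BNPair G, Q.B = B ∧ Q.rank = Nat.card I ∧ (∃ e : I ≃ Q.S, ∀ i, (e i : G) ∈ P i) ∧
      ((∀ J : Set I, J.Nonempty → Jᶜ.Nonempty → ∃ i ∈ J, ∃ j ∈ Jᶜ, M i j ≠ 2) → Q.Irreducible) := by
  have := hM.1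
  obtain ⟨F, hF, he⟩ := M.toCoxeterSystem.exists_isReduced (w0 M.toCoxeterSystem)
  exact h.exists_bnPair hF he.symm (by rw [hM.2 F hF he.symm]; exact hcard)

/-- a simple group with a system with local closure of a connected spherical type of rank at least three -/
theorem isLie [Finite G] [IsSimpleGroup G] [Finite I] (hM : HasQ M q N)
    (h : FreeLoc.SysL M.toCoxeterSystem B P U q) (hcard : N ≤ Nat.card U) (h3 : 3 ≤ Nat.card I)
    (hconn : ∀ J : Set I, J.Nonempty → Jᶜ.Nonempty → ∃ i ∈ J, ∃ j ∈ Jᶜ, M i j ≠ 2) :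
    Cfsg.IsPSL G ∨ Cfsg.IsPSp G ∨ Cfsg.IsPSU G ∨ Cfsg.IsPOmegaOdd G ∨ Cfsg.IsPOmegaPlus G ∨ Cfsg.IsPOmegaMinus G ∨
      Cfsg.IsExceptionalLieType G := by
  obtain ⟨Q, -, hr, -, hirr⟩ := exists_bnPair hM h hcard
  exact Cfsg.Agent.S1143.result Q (hr ▸ h3) (hirr hconn)

end Cfsg.Agent.ParSys.FreeLieLoc

end

section


/-!
# Identification of `F₄(2)`

`equiv_Gg`: a group acting strongly transitively on a Moufang building all whose panels have three chambers is the
group generated by the root groups.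
`ident_bldg`: on a thick building of type `F₄` with panels of three chambers only `F₄(2)` acts strongly transitively.
`ident_cosets`, `ident`: the same for a system of parabolics (`FreeLoc.SysL`) of type `F₄`, all `q i = 2`.
-/

set_option autoImplicit false

namespace Cfsg.Agent.Omega.IId.FFour.Ident

open Cfsg.Lie
open Cfsg.Agent.Tits.Core Cfsg.Agent.Tits.Core.Bldg Cfsg.Agent.Tits Cfsg.Agent.Tits.MouOut
open Cfsg.Agent.Tits.MouDefs (rt Aut Chart mem_Aut)
open Cfsg.Agent.LieRecognition.BNCox Cfsg.Agent.LieRecognition.CoxClass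
open Cfsg.Agent.TitsThree Cfsg.Agent.TitsThree.Pack Cfsg.Agent.TitsThree.FFData
open Cfsg.Agent.TitsThree.F4Bond Cfsg.Agent.TitsThree.EndGen Cfsg.Agent.TitsThree.Reindex
open Cfsg.Agent.ParSys Cfsg.Agent.ParSys.FreeCount
open MulAction

/-! ### panels of three chambers -/

section Gen

variable {I : Type*} {M : CoxeterMatrix I} {W : Type*} [Group W] {cs : CoxeterSystem M W}
variable {C : Type*} {Δ : Bldg cs C} {σ : W → C}

/-- the order of a fundamental root group -/
theorem card_root [Finite C] (H : Sys Δ (Aut Δ) σ (UU Δ σ)) {i : I} {q : ℕ} (h : Δ.Param i q) :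
    Nat.card (UU Δ σ (rt cs 1 i)) = q := by
  have h1 := EndHyp.param H i (σ 1)
  have h2 := h (σ 1)
  omega

/-- two opposite chambers have trivial stabiliser -/
theorem tor_eq_one [Finite I] [Finite W] [Finite C] (H : Sys Δ (Aut Δ) σ (UU Δ σ)) (h2 : ∀ i, Δ.Param i 2) {h : Aut Δ}
    (hh : h ∈ Tor cs (Aut Δ) σ) : h = 1 := by
  refine EndGen.tor_eq_one H hh fun i u hu => ?_
  have h3 := tor_conj H hh hu
  have hc := card_root H (h2 i)
  by_cases hu1 : u = 1
  · rw [hu1, mul_one, one_mul]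
  · have h4 : h * u * h⁻¹ ≠ 1 := by
      intro h5
      apply hu1
      have h6 : h * u = h := by
        rw [mul_inv_eq_one] at h5
        exact h5
      exact mul_eq_left.1 h6
    obtain ⟨x, hx, huniq⟩ := Nat.card_eq_two_iff' (1 : UU Δ σ (rt cs 1 i)) |>.1 hc
    have e1 := huniq ⟨u, hu⟩ fun h5 => hu1 (congrArg Subtype.val h5)
    have e2 := huniq ⟨_, h3⟩ fun h5 => h4 (congrArg Subtype.val h5)
    have e3 : h * u * h⁻¹ = u := congrArg Subtype.val (e2.trans e1.symm)
    rwa [mul_inv_eq_iff_eq_mul] at e3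

/-- a strongly transitive group is the full group of automorphisms -/
theorem bijective [Finite I] [Finite W] [Finite C] (H : Sys Δ (Aut Δ) σ (UU Δ σ)) (h2 : ∀ i, Δ.Param i 2)
    {G : Type*} [Group G] [MulAction G C] (hG : Δ.StrongAct G) : Function.Bijective (Top.toAut hG) := by
  refine ⟨Top.toAut_injective hG, fun a => ?_⟩
  obtain ⟨g, h3, h4⟩ := hG.trans (σ 1) (σ (w0 cs)) (a • σ 1) (a • σ (w0 cs)) (Top.δ_smul a _ _).symm
  refine ⟨g, ?_⟩
  have h5 : (Top.toAut hG g)⁻¹ * a ∈ Tor cs (Aut Δ) σ := by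
    refine Subgroup.mem_inf.2 ⟨mem_stabilizer_iff.2 ?_, mem_stabilizer_iff.2 ?_⟩
    · rw [mul_smul, inv_smul_eq_iff, Top.toAut_smul, h3]
    · rw [mul_smul, inv_smul_eq_iff, Top.toAut_smul, h4]
  have h6 := tor_eq_one H h2 h5
  exact inv_mul_eq_one.1 h6

/-- **a strongly transitive group is the group generated by the root groups** -/
theorem equiv_Gg [Finite I] [Finite W] [Finite C] (H : Sys Δ (Aut Δ) σ (UU Δ σ)) (h2 : ∀ i, Δ.Param i 2)
    {G : Type*} [Group G] [MulAction G C] (hG : Δ.StrongAct G) : Nonempty (G ≃* ↥(Gg cs (UU Δ σ))) :=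
  ⟨(MulEquiv.ofBijective _ (bijective H h2 hG)).trans (MulEquiv.ofBijective _ (bijective H h2 H.Gg_strongAct)).symm⟩

end Gen

/-! ### type `F₄` -/

/-- the fundamental root groups and the fields -/
theorem card_eq {W C : Type*} [Group W] [Finite W] [Finite C] {cs : CoxeterSystem cF W} {Δ : Bldg cs C} {σ : W → C}
    (H : Sys Δ (Aut Δ) σ (UU Δ σ)) (h2 : ∀ i, Δ.Param i 2)
    {F E : Type} [Field F] [Field E] [Algebra F E] {Q : ConjPair F E} (h : OutP Δ σ Q) :
    Nat.card F = 2 ∧ Nat.card E = 2 := by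
  obtain ⟨P, R⟩ := h
  have h0 : Nat.card F = Nat.card (UU Δ σ (rt cs 1 0)) := by
    have h3 := R.r0.1
    rw [← Nat.card_range_of_injective (f := fun t => (P.x0 t : Aut Δ))
      fun a b hab => R.inj0 (Subtype.ext hab), h3]
    rfl
  have h2' : Nat.card E = Nat.card (UU Δ σ (rt cs 1 2)) := by
    have h3 := R.r2.1
    rw [← Nat.card_range_of_injective (f := fun t => (P.x2 t : Aut Δ))
      fun a b hab => R.inj2 (Subtype.ext hab), h3]
    rfl
  rw [h0, h2', card_root H (h2 0), card_root H (h2 2)]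
  exact ⟨rfl, rfl⟩

/-- the oriented case -/
theorem ident_out {W C : Type*} [Group W] [Finite W] [Finite C] {cs : CoxeterSystem cF W} {Δ : Bldg cs C} {σ : W → C}
    (hth : Δ.Thick) (hσ : Chart Δ σ) (h2 : ∀ i, Δ.Param i 2) (h : Out Δ σ) {G : Type*} [Group G] [MulAction G C]
    (hG : Δ.StrongAct G) : Nonempty (G ≃* ↥(chevF4.group (ZMod 2))) := by
  have H := MouAll.sys MouAll.lab_F CombInst.diag_F hth hσ
  rcases h with ⟨F, i1, i2, h⟩ | ⟨F, E, i1, i2, i3, i4, i5, P, hP, h⟩
  · have hc := (card_eq H h2 h).1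
    have : Fintype F := Fintype.ofFinite F
    have := KExcF4.simple F
    obtain ⟨e1⟩ := equiv_Gg H h2 hG
    obtain ⟨e2⟩ := SolvedFF.nonempty_mulEquiv hth hσ h (KExcF4.kff F)
    have e3 : ZMod 2 ≃+* F := ZMod.ringEquivOfPrime F Nat.prime_two (by rw [← Nat.card_eq_fintype_card, hc])
    exact ⟨(e1.trans e2).trans (Cfsg.Agent.ChevalleyStructure.FieldIso.groupEquiv chevF4 e3.symm)⟩
  · exfalso
    have hc := card_eq H h2 h
    have h3 := P.card_eq hP
    rw [hc.1, hc.2] at h3
    norm_num at h3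

/-- **only `F₄(2)` acts strongly transitively on a thick building of type `F₄` with panels of three chambers** -/
theorem ident_bldg {W C : Type*} [Group W] [Finite W] [Finite C] [Nonempty C] {cs : CoxeterSystem cF W} {Δ : Bldg cs C}
    (hth : Δ.Thick) (h2 : ∀ i, Δ.Param i 2) {G : Type*} [Group G] [MulAction G C]
    (hG : Δ.StrongAct G) : Nonempty (G ≃* ↥(chevF4.group (ZMod 2))) := by
  obtain ⟨c⟩ := (inferInstance : Nonempty C)
  obtain ⟨d, hd⟩ := Opp.exists_opp Δ c
  obtain ⟨σ, hσ, -, -⟩ := MouDefs.exists_chart hd 1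
  rcases orient hth hσ with h1 | h1
  · exact ident_out hth hσ h2 (out_of_midStd hth hσ h1) hG
  · have hs := revSys_simple cs
    refine ident_out (re_thick hs hth) (re_chart hs hσ) (fun i x => ?_)
      (out_of_midStd (re_thick hs hth) (re_chart hs hσ) (mid_re hs rfl rfl h1)) (G := G)
      ⟨hG.iso, hG.trans, hG.faithful⟩
    rw [re_pan]
    exact h2 _ x

/-! ### systems of parabolics -/

section Cosets

variable {I : Type*} {M : CoxeterMatrix I} {W : Type*} [Group W] {G : Type*} [Group G]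
  {cs : CoxeterSystem M W} {B : Subgroup G} {P : I → Subgroup G} {D : W → Set G}

/-- the panels -/
theorem param (h : Bruhat.Cosets cs B P D) (i : I) {q : ℕ} (hq : B.relIndex (P i) = q + 1) :
    h.bldg.Param i q := by
  intro x
  induction x using QuotientGroup.induction_on with | _ a =>
  rw [← hq, Subgroup.relIndex, Subgroup.index]
  symm
  refine Nat.card_congr (Equiv.ofBijective
    (Quotient.lift (fun p : P i => (⟨QuotientGroup.mk (a * p), ?_⟩ : h.bldg.Pan i (QuotientGroup.mk a))) ?_) ?_)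
  · by_cases hp : (p : G) ∈ B
    · left
      rw [QuotientGroup.eq]
      have e : (a * (p : G))⁻¹ * a = (p : G)⁻¹ := by group
      rw [e]
      exact inv_mem hp
    · right
      show h.bldg.δ (QuotientGroup.mk a) (QuotientGroup.mk (a * (p : G))) = cs.simple i
      rw [h.bldg_δ, inv_mul_cancel_left, h.mem_simple_iff]
      exact ⟨p.2, hp⟩
  · intro p r hpr
    refine Subtype.ext ?_
    rw [QuotientGroup.eq]
    have h1 : (p⁻¹ * r : P i) ∈ B.subgroupOf (P i) := QuotientGroup.leftRel_apply.1 hpr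
    rw [Subgroup.mem_subgroupOf] at h1
    have e : (a * (p : G))⁻¹ * (a * (r : G)) = ((p⁻¹ * r : P i) : G) := by
      rw [Subgroup.coe_mul, Subgroup.coe_inv]
      group
    rw [e]
    exact h1
  · constructor
    · intro x y hxy
      induction x using Quotient.inductionOn with | _ p =>
      induction y using Quotient.inductionOn with | _ r =>
      have h1 : (QuotientGroup.mk (a * (p : G)) : G ⧸ B) = QuotientGroup.mk (a * (r : G)) :=
        congrArg Subtype.val hxy
      rw [QuotientGroup.eq] at h1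
      refine Quotient.sound (QuotientGroup.leftRel_apply.2 ?_)
      rw [Subgroup.mem_subgroupOf, Subgroup.coe_mul, Subgroup.coe_inv]
      have e : (a * (p : G))⁻¹ * (a * (r : G)) = (p : G)⁻¹ * r := by group
      rwa [e] at h1
    · rintro ⟨y, hy⟩
      rcases hy with rfl | hy
      · refine ⟨Quotient.mk _ 1, Subtype.ext ?_⟩
        show (QuotientGroup.mk (a * ((1 : P i) : G)) : G ⧸ B) = QuotientGroup.mk a
        rw [Subgroup.coe_one, mul_one]
      · induction y using QuotientGroup.induction_on with | _ b =>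
        rw [h.bldg_δ, h.mem_simple_iff] at hy
        refine ⟨Quotient.mk _ ⟨_, hy.1⟩, Subtype.ext ?_⟩
        show (QuotientGroup.mk (a * (a⁻¹ * b)) : G ⧸ B) = QuotientGroup.mk b
        rw [mul_inv_cancel_left]

/-- a core-free `B`: the action is strongly transitive -/
theorem strongAct (h : Bruhat.Cosets cs B P D) (hcore : ∀ g : G, (∀ x, x⁻¹ * g * x ∈ B) → g = 1) :
    h.bldg.StrongAct G where
  iso := h.act.iso
  trans := h.act.trans
  faithful := ⟨fun {g g'} hg => by
    have h1 : g'⁻¹ * g = 1 := by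
      apply hcore
      intro x
      have h2 : (QuotientGroup.mk (g * x) : G ⧸ B) = QuotientGroup.mk (g' * x) := hg (QuotientGroup.mk x)
      rw [eq_comm, QuotientGroup.eq] at h2
      have e : x⁻¹ * (g'⁻¹ * g) * x = (g' * x)⁻¹ * (g * x) := by group
      rw [e]
      exact h2
    exact (inv_mul_eq_one.1 h1).symm⟩

/-- **`F₄(2)` from the Bruhat decomposition** -/
theorem ident_cosets [Finite G] [Finite W] (e : I ≃ Fin 4) (hM : M.reindex e = CoxeterMatrix.F₄)
    (h : Bruhat.Cosets cs B P D) (h3 : ∀ i, B.relIndex (P i) = 3)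
    (hcore : ∀ g : G, (∀ x, x⁻¹ * g * x ∈ B) → g = 1) : Nonempty (G ≃* ↥(chevF4.group (ZMod 2))) := by
  have hF : CoxeterMatrix.F₄ = cF := by
    ext i j
    fin_cases i <;> fin_cases j <;> rfl
  have hM' : M.reindex e = cF := hM.trans hF
  let cs' : CoxeterSystem cF W := hM' ▸ cs.reindex e
  have hs : ∀ i, cs'.simple i = cs.simple (e.symm i) := fun i => by
    show (hM' ▸ cs.reindex e : CoxeterSystem cF W).simple i = _
    rw [cast_simple]
    exact cs.reindex_simple e i
  have hst := strongAct h hcore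
  refine ident_bldg (re_thick hs h.thick) (fun i x => ?_) (G := G) ⟨hst.iso, hst.trans, hst.faithful⟩
  rw [re_pan]
  exact param h _ (h3 _) x

end Cosets

/-- **`F₄(2)` from a system of parabolics of type `F₄`, all `q i = 2`** -/
theorem ident {I : Type*} [Finite I] {M : CoxeterMatrix I} {G : Type*} [Group G] [Finite G] {B : Subgroup G}
    {P : I → Subgroup G} {U : Subgroup G} (e : I ≃ Fin 4) (hM : M.reindex e = CoxeterMatrix.F₄)
    (h : FreeLoc.SysL M.toCoxeterSystem B P U (fun _ => 2)) (hcard : 2 ^ 24 ≤ Nat.card U)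
    (hcore : ∀ g ∈ B, (∀ x, x⁻¹ * g * x ∈ B) → g = 1) : Nonempty (FourTwo.Base.LL ≃* G) := by
  have hQ := hasQ_F4 (M := M) (q := fun _ => 2) e hM (x := 2) (y := 2) (fun i => by simp)
  have := hQ.1
  obtain ⟨F, hF, he⟩ := M.toCoxeterSystem.exists_isReduced (w0 M.toCoxeterSystem)
  have hc := h.cosets hF he.symm (by rw [hQ.2 F hF he.symm]; exact hcard)
  obtain ⟨f⟩ := ident_cosets e hM hc (fun i => h.card i) fun g hg => hcore g (by simpa using hg 1) hg
  exact ⟨f.symm⟩

end Cfsg.Agent.Omega.IId.FFour.Ident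

end

section


/-!
# OMEGA II.d: the end `F₄(2).2` (bb OMEGA #14245), facts on `F₄(2)` and its graph automorphism `gam`

`U` the positive unipotent subgroup, `FX = C(gam)` (`= ²F₄(2)`), `z = x 44 * x 47`.

* `mem_U_of`: an element commuting with `x 44`, `x 47` and `x 28 * x 30` lies in `U`;
* `cent_z`: the centraliser of `z` centralises `x 44` and `x 47`;
* `sk`: an element of `FX ∩ U` central in `FX ∩ U` modulo `z` is `1`, `z`, `x 40 * x 46` or `x 40 * x 46 * z`;
* `core`: `O₂(FX) = 1`.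
-/

set_option autoImplicit false

namespace Cfsg.Agent.Omega.IId.FFour.TwoFacts

open Cfsg.Lie Cfsg.Agent.ChevalleyStructure.TwF4.Tables
open Cfsg.Agent.ChevalleyStructure.TwF4.Rel hiding bar
open Cfsg.Agent.ChevalleyStructure.TwF4.Torus (all_of)
open Cfsg.Agent.ChevalleyStructure.TwF4.NRoot (sp_lt)
open Cfsg.Agent.ChevalleyStructure.TwF4.NStruct (R)
open Cfsg.Agent.ChevalleyStructure.TwF4.WeylDih (carSub)
open Cfsg.Agent.ChevalleyStructure.F4NTab (ct)
open Cfsg.Agent.FourTwo.Base hiding bar_lt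
open Cfsg.Agent.FourTwo.Comm Cfsg.Agent.FourTwo.BN Cfsg.Agent.FourTwo.Par Cfsg.Agent.FourTwo.Cent
open Cfsg.Agent.FourTwo.AutF4
open Cfsg.Agent.FourTwo.UCode (mulU)
open Cfsg.Agent.FourTwo.Enum (enum goodC)
open Cfsg.Agent.FourTwo.Classes (ec ec_mulU x_eq_ec ec_zero wd_eq_ec' ec_inj)
open Cfsg.Agent.FourTwo.Facts (enum_U ec24 ec25 ec27 ec33 ec40 ec46)

theorem xx (r : ℕ) : x r * x r = 1 := Cfsg.Agent.FourTwo.Base.x_mul_self r

theorem xi (r : ℕ) : (x r)⁻¹ = x r := Cfsg.Agent.FourTwo.Base.x_inv r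

/-! ### Membership in `U` -/

/-- the positive roots outside `{25, 27, 28, 30}` -/
def L1 : List ℕ := [24, 26, 29, 31, 32, 33, 34, 35, 36, 37, 38, 39, 40, 41, 42, 43, 44, 45, 46, 47]

theorem nL1 : normB posP L1.contains = true := by decide +kernel
theorem clL1 : closedB L1.contains = true := by decide +kernel
theorem c28 : cenB L1 28 = true := by decide +kernel
theorem c30 : cenB L1 30 = true := by decide +kernel

theorem conj_r {v : LL} (hv : v ∈ U) :
    ∃ z ∈ RG L1.contains, v * (x 28 * x 30) = x 28 * x 30 * z * v := by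
  obtain ⟨z1, hz1, e1⟩ := conj_cen nL1 (by omega : 24 ≤ 28) (by omega) c28 hv
  obtain ⟨z2, hz2, e2⟩ := conj_cen nL1 (by omega : 24 ≤ 30) (by omega) c30 hv
  refine ⟨x 30 * z1 * (x 30)⁻¹ * z2, mul_mem (conj_mem nL1 (x_mem_RG (by omega) (by decide)) hz1) hz2, ?_⟩
  calc v * (x 28 * x 30) = v * x 28 * x 30 := by group
    _ = x 28 * z1 * (v * x 30) := by rw [e1]; group
    _ = x 28 * z1 * (x 30)⁻¹ * z2 * v := by rw [e2, xi]; group
    _ = x 28 * (x 30 * x 30) * z1 * (x 30)⁻¹ * z2 * v := by rw [xx, mul_one]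
    _ = _ := by group

theorem tabL1 : ((List.range 48).all fun r => L1.contains r == (decide (0 < ct r 44) || decide (0 < ct r 47))) = true := by
  decide +kernel

theorem tabB2 : ((List.range 48).all fun a => (List.range 48).all fun b =>
    !(decide (ct a 44 = 0) && decide (ct a 47 = 0) && decide (ct b 44 = 0) && decide (ct b 47 = 0) &&
      decide (ct a b = ct 28 30) && decide (ct b a = ct 30 28)) ||
    [(19, 17), (19, 22), (20, 17), (20, 25), (27, 22), (27, 30), (28, 25), (28, 30)].contains (a, b)) = true := by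
  decide +kernel

theorem solve_q {a b : ℕ} {q : LL} (h : x a * x b = x 28 * x 30 * q) : q = x 30 * x 28 * (x a * x b) := by
  calc q = (x 28 * x 30)⁻¹ * (x a * x b) := by rw [h]; group
    _ = _ := by rw [mul_inv_rev, xi, xi]

theorem mem_U_of {l : LL} (h44 : l * x 44 = x 44 * l) (h47 : l * x 47 = x 47 * l)
    (hr : l * (x 28 * x 30) = x 28 * x 30 * l) : l ∈ U := by
  obtain ⟨u, hu, w, hw, v, hv, rfl⟩ := bruhat l
  have h1 : ∀ a ∈ [44, 47], w * x a * w⁻¹ = x a :=
    chain (l := [44, 47]) (by decide +kernel) hu hw hv rfl fun a ha => by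
      simp only [List.mem_cons, List.not_mem_nil, or_false] at ha
      rcases ha with rfl | rfl
      · exact h44
      · exact h47
  obtain ⟨σ, -, hσ, hσ'⟩ := exists_perm hw
  have s44 : (σ (⟨44, by decide⟩ : R)).val = 44 := by
    have h2 := hσ' (⟨44, by decide⟩ : R)
    rw [h1 44 (by simp)] at h2
    exact (x_inj (by omega) (σ _).2 h2).symm
  have s47 : (σ (⟨47, by decide⟩ : R)).val = 47 := by
    have h2 := hσ' (⟨47, by decide⟩ : R)
    rw [h1 47 (by simp)] at h2
    exact (x_inj (by omega) (σ _).2 h2).symm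
  have ct44 : ∀ r : R, ct (σ r).val 44 = ct r.val 44 := fun r => by
    have h2 := hσ r (⟨44, by decide⟩ : R)
    rwa [s44] at h2
  have ct47 : ∀ r : R, ct (σ r).val 47 = ct r.val 47 := fun r => by
    have h2 := hσ r (⟨47, by decide⟩ : R)
    rwa [s47] at h2
  have hwL : ∀ g ∈ RG L1.contains, w * g * w⁻¹ ∈ RG L1.contains := fun g hg =>
    Cfsg.Agent.FourTwo.CentAll.conj_RG (fun b hb hP => by
      rw [hσ' (⟨b, hb⟩ : R)]
      refine x_mem_RG (σ _).2 ?_
      have h2 := all_of tabL1 (σ (⟨b, hb⟩ : R)).2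
      have h3 := all_of tabL1 hb
      rw [beq_iff_eq] at h2 h3
      rw [h2, ct44, ct47, ← h3]
      exact hP) hg
  obtain ⟨z1, hz1, e1⟩ := conj_r hv
  obtain ⟨z2, hz2, e2⟩ := conj_r (inv_mem hu)
  -- `w r w⁻¹ ∈ r · RG L1`
  have h3 : w * (x 28 * x 30) * w⁻¹ = x 28 * x 30 * (z2 * (w * z1 * w⁻¹)⁻¹) := by
    have h4 : u⁻¹ * (x 28 * x 30) * u = x 28 * x 30 * z2 := by rw [e2]; group
    have h5 : w * (x 28 * x 30) * z1 = x 28 * x 30 * z2 * w := by
      calc w * (x 28 * x 30) * z1 = u⁻¹ * (u * w * (x 28 * x 30 * z1 * v)) * v⁻¹ := by group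
        _ = u⁻¹ * (u * w * v * (x 28 * x 30)) * v⁻¹ := by rw [← e1]; group
        _ = u⁻¹ * (x 28 * x 30) * u * w := by rw [hr]; group
        _ = _ := by rw [h4]
    calc w * (x 28 * x 30) * w⁻¹ = (w * (x 28 * x 30) * z1) * z1⁻¹ * w⁻¹ := by group
      _ = x 28 * x 30 * z2 * w * z1⁻¹ * w⁻¹ := by rw [h5]
      _ = _ := by group
  have h6 : w * (x 28 * x 30) * w⁻¹ = x (σ (⟨28, by decide⟩ : R)).val * x (σ (⟨30, by decide⟩ : R)).val := by
    rw [← hσ' (⟨28, by decide⟩ : R), ← hσ' (⟨30, by decide⟩ : R)]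
    group
  have a44 := ct44 (⟨28, by decide⟩ : R)
  have a47 := ct47 (⟨28, by decide⟩ : R)
  have b44 := ct44 (⟨30, by decide⟩ : R)
  have b47 := ct47 (⟨30, by decide⟩ : R)
  have ab := hσ (⟨28, by decide⟩ : R) (⟨30, by decide⟩ : R)
  have ba := hσ (⟨30, by decide⟩ : R) (⟨28, by decide⟩ : R)
  have ha48 := (σ (⟨28, by decide⟩ : R)).2
  have hb48 := (σ (⟨30, by decide⟩ : R)).2
  have hq : z2 * (w * z1 * w⁻¹)⁻¹ ∈ RG L1.contains := mul_mem hz2 (inv_mem (hwL _ hz1))
  rw [h6] at h3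
  generalize z2 * (w * z1 * w⁻¹)⁻¹ = q at h3 hq
  generalize ha : (σ (⟨28, by decide⟩ : R)).val = a at *
  generalize hb : (σ (⟨30, by decide⟩ : R)).val = b at *
  have hqU : q ∈ U := RG_le_U clL1 hq
  have habU : x a * x b ∈ U := by
    rw [h3]
    exact mul_mem (mul_mem (x_mem_U (by omega) (by omega)) (x_mem_U (by omega) (by omega))) hqU
  have hab : (a, b) ∈ [(19, 17), (19, 22), (20, 17), (20, 25), (27, 22), (27, 30), (28, 25), (28, 30)] := by
    have h7 := all_of (all_of tabB2 ha48) hb48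
    have e44 : ct 28 44 = 0 := by decide +kernel
    have e47 : ct 28 47 = 0 := by decide +kernel
    have f44 : ct 30 44 = 0 := by decide +kernel
    have f47 : ct 30 47 = 0 := by decide +kernel
    have i1 : ct a 44 = 0 := a44.trans e44
    have i2 : ct a 47 = 0 := a47.trans e47
    have i3 : ct b 44 = 0 := b44.trans f44
    have i4 : ct b 47 = 0 := b47.trans f47
    have i5 : ct a b = ct 28 30 := ab
    have i6 : ct b a = ct 30 28 := ba
    rw [i1, i2, i3, i4, i5, i6] at h7
    simpa using h7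
  have neg2 : ∀ a b : ℕ, a < 24 → b < 24 → a ≠ b → x a * x b ∈ U → False := by
    intro a b ha hb hne hU
    have h8 : x a * x b ∈ U ⊓ V := ⟨hU, mul_mem (x_mem_V ha) (x_mem_V hb)⟩
    rw [U_inf_V, Subgroup.mem_bot] at h8
    apply hne
    apply x_inj (by omega) (by omega)
    rw [← xi b]
    exact eq_inv_of_mul_eq_one_left h8
  have key : a = 28 ∧ b = 30 := by
    simp only [List.mem_cons, Prod.mk.injEq, List.not_mem_nil, or_false] at hab
    rcases hab with ⟨rfl, rfl⟩ | ⟨rfl, rfl⟩ | ⟨rfl, rfl⟩ | ⟨rfl, rfl⟩ | ⟨rfl, rfl⟩ | ⟨rfl, rfl⟩ | ⟨rfl, rfl⟩ | ⟨rfl, rfl⟩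
    · exact (neg2 _ _ (by omega) (by omega) (by omega) habU).elim
    · exact (neg2 _ _ (by omega) (by omega) (by omega) habU).elim
    · exact (neg2 _ _ (by omega) (by omega) (by omega) habU).elim
    · have h8 : x 20 ∈ U := by
        have := mul_mem habU (inv_mem (x_mem_U (by omega : 24 ≤ 25) (by omega)))
        rwa [mul_inv_cancel_right] at this
      have := pos_of_mem_U (by omega) h8
      omega
    · have h8 : x 22 ∈ U := by
        have := mul_mem (inv_mem (x_mem_U (by omega : 24 ≤ 27) (by omega))) habU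
        rwa [inv_mul_cancel_left] at this
      have := pos_of_mem_U (by omega) h8
      omega
    · have h8 : x 27 * x 28 ∈ RG L1.contains := by
        have h10 : x 27 * x 28 = q := by
          have := wd_eq [27, 28] [30, 28, 27, 30] (by decide +kernel)
          simp only [wd_cons, wd_nil, mul_one] at this
          rw [solve_q h3, this, mul_assoc (x 30)]
        rw [h10]; exact hq
      have := (mul_not_mem_RG clL1 (by omega) (by omega) (by omega) h8).1
      exact absurd this (by decide)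
    · have h8 : x 25 * x 30 ∈ RG L1.contains := by
        have h10 : x 25 * x 30 = q⁻¹ := by
          rw [solve_q h3]
          simp only [mul_inv_rev, xi]
          calc x 25 * x 30 = x 25 * (x 28 * x 28) * x 30 := by rw [xx, mul_one]
            _ = _ := by simp only [mul_assoc]
        rw [h10]; exact inv_mem hq
      have := (mul_not_mem_RG clL1 (by omega) (by omega) (by omega) h8).1
      exact absurd this (by decide)
    · exact ⟨rfl, rfl⟩
  have hw1 : w = 1 := by
    refine eq_one_of_fix hw (l := [28, 30, 44, 47]) (by decide) (by decide +kernel) fun p hp => ?_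
    simp only [List.mem_cons, List.not_mem_nil, or_false] at hp
    rcases hp with rfl | rfl | rfl | rfl
    · rw [hσ' (⟨28, by decide⟩ : R), ha, key.1]
    · rw [hσ' (⟨30, by decide⟩ : R), hb, key.2]
    · exact h1 44 (by simp)
    · exact h1 47 (by simp)
  rw [hw1, mul_one]
  exact mul_mem hu hv

/-! ### The centraliser of `z` -/

theorem cent_z {l : LL} (h : l * (x 44 * x 47) = x 44 * x 47 * l) : l * x 44 = x 44 * l ∧ l * x 47 = x 47 * l := by
  have hU : U ≤ Subgroup.centralizer {x 44 * x 47} := fun u hu => by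
    rw [Subgroup.mem_centralizer_singleton_iff]
    exact comm_c hu
  have hn12 : ∀ i < 4, n i ∈ Subgroup.centralizer {x 44 * x 47} → refl i 44 = 44 ∧ refl i 47 = 47 := by
    intro i hi hn
    rw [Subgroup.mem_centralizer_singleton_iff] at hn
    have h4 := n_mul_x hi (by omega : 44 < 48)
    have h5 := n_mul_x hi (by omega : 47 < 48)
    have e : n i * (x 44 * x 47) = x (refl i 44) * x (refl i 47) * n i := by
      rw [← mul_assoc, h4, mul_assoc, h5, ← mul_assoc]
    rw [hn] at e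
    have e' := mul_right_cancel e
    have hT : ∀ i < 4, (refl i 44 = 44 ∧ refl i 47 = 47) ∨ (refl i 44 ≠ 44 ∧ refl i 47 = 47) ∨
      (refl i 44 = 44 ∧ refl i 47 ≠ 47) := by decide
    rcases hT i hi with h6 | ⟨h6, h7⟩ | ⟨h6, h7⟩
    · exact h6
    · rw [h7] at e'
      exact absurd (x_inj (by omega) (refl_lt i 44 hi (by omega)) (mul_right_cancel e')).symm h6
    · rw [h6] at e'
      exact absurd (x_inj (by omega) (refl_lt i 47 hi (by omega)) (mul_left_cancel e')).symm h7
  have hle : Subgroup.centralizer {x 44 * x 47} ≤ Subgroup.centralizer {x 44} ⊓ Subgroup.centralizer {x 47} := by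
    rw [parabolic_eq hU]
    refine sup_le (le_inf (fun u hu => ?_) (fun u hu => ?_)) ?_
    · rw [Subgroup.mem_centralizer_singleton_iff]
      exact comm_44 hu
    · rw [Subgroup.mem_centralizer_singleton_iff]
      exact comm_47 hu
    · rw [Subgroup.closure_le]
      rintro _ ⟨i, hi, hn, rfl⟩
      obtain ⟨h6, h7⟩ := hn12 i hi hn
      have h4 := n_mul_x hi (by omega : 44 < 48)
      have h5 := n_mul_x hi (by omega : 47 < 48)
      rw [h6] at h4
      rw [h7] at h5
      exact ⟨Subgroup.mem_centralizer_singleton_iff.2 h4, Subgroup.mem_centralizer_singleton_iff.2 h5⟩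
  obtain ⟨h1, h2⟩ := Subgroup.mem_inf.1 (hle (Subgroup.mem_centralizer_singleton_iff.2 h))
  rw [Subgroup.mem_centralizer_singleton_iff] at h1 h2
  exact ⟨h1, h2⟩

/-! ### `gam` on words -/

theorem gam_wd {w : List ℕ} (h : ∀ r ∈ w, r < 48) : gam (wd w) = wd (w.map bar) := by
  induction w with
  | nil => exact map_one _
  | cons r w ih =>
    rw [wd_cons, map_mul, List.map_cons, wd_cons, gam_x (h r List.mem_cons_self),
      ih fun s hs => h s (List.mem_cons_of_mem _ hs)]

/-- an element of `FX ∩ U` -/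
def gA : LL := wd [24, 33]

/-- an element of order 4 of `FX ∩ U` -/
def gC : LL := wd [27, 25, 28]

/-- an element of `FX ∩ U` with square `z` -/
def gT : LL := wd [29, 41, 44]

theorem gam_gA : gam gA = gA := by
  unfold gA
  rw [gam_wd (by decide)]
  exact wd_eq _ _ (by decide +kernel)

theorem gam_gC : gam gC = gC := by
  unfold gC
  rw [gam_wd (by decide)]
  exact wd_eq _ _ (by decide +kernel)

theorem gam_gT : gam gT = gT := by
  unfold gT
  rw [gam_wd (by decide)]
  exact wd_eq _ _ (by decide +kernel)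

theorem gA_mem : gA ∈ U := wd_mem_U (by decide)
theorem gC_mem : gC ∈ U := wd_mem_U (by decide)
theorem gT_mem : gT ∈ U := wd_mem_U (by decide)

theorem gC_sq : gC * gC = x 28 * x 30 := by
  have h := wd_eq ([27, 25, 28] ++ [27, 25, 28]) [28, 30] (by decide +kernel)
  rw [wd_append] at h
  unfold gC
  rw [h, wd_cons, wd_one]

theorem gT_sq : gT * gT = x 44 * x 47 := by
  have h := wd_eq ([29, 41, 44] ++ [29, 41, 44]) [44, 47] (by decide +kernel)
  rw [wd_append] at h
  unfold gT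
  rw [h, wd_cons, wd_one]

theorem ec_gA : gA = ec 513 := wd_eq_ec' _ (by decide) _ (by decide +kernel)
theorem ec_gC : gC = ec 74 := wd_eq_ec' _ (by decide) _ (by decide +kernel)

/-! ### The enumerations -/

/-- The elements of `U` commuting with `gA` and `gC` modulo `z`. -/
theorem enumZ {u : LL} (hu : u ∈ U) (hA : gA * u * gA⁻¹ = u ∨ gA * u * gA⁻¹ = u * (x 44 * x 47))
    (hC : gC * u * gC⁻¹ = u ∨ gC * u * gC⁻¹ = u * (x 44 * x 47)) :
    ∃ w ∈ [[], [47], [44], [44, 47], [40, 46], [40, 46, 47], [40, 44, 46], [40, 44, 46, 47]], u = wd w := by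
  have aux : ∀ g : LL, (g * u * g⁻¹ = u ∨ g * u * g⁻¹ = u * (x 44 * x 47)) →
      ∃ t ∈ [0, 9437184], g * u * g⁻¹ * u⁻¹ = ec t := by
    rintro g (h | h)
    · exact ⟨0, by simp, by rw [h, ec_zero, mul_inv_cancel]⟩
    · refine ⟨9437184, by simp, ?_⟩
      rw [h, ← Cfsg.Agent.FourTwo.Facts.ec_9437184, comm_c hu, mul_inv_cancel_right]
  have h1 := enum_U [(513, [0, 9437184]), (74, [0, 9437184])]
    [0, 8388608, 1048576, 9437184, 4259840, 12648448, 5308416, 13697024] (by decide +kernel) hu (by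
      intro c hc
      simp only [List.mem_cons, List.not_mem_nil, or_false] at hc
      rcases hc with rfl | rfl
      · dsimp only
        rw [← ec_gA]
        exact aux _ hA
      · dsimp only
        rw [← ec_gC]
        exact aux _ hC)
  obtain ⟨f, hf, rfl⟩ := h1
  simp only [List.mem_cons, List.not_mem_nil, or_false] at hf
  rcases hf with rfl | rfl | rfl | rfl | rfl | rfl | rfl | rfl
  · exact ⟨[], by simp, ec_zero⟩
  · exact ⟨[47], by simp, (wd_eq_ec' _ (by decide) _ (by decide +kernel)).symm⟩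
  · exact ⟨[44], by simp, (wd_eq_ec' _ (by decide) _ (by decide +kernel)).symm⟩
  · exact ⟨[44, 47], by simp, (wd_eq_ec' _ (by decide) _ (by decide +kernel)).symm⟩
  · exact ⟨[40, 46], by simp, (wd_eq_ec' _ (by decide) _ (by decide +kernel)).symm⟩
  · exact ⟨[40, 46, 47], by simp, (wd_eq_ec' _ (by decide) _ (by decide +kernel)).symm⟩
  · exact ⟨[40, 44, 46], by simp, (wd_eq_ec' _ (by decide) _ (by decide +kernel)).symm⟩
  · exact ⟨[40, 44, 46, 47], by simp, (wd_eq_ec' _ (by decide) _ (by decide +kernel)).symm⟩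

theorem wd_ne {w w' : List ℕ} {e e' : ℕ} (h : (w.all fun r => decide (24 ≤ r ∧ r < 48)) = true)
    (h' : (w'.all fun r => decide (24 ≤ r ∧ r < 48)) = true)
    (he : Cfsg.Agent.FourTwo.UCode.colW (w.map fun r => r - 24) = e)
    (he' : Cfsg.Agent.FourTwo.UCode.colW (w'.map fun r => r - 24) = e') (h1 : e < 2 ^ 24) (h2 : e' < 2 ^ 24)
    (hne : e ≠ e') : wd w ≠ wd w' := by
  rw [wd_eq_ec' w h e he, wd_eq_ec' w' h' e' he']
  exact fun h3 => hne (ec_inj h1 h2 h3)

/-- The fixed points of `gam` among them. -/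
theorem sk {u : LL} (hu : u ∈ U) (hf : gam u = u) (hA : gA * u * gA⁻¹ = u ∨ gA * u * gA⁻¹ = u * (x 44 * x 47))
    (hC : gC * u * gC⁻¹ = u ∨ gC * u * gC⁻¹ = u * (x 44 * x 47)) :
    u = 1 ∨ u = x 44 * x 47 ∨ u = wd [40, 46] ∨ u = wd [40, 44, 46, 47] := by
  obtain ⟨w, hw, rfl⟩ := enumZ hu hA hC
  simp only [List.mem_cons, List.not_mem_nil, or_false] at hw
  rcases hw with rfl | rfl | rfl | rfl | rfl | rfl | rfl | rfl
  · exact Or.inl rfl
  · exfalso
    rw [gam_wd (by decide)] at hf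
    exact wd_ne (e := 1048576) (e' := 8388608) (by decide) (by decide) (by decide +kernel) (by decide +kernel)
      (by norm_num) (by norm_num) (by norm_num) hf
  · exfalso
    rw [gam_wd (by decide)] at hf
    exact wd_ne (e := 8388608) (e' := 1048576) (by decide) (by decide) (by decide +kernel) (by decide +kernel)
      (by norm_num) (by norm_num) (by norm_num) hf
  · right; left
    rw [wd_cons, wd_one]
  · exact Or.inr (Or.inr (Or.inl rfl))
  · exfalso
    rw [gam_wd (by decide)] at hf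
    exact wd_ne (e := 5308416) (e' := 12648448) (by decide) (by decide) (by decide +kernel) (by decide +kernel)
      (by norm_num) (by norm_num) (by norm_num) hf
  · exfalso
    rw [gam_wd (by decide)] at hf
    exact wd_ne (e := 12648448) (e' := 5308416) (by decide) (by decide) (by decide +kernel) (by decide +kernel)
      (by norm_num) (by norm_num) (by norm_num) hf
  · exact Or.inr (Or.inr (Or.inr rfl))

theorem n0_eq : n 0 = wd [33, 14, 33] := n_eq_wd 0
theorem n3_eq : n 3 = wd [24, 23, 24] := n_eq_wd 3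

/-- conjugating `x 47 * (x 40 * x 46)` to `z` -/
theorem conj1 : ∃ g : LL, g * (x 47 * wd [40, 46]) * g⁻¹ = x 44 * x 47 := by
  refine ⟨n 0 * n 3 * x 24, ?_⟩
  rw [mul_inv_eq_iff_eq_mul, n0_eq, n3_eq]
  have h := wd_eq ([33, 14, 33] ++ [24, 23, 24] ++ [24] ++ ([47] ++ [40, 46])) ([44] ++ [47] ++ ([33, 14, 33] ++ [24, 23, 24] ++ [24]))
    (by decide +kernel)
  simp only [wd_append, wd_one] at h
  exact h

/-- conjugating `x 47 * (x 40 * x 44 * x 46 * x 47)` to `z` -/
theorem conj2 : ∃ g : LL, g * (x 47 * wd [40, 44, 46, 47]) * g⁻¹ = x 44 * x 47 := by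
  refine ⟨n 0 * n 3 * x 33, ?_⟩
  rw [mul_inv_eq_iff_eq_mul, n0_eq, n3_eq]
  have h := wd_eq ([33, 14, 33] ++ [24, 23, 24] ++ [33] ++ ([47] ++ [40, 44, 46, 47]))
    ([44] ++ [47] ++ ([33, 14, 33] ++ [24, 23, 24] ++ [33])) (by decide +kernel)
  simp only [wd_append, wd_one] at h
  exact h

theorem sq1 : (wd [40, 46] : LL) * wd [40, 46] = 1 := by
  rw [← wd_append]
  exact wd_eq _ [] (by decide +kernel)

theorem sq2 : (wd [40, 44, 46, 47] : LL) * wd [40, 44, 46, 47] = 1 := by
  rw [← wd_append]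
  exact wd_eq _ [] (by decide +kernel)

/-! ### `O₂(FX) = 1` -/

theorem w0_alt : nw (w0L.map fun i => 3 - i) = w0 := by
  have hl : ∀ i ∈ w0L.map (fun i => 3 - i), i < 4 := by decide
  have hact : ∀ r < 48, act (w0L.map fun i => 3 - i) r = 47 - r := by decide +kernel
  have h1 : nw (w0L.map fun i => 3 - i) * w0⁻¹ = 1 := by
    refine eq_one_of_fix (mul_mem (nw_mem_N hl) (inv_mem w0_mem)) (l := [33, 27, 25, 24]) (by decide)
      sep_simple fun p hp => ?_
    have hp48 : p < 48 := by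
      simp only [List.mem_cons, List.not_mem_nil, or_false] at hp
      omega
    have h2 := w0_conj (show 47 - p < 48 by omega)
    have h3 := nw_conj hl (show 47 - p < 48 by omega)
    rw [hact _ (by omega)] at h3
    rw [show 47 - (47 - p) = p by omega] at h2 h3
    have h4 : w0⁻¹ * x p * w0 = x (47 - p) := by rw [← h2]; group
    calc nw (w0L.map fun i => 3 - i) * w0⁻¹ * x p * (nw (w0L.map fun i => 3 - i) * w0⁻¹)⁻¹ =
        nw (w0L.map fun i => 3 - i) * (w0⁻¹ * x p * w0) * (nw (w0L.map fun i => 3 - i))⁻¹ := by group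
      _ = x p := by rw [h4, h3]
  exact mul_inv_eq_one.1 h1

theorem gam_n {i : ℕ} (hi : i < 4) : gam (n i) = n (3 - i) := by
  have hT : ∀ i < 4, [sp i, 47 - sp i, sp i].map bar = [sp (3 - i), 47 - sp (3 - i), sp (3 - i)] := by decide
  have h48 : ∀ i < 4, ∀ r ∈ [sp i, 47 - sp i, sp i], r < 48 := by decide
  rw [n_eq_wd, gam_wd (h48 i hi), hT i hi, n_eq_wd]

theorem gam_nw {w : List ℕ} (h : ∀ i ∈ w, i < 4) : gam (nw w) = nw (w.map fun i => 3 - i) := by
  induction w with
  | nil => exact map_one _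
  | cons i w ih =>
    have e : ∀ (i : ℕ) (w : List ℕ), nw (i :: w) = n i * nw w := fun i w => by simp [nw]
    rw [e, map_mul, List.map_cons, e, gam_n (h i List.mem_cons_self), ih fun j hj => h j (List.mem_cons_of_mem _ hj)]

theorem gam_w0 : gam w0 = w0 := by
  unfold w0
  rw [gam_nw w0L_lt]
  exact w0_alt

theorem five : (x 44 * x 47 * (x 3 * x 0)) ^ 5 = 1 := by
  have h := wd_eq ([44, 47, 3, 0] ++ [44, 47, 3, 0] ++ [44, 47, 3, 0] ++ [44, 47, 3, 0] ++ [44, 47, 3, 0]) []
    (by decide +kernel)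
  simp only [wd_append] at h
  have e : (wd [44, 47, 3, 0] : LL) = x 44 * x 47 * (x 3 * x 0) := by
    simp only [wd_cons, wd_nil, mul_one, mul_assoc]
  rw [e] at h
  rw [pow_succ, pow_succ, pow_succ, pow_succ, pow_one]
  exact h

theorem z_ne : (x 44 * x 47 : LL) ≠ 1 := by
  intro h
  apply x44_ne_x47
  have h1 : x 44 * x 47 * x 47 = 1 * x 47 := by rw [h]
  rw [mul_assoc, xx, mul_one, one_mul] at h1
  exact h1

theorem nA1 : ¬ gA * wd [40, 46] = wd [40, 46] * gA := by
  intro h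
  have h1 := wd_eq ([24, 33] ++ [40, 46]) ([44, 47] ++ ([40, 46] ++ [24, 33])) (by decide +kernel)
  rw [wd_append, wd_append [44, 47], wd_append] at h1
  change gA * _ = _ * (_ * gA) at h1
  rw [h] at h1
  apply z_ne
  rw [show (x 44 * x 47 : LL) = wd [44, 47] by rw [wd_cons, wd_one]]
  exact right_eq_mul.1 h1

theorem nA2 : ¬ gA * wd [40, 44, 46, 47] = wd [40, 44, 46, 47] * gA := by
  intro h
  have h1 := wd_eq ([24, 33] ++ [40, 44, 46, 47]) ([44, 47] ++ ([40, 44, 46, 47] ++ [24, 33])) (by decide +kernel)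
  rw [wd_append, wd_append [44, 47], wd_append] at h1
  change gA * _ = _ * (_ * gA) at h1
  rw [h] at h1
  apply z_ne
  rw [show (x 44 * x 47 : LL) = wd [44, 47] by rw [wd_cons, wd_one]]
  exact right_eq_mul.1 h1

/-- A 2-subgroup of `FX` normalised by `FX` is trivial. -/
theorem core {D : Subgroup LL} (hD : IsPGroup 2 D) (hDf : ∀ d ∈ D, gam d = d)
    (hDn : ∀ k, gam k = k → ∀ d ∈ D, k * d * k⁻¹ ∈ D) : ∀ d ∈ D, d = 1 := by
  have := finite_LL
  have hp : Fact (Nat.Prime 2) := ⟨Nat.prime_two⟩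
  by_contra hcon
  push Not at hcon
  obtain ⟨d0, hd0, hd01⟩ := hcon
  let K : Subgroup LL :=
    { carrier := {u | u ∈ U ∧ gam u = u}
      mul_mem' := fun {a b} ha hb => ⟨mul_mem ha.1 hb.1, by rw [map_mul, ha.2, hb.2]⟩
      one_mem' := ⟨one_mem _, map_one _⟩
      inv_mem' := fun {a} ha => ⟨inv_mem ha.1, by rw [map_inv, ha.2]⟩ }
  have hK2 : IsPGroup 2 K := isPGroup_U.to_le fun u hu => hu.1
  have hKn : K ≤ Subgroup.normalizer (D : Set LL) := by
    intro k hk
    rw [Subgroup.mem_normalizer_iff]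
    intro r
    refine ⟨fun hr => hDn k hk.2 r hr, fun hr => ?_⟩
    have h1 := hDn k⁻¹ (by rw [map_inv, hk.2]) _ hr
    rwa [show k⁻¹ * (k * r * k⁻¹) * k⁻¹⁻¹ = r by group] at h1
  have hP : IsPGroup 2 (K ⊔ D : Subgroup LL) := hK2.to_sup_of_normal_right' hD hKn
  let P : Subgroup LL := K ⊔ D
  let D' : Subgroup P := D.subgroupOf P
  have hDn' : D'.Normal := by
    constructor
    intro x hx g
    change ((g * x * g⁻¹ : P) : LL) ∈ D
    have hg : (g : LL) ∈ Subgroup.normalizer (D : Set LL) :=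
      (sup_le hKn Subgroup.le_normalizer : P ≤ Subgroup.normalizer (D : Set LL)) g.2
    exact (Subgroup.mem_normalizer_iff.1 hg _).1 hx
  have hne : D' ≠ ⊥ := by
    intro h0
    have h1 : (⟨d0, (le_sup_right : D ≤ P) hd0⟩ : P) ∈ D' := hd0
    rw [h0, Subgroup.mem_bot] at h1
    exact hd01 (congrArg Subtype.val h1)
  have hnil : Group.IsNilpotent P := hP.isNilpotent
  have h1 := Cfsg.Agent.Lib.NormalAbelian.normal_inf_center_ne_bot D' hne
  obtain ⟨⟨⟨d, hdP⟩, hd⟩, hd1⟩ := Subgroup.ne_bot_iff_exists_ne_one.mp h1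
  have hdD : d ∈ D := hd.1
  have hd1' : d ≠ 1 := fun h => hd1 (Subtype.ext (Subtype.ext h))
  have hcom : ∀ k ∈ K, k * d = d * k := fun k hk => by
    have h2 := Subgroup.mem_center_iff.mp (Subgroup.mem_inf.1 hd).2 ⟨k, (le_sup_left : K ≤ P) hk⟩
    rw [Subtype.ext_iff, Subgroup.coe_mul, Subgroup.coe_mul] at h2
    exact h2
  have hA := hcom gA ⟨gA_mem, gam_gA⟩
  have hC := hcom gC ⟨gC_mem, gam_gC⟩
  have hT := hcom gT ⟨gT_mem, gam_gT⟩
  have hC2 : d * (x 28 * x 30) = x 28 * x 30 * d := by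
    rw [← gC_sq, ← mul_assoc, ← hC, mul_assoc, ← hC, mul_assoc]
  have hT2 : d * (x 44 * x 47) = x 44 * x 47 * d := by
    rw [← gT_sq, ← mul_assoc, ← hT, mul_assoc, ← hT, mul_assoc]
  obtain ⟨h44, h47⟩ := cent_z hT2
  have hdU : d ∈ U := mem_U_of h44 h47 hC2
  have hdf := hDf d hdD
  have key : d = x 44 * x 47 := by
    rcases sk hdU hdf (Or.inl (by rw [hA, mul_inv_cancel_right])) (Or.inl (by rw [hC, mul_inv_cancel_right])) with
      h | h | h | h
    · exact absurd h hd1'
    · exact h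
    · exact (nA1 (h ▸ hA)).elim
    · exact (nA2 (h ▸ hA)).elim
  have hw := hDn w0 gam_w0 d hdD
  have hw' : w0 * d * w0⁻¹ = x 3 * x 0 := by
    rw [key, show w0 * (x 44 * x 47) * w0⁻¹ = (w0 * x 44 * w0⁻¹) * (w0 * x 47 * w0⁻¹) by group,
      w0_conj (by omega), w0_conj (by omega)]
  rw [hw'] at hw
  have h5 : d * (x 3 * x 0) = 1 := by
    have h6 : d * (x 3 * x 0) ∈ D := mul_mem hdD hw
    obtain ⟨m, hm⟩ := hD ⟨_, h6⟩
    have hm' : (d * (x 3 * x 0)) ^ 2 ^ m = 1 := congrArg Subtype.val hm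
    have h7 : (d * (x 3 * x 0)) ^ 5 = 1 := by rw [key]; exact five
    have h8 := orderOf_dvd_of_pow_eq_one hm'
    have h9 := orderOf_dvd_of_pow_eq_one h7
    have h10 : orderOf (d * (x 3 * x 0)) ∣ 1 := by
      have hco : Nat.Coprime (2 ^ m) 5 := Nat.Coprime.pow_left _ (by norm_num)
      rw [← hco.gcd_eq_one]
      exact Nat.dvd_gcd h8 h9
    exact orderOf_eq_one_iff.1 (Nat.dvd_one.1 h10)
  apply hd1'
  have h6 : d ∈ U ⊓ V := by
    refine ⟨hdU, ?_⟩
    have m3 : x 3 ∈ V := x_mem_V (by omega)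
    have m0 : x 0 ∈ V := x_mem_V (by omega)
    have h7 : d = (x 3 * x 0)⁻¹ := by
      calc d = d * (x 3 * x 0) * (x 3 * x 0)⁻¹ := by rw [mul_inv_cancel_right]
        _ = (x 3 * x 0)⁻¹ := by rw [h5, one_mul]
    rw [h7]
    exact V.inv_mem (V.mul_mem m3 m0)
  rwa [U_inf_V, Subgroup.mem_bot] at h6

/-- `Z(F₄(2)) = 1` -/
theorem center {c : LL} (h : ∀ l : LL, c * l = l * c) : c = 1 := by
  have h1 : c ∈ U := mem_U_of (h _) (h _) (h _)
  refine U_inf_Vo h1 ⟨c, h1, ?_⟩
  show w0 * c * w0⁻¹ = c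
  rw [← h, mul_inv_cancel_right]

/-- The elements centralising `U`. -/
theorem center_U {c : LL} (h : ∀ u ∈ U, c * u = u * c) : c = 1 ∨ c = x 44 ∨ c = x 47 ∨ c = x 44 * x 47 := by
  have hc : c ∈ U := mem_U_of (h _ (x_mem_U (by omega) (by omega))) (h _ (x_mem_U (by omega) (by omega)))
    (h _ (mul_mem (x_mem_U (by omega) (by omega)) (x_mem_U (by omega) (by omega))))
  refine Cfsg.Agent.FourTwo.Facts.cent_U hc fun r hr => (h _ ?_).symm
  simp only [List.mem_cons, List.not_mem_nil, or_false] at hr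
  rcases hr with rfl | rfl | rfl | rfl <;> exact x_mem_U (by omega) (by omega)

theorem zz : (x 44 * x 47 : LL) * (x 44 * x 47) = 1 := by
  have h := wd_eq ([44, 47] ++ [44, 47]) [] (by decide +kernel)
  rw [wd_append, wd_cons, wd_one] at h
  exact h

end Cfsg.Agent.Omega.IId.FFour.TwoFacts

end
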