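import Cfsg.Agent.Mrg.ParSys.FrontSys


/-!
# THEOREM PAR for a subgroup

`SysW p B U H P m`: the parabolic systems with tori `Sys` without the hypothesis that the `P i` generate `G`.  The
subgroup `X = ⨆ i, P i` has a (B,N)-pair with Borel subgroup `B` (`SysW.exists_bnPair`).

* `SysW.sys_of_le` : `SysW` is a system `Sys` for every `X` with `⨆ i, P i = X`;
* `Front.sysW` : the analogue of `Front.sys`;
* `Front.exists_bnPair` : the (B,N)-pair of `⨆ i, E i`.
-/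

set_option autoImplicit false

namespace Cfsg.Agent.ParSys

open Subgroup

variable {G : Type*} [Group G] {I : Type*}

/-! ### Transfer to a subgroup -/

section transfer

variable {X : Subgroup G}

theorem map_subtype_le (T : Subgroup ↥X) : T.map X.subtype ≤ X := by
  rintro _ ⟨x, -, rfl⟩
  exact x.2

theorem coe_mem_map {T : Subgroup ↥X} {x : ↥X} : (x : G) ∈ T.map X.subtype ↔ x ∈ T :=
  Subgroup.mem_map_iff_mem (f := X.subtype) X.subtype_injective

theorem mem_map_subtype {T : Subgroup ↥X} {x : G} : x ∈ T.map X.subtype ↔ ∃ h : x ∈ X, (⟨x, h⟩ : ↥X) ∈ T := by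
  constructor
  · rintro ⟨y, hy, rfl⟩
    exact ⟨y.2, hy⟩
  · rintro ⟨h, hx⟩
    exact ⟨⟨x, h⟩, hx, rfl⟩

theorem subgroupOf_le_normalizer {A T : Subgroup G} (h : A ≤ normalizer (T : Set G)) :
    A.subgroupOf X ≤ normalizer ((T.subgroupOf X : Subgroup ↥X) : Set ↥X) := by
  intro x hx
  have h1 := h (Subgroup.mem_subgroupOf.1 hx)
  rw [Subgroup.mem_normalizer_iff] at h1 ⊢
  intro y
  exact h1 (y : G)

theorem le_normalizer_map {A : Subgroup G} (hA : A ≤ X) {T : Subgroup ↥X}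
    (h : A.subgroupOf X ≤ normalizer (T : Set ↥X)) : A ≤ normalizer ((T.map X.subtype : Subgroup G) : Set G) := by
  intro a ha
  have h1 := h (Subgroup.mem_subgroupOf.2 ha : (⟨a, hA ha⟩ : ↥X) ∈ A.subgroupOf X)
  rw [Subgroup.mem_normalizer_iff] at h1 ⊢
  intro y
  constructor
  · intro hy
    obtain ⟨hX, hy⟩ := mem_map_subtype.1 hy
    have h2 := (h1 ⟨y, hX⟩).1 hy
    exact coe_mem_map.2 h2
  · intro hy
    obtain ⟨hX, hy⟩ := mem_map_subtype.1 hy
    have hyX : y ∈ X := by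
      have := mul_mem (mul_mem (inv_mem (hA ha)) hX) (hA ha)
      have e : a⁻¹ * (a * y * a⁻¹) * a = y := by group
      rwa [e] at this
    have h2 : (⟨y, hyX⟩ : ↥X) ∈ T := (h1 ⟨y, hyX⟩).2 hy
    exact coe_mem_map.2 h2

theorem map_le_of_le_subgroupOf {A : Subgroup G} {T : Subgroup ↥X} (h : T ≤ A.subgroupOf X) :
    T.map X.subtype ≤ A := by
  rintro _ ⟨x, hx, rfl⟩
  exact h hx

theorem hallData_subgroupOf {p : ℕ} {B U H : Subgroup G} (D : Hall.HallData p B U H) (hB : B ≤ X) :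
    Hall.HallData p (B.subgroupOf X) (U.subgroupOf X) (H.subgroupOf X) where
  U_le := fun _ hx => D.U_le hx
  H_le := fun _ hx => D.H_le hx
  U_norm := subgroupOf_le_normalizer D.U_norm
  U_pgroup := D.U_pgroup.comap_of_injective X.subtype X.subtype_injective
  H_cop := by
    have h1 : Nat.card (H.subgroupOf X) = Nat.card H :=
      Nat.card_congr (Subgroup.subgroupOfEquivOfLe (D.H_le.trans hB)).toEquiv
    rw [h1]; exact D.H_cop
  UH_norm := by
    rw [← Subgroup.subgroupOf_sup (D.U_le.trans hB) (D.H_le.trans hB)]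
    exact subgroupOf_le_normalizer D.UH_norm
  index := by
    obtain ⟨k, hk⟩ := D.index
    exact ⟨k, by rw [← Subgroup.subgroupOf_sup (D.U_le.trans hB) (D.H_le.trans hB),
      Subgroup.relIndex_subgroupOf hB, hk]⟩
  core := by
    intro T hT hp hn
    have h1 := D.core (T.map X.subtype) (map_le_of_le_subgroupOf hT) (hp.map X.subtype)
      (le_normalizer_map hB hn)
    intro x hx
    exact h1 (coe_mem_map.2 hx)

theorem mem_Qk_subgroupOf {B M : Subgroup G} (hM : M ≤ X) {x : ↥X} :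
    x ∈ Qk (B.subgroupOf X) (M.subgroupOf X) ↔ (x : G) ∈ Qk B M := by
  constructor
  · intro h g hg
    exact h ⟨g, hM hg⟩ hg
  · intro h g hg
    exact h (g : G) hg

theorem pTr_subgroupOf {B U M : Subgroup G} (hB : B ≤ X) (hU : U ≤ X) (h : Hall.HallData.PTr B U M) :
    Hall.HallData.PTr (B.subgroupOf X) (U.subgroupOf X) (M.subgroupOf X) := by
  intro g hg hgB g' hg' hgB'
  obtain ⟨u, hu, b, hb, e⟩ := h g hg hgB g' hg' hgB'
  exact ⟨⟨u, hU hu⟩, hu, ⟨b, hB hb⟩, hb, Subtype.ext e⟩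

theorem sepT_subgroupOf {B U H Pi Pj : Subgroup G} (hU : U ≤ X) (hH : H ≤ X) (hi : Pi ≤ X) (hj : Pj ≤ X)
    (h : SepT B U H Pi Pj) :
    SepT (B.subgroupOf X) (U.subgroupOf X) (H.subgroupOf X) (Pi.subgroupOf X) (Pj.subgroupOf X) := by
  intro T hT hHT hc u hu
  obtain ⟨t, ht, h1, h2⟩ := h (T.map X.subtype) (map_le_of_le_subgroupOf hT) (le_normalizer_map hH hHT) (by
    intro v hv
    obtain ⟨t, ht, h1⟩ := hc ⟨v, hU hv⟩ hv
    exact ⟨(t : G), coe_mem_map.2 ht, (mem_Qk_subgroupOf hj).1 h1⟩) (u : G) hu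
  obtain ⟨htX, ht⟩ := mem_map_subtype.1 ht
  exact ⟨⟨t, htX⟩, ht, (mem_Qk_subgroupOf hi).2 h1, (mem_Qk_subgroupOf hj).2 h2⟩

theorem galE_subgroupOf {B : Subgroup G} {P : I → Subgroup G} {f : List I} {l : List ↥X} :
    GalE (B.subgroupOf X) (fun i => (P i).subgroupOf X) f l ↔ GalE B P f (l.map (Subtype.val : ↥X → G)) := by
  induction f generalizing l with
  | nil =>
    cases l with
    | nil => exact Iff.rfl
    | cons x l => exact Iff.rfl
  | cons i f ih =>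
    cases l with
    | nil => exact Iff.rfl
    | cons x l =>
      show (x ∈ (P i).subgroupOf X ∧ x ∉ B.subgroupOf X) ∧ _ ↔ ((x : G) ∈ P i ∧ (x : G) ∉ B) ∧ _
      rw [ih, Subgroup.mem_subgroupOf, Subgroup.mem_subgroupOf]

theorem exists_lift {B : Subgroup G} {P : I → Subgroup G} (hP : ∀ i, P i ≤ X) {f : List I} {l : List G}
    (h : GalE B P f l) : ∃ l' : List ↥X, l'.map (Subtype.val : ↥X → G) = l := by
  induction f generalizing l with
  | nil =>
    cases l with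
    | nil => exact ⟨[], rfl⟩
    | cons x l => exact h.elim
  | cons i f ih =>
    cases l with
    | nil => exact h.elim
    | cons x l =>
      obtain ⟨l', hl'⟩ := ih h.2
      exact ⟨⟨x, hP i h.1.1⟩ :: l', by rw [List.map_cons, hl']⟩

theorem same_subgroupOf {B : Subgroup G} {t s : ↥X} {l l' : List ↥X} :
    Same (B.subgroupOf X) t s l l' ↔ Same B (t : G) (s : G) (l.map (Subtype.val : ↥X → G)) (l'.map (Subtype.val : ↥X → G)) := by
  induction l generalizing t s l' with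
  | nil =>
    cases l' with
    | nil =>
      show t⁻¹ * s ∈ B.subgroupOf X ↔ _
      rw [Subgroup.mem_subgroupOf]
      exact Iff.rfl
    | cons y l' => exact Iff.rfl
  | cons x l ih =>
    cases l' with
    | nil => exact Iff.rfl
    | cons y l' =>
      show (t⁻¹ * s ∈ B.subgroupOf X ∧ _) ↔ ((t : G)⁻¹ * (s : G) ∈ B ∧ Same B ((t : G) * x) ((s : G) * y) _ _)
      rw [ih, Subgroup.mem_subgroupOf]
      exact Iff.rfl

theorem coe_prod (l : List ↥X) : ((l.prod : ↥X) : G) = (l.map (Subtype.val : ↥X → G)).prod := by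
  induction l with
  | nil => rfl
  | cons x l ih => rw [List.prod_cons, List.map_cons, List.prod_cons, ← ih]; rfl

theorem prod_mem_iff {B : Subgroup G} {l l' : List ↥X} :
    l.prod⁻¹ * l'.prod ∈ B.subgroupOf X ↔
      (l.map (Subtype.val : ↥X → G)).prod⁻¹ * (l'.map (Subtype.val : ↥X → G)).prod ∈ B := by
  rw [Subgroup.mem_subgroupOf, ← coe_prod, ← coe_prod]
  exact Iff.rfl

theorem polygon_subgroupOf {B : Subgroup G} {P : I → Subgroup G} {a b : I} {m : ℕ} (hB : B ≤ X)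
    (hP : ∀ i, P i ≤ X) (h : Polygon B P a b m) :
    Polygon (B.subgroupOf X) (fun i => (P i).subgroupOf X) a b m where
  uniq := fun l l' h1 h2 h3 =>
    same_subgroupOf.2 (h.uniq _ _ (galE_subgroupOf.1 h1) (galE_subgroupOf.1 h2) (prod_mem_iff.1 h3))
  uniq' := fun l l' h1 h2 h3 =>
    same_subgroupOf.2 (h.uniq' _ _ (galE_subgroupOf.1 h1) (galE_subgroupOf.1 h2) (prod_mem_iff.1 h3))
  swap := by
    obtain ⟨l, l', h1, h2, h3⟩ := h.swap
    obtain ⟨k, rfl⟩ := exists_lift hP h1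
    obtain ⟨k', rfl⟩ := exists_lift hP h2
    exact ⟨k, k', galE_subgroupOf.2 h1, galE_subgroupOf.2 h2, prod_mem_iff.2 h3⟩
  trans := fun l l' h1 h2 => by
    obtain ⟨y, hy, h3⟩ := h.trans _ _ (galE_subgroupOf.1 h1) (galE_subgroupOf.1 h2)
    exact ⟨⟨y, hB hy⟩, hy, same_subgroupOf.2 h3⟩
  trans' := fun l l' h1 h2 => by
    obtain ⟨y, hy, h3⟩ := h.trans' _ _ (galE_subgroupOf.1 h1) (galE_subgroupOf.1 h2)
    exact ⟨⟨y, hB hy⟩, hy, same_subgroupOf.2 h3⟩

theorem iSup_subgroupOf {P : I → Subgroup G} (hP : ⨆ i, P i = X) : ⨆ i, (P i).subgroupOf X = ⊤ := by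
  apply Subgroup.map_injective X.subtype_injective
  rw [Subgroup.map_iSup]
  have h1 : ∀ i, ((P i).subgroupOf X).map X.subtype = P i := fun i => by
    rw [Subgroup.subgroupOf_map_subtype, inf_eq_left]
    exact (le_iSup P i).trans hP.le
  simp_rw [h1]
  rw [hP, ← MonoidHom.range_eq_map, Subgroup.range_subtype]

end transfer

/-! ### Systems without generation -/

/-- **A parabolic system with tori** (the `P i` need not generate `G`). -/
structure SysW (p : ℕ) (B U H : Subgroup G) (P : I → Subgroup G) (m : I → I → ℕ) : Prop where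
  /-- `U` normal `p`-subgroup of `B`, `H` a Hall `p'`-subgroup of `U H`, `U H` normal in `B`, `B / U H` a `p`-group -/
  hall : Hall.HallData p B U H
  le : ∀ i, B ≤ P i
  /-- every panel has at least three chambers -/
  three : ∀ i, ∃ x ∈ P i, ∃ y ∈ P i, x ∉ B ∧ y ∉ B ∧ x⁻¹ * y ∉ B
  /-- `U` is transitive on the panels -/
  ptr : ∀ i, Hall.HallData.PTr B U (P i)
  /-- `U` modulo the kernel is semiregular on the panels -/
  reg : ∀ i, ∀ u ∈ U, ∀ g ∈ P i, g ∉ B → g⁻¹ * u * g ∈ B → u ∈ Qk B (P i)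
  /-- `C_U(H)` acts trivially on the panels -/
  fix : ∀ i, ∀ c ∈ U, c ∈ centralizer (H : Set G) → c ∈ Qk B (P i)
  m_two : ∀ i j, i ≠ j → 2 ≤ m i j
  m_symm : ∀ i j, m i j = m j i
  /-- the residues of rank two are generalised polygons -/
  poly : ∀ i j, i ≠ j → Polygon B P i j (m i j)
  /-- `H` distinguishes the two types -/
  torus : ∀ i j, i ≠ j → SepT B U H (P i) (P j) ∨ SepT B U H (P j) (P i)
  /-- `Q i ∩ Q j` consists of non-generators of `U` modulo the kernel of the residue -/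
  frat : ∀ i j, i ≠ j → ∀ T ≤ U, H ≤ normalizer (T : Set G) →
    (∀ u ∈ U, ∃ t ∈ T, t⁻¹ * u ∈ Qk B (P i) ∧ t⁻¹ * u ∈ Qk B (P j)) →
    ∀ u ∈ U, ∃ t ∈ T, t⁻¹ * u ∈ Qk B (P i ⊔ P j)

namespace SysW

variable {p : ℕ} {B U H : Subgroup G} {P : I → Subgroup G} {m : I → I → ℕ} (S : SysW p B U H P m)

include S

theorem sys (gen : ⨆ i, P i = ⊤) : Sys p B U H P m where
  hall := S.hall
  gen := gen
  le := S.le
  three := S.three
  ptr := S.ptr
  reg := S.reg
  fix := S.fix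
  m_two := S.m_two
  m_symm := S.m_symm
  poly := S.poly
  torus := S.torus
  frat := S.frat

/-- **Restriction to the subgroup generated by the `P i`.** -/
theorem sys_of_eq [hI : Nonempty I] {X : Subgroup G} (hX : ⨆ i, P i = X) :
    Sys p (B.subgroupOf X) (U.subgroupOf X) (H.subgroupOf X) (fun i => (P i).subgroupOf X) m := by
  have hP : ∀ i, P i ≤ X := fun i => (le_iSup P i).trans hX.le
  have hB : B ≤ X := (S.le (Classical.arbitrary I)).trans (hP _)
  have hU : U ≤ X := S.hall.U_le.trans hB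
  have hH : H ≤ X := S.hall.H_le.trans hB
  exact {
    hall := hallData_subgroupOf S.hall hB
    gen := iSup_subgroupOf hX
    le := fun i _ hx => S.le i hx
    three := by
      intro i
      obtain ⟨x, hx, y, hy, h1, h2, h3⟩ := S.three i
      exact ⟨⟨x, hP i hx⟩, hx, ⟨y, hP i hy⟩, hy, h1, h2, h3⟩
    ptr := fun i => pTr_subgroupOf hB hU (S.ptr i)
    reg := fun i u hu g hg hgB h => (mem_Qk_subgroupOf (hP i)).2 (S.reg i (u : G) hu (g : G) hg hgB h)
    fix := by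
      intro i c hc hcH
      refine (mem_Qk_subgroupOf (hP i)).2 (S.fix i (c : G) hc ?_)
      rw [Subgroup.mem_centralizer_iff] at hcH ⊢
      intro h hh
      exact congrArg Subtype.val (hcH ⟨h, hH hh⟩ hh)
    m_two := S.m_two
    m_symm := S.m_symm
    poly := fun i j hij => polygon_subgroupOf hB hP (S.poly i j hij)
    torus := fun i j hij => (S.torus i j hij).imp (sepT_subgroupOf hU hH (hP i) (hP j))
      (sepT_subgroupOf hU hH (hP j) (hP i))
    frat := by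
      intro i j hij T hT hHT hc u hu
      obtain ⟨t, ht, h1⟩ := S.frat i j hij (T.map X.subtype) (map_le_of_le_subgroupOf hT)
        (le_normalizer_map hH hHT) (by
          intro v hv
          obtain ⟨t, ht, h1, h2⟩ := hc ⟨v, hU hv⟩ hv
          exact ⟨(t : G), coe_mem_map.2 ht, (mem_Qk_subgroupOf (hP i)).1 h1, (mem_Qk_subgroupOf (hP j)).1 h2⟩)
        (u : G) hu
      obtain ⟨htX, ht⟩ := mem_map_subtype.1 ht
      refine ⟨⟨t, htX⟩, ht, ?_⟩
      rw [← Subgroup.subgroupOf_sup (hP i) (hP j)]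
      exact (mem_Qk_subgroupOf (sup_le (hP i) (hP j))).2 h1 }

theorem sys_iSup [Nonempty I] :
    Sys p (B.subgroupOf (⨆ i, P i)) (U.subgroupOf (⨆ i, P i)) (H.subgroupOf (⨆ i, P i))
      (fun i => (P i).subgroupOf (⨆ i, P i)) m := S.sys_of_eq rfl

/-- **THEOREM PAR for a subgroup**: `X = ⨆ i, P i` has a (B,N)-pair with Borel subgroup `B`, of rank `|I|`. -/
theorem exists_bnPair [Nonempty I] [Finite G] [Fact p.Prime] {X : Subgroup G} (hX : ⨆ i, P i = X) :
    ∃ Q : Cfsg.BNPair ↥X, Q.B = B.subgroupOf X ∧ Q.rank = Nat.card I ∧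
    ((∀ J : Set I, J.Nonempty → Jᶜ.Nonempty → ∃ i ∈ J, ∃ j ∈ Jᶜ, 3 ≤ m i j) → Q.Irreducible) :=
  (S.sys_of_eq hX).exists_bnPair

end SysW

/-! ### From local data -/

theorem Front.iSup_Pa [Nonempty I] {p : ℕ} {U : Subgroup G} {E : I → Subgroup G} (_ : Front p U E) :
    ⨆ i, Pa U E i = ⨆ i, E i := by
  apply le_antisymm
  · refine iSup_le fun i => sup_le (iSup_le fun j => ?_) (le_iSup E i)
    exact inf_le_left.trans (le_iSup E j)
  · exact iSup_mono fun i => Front.E_le_Pa i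

/-- **From local data to a parabolic system with tori**, without generation. -/
theorem Front.sysW [Nonempty I] [Finite G] {p : ℕ} [hp : Fact p.Prime] {U : Subgroup G} {E : I → Subgroup G}
    {m : I → I → ℕ} (D : Front p U E)
    (three : ∀ i, ∃ x ∈ Pa U E i, ∃ y ∈ Pa U E i, x ∉ Bo U E ∧ y ∉ Bo U E ∧ x⁻¹ * y ∉ Bo U E)
    (ptr : ∀ i, Hall.HallData.PTr (Bo U E) U (Pa U E i))
    (reg : ∀ i, ∀ u ∈ U, ∀ g ∈ Pa U E i, g ∉ Bo U E → g⁻¹ * u * g ∈ Bo U E → u ∈ Qk (Bo U E) (Pa U E i))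
    (fpf : ∀ i, FpfG p (Bo U E) U (Pa U E i))
    (m_two : ∀ i j, i ≠ j → 2 ≤ m i j) (m_symm : ∀ i j, m i j = m j i)
    (poly : ∀ i j, i ≠ j → Polygon (Bo U E) (Pa U E) i j (m i j))
    (torus : ∀ i j, i ≠ j → SepG p (Bo U E) U (Pa U E i) (Pa U E j) ∨ SepG p (Bo U E) U (Pa U E j) (Pa U E i))
    (frat : ∀ i j, i ≠ j → ∀ T ≤ U,
      (∀ u ∈ U, ∃ t ∈ T, t⁻¹ * u ∈ Qk (Bo U E) (Pa U E i) ∧ t⁻¹ * u ∈ Qk (Bo U E) (Pa U E j)) →
      ∀ u ∈ U, ∃ t ∈ T, t⁻¹ * u ∈ Qk (Bo U E) (Pa U E i ⊔ Pa U E j)) :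
    ∃ H : Subgroup G, U ⊔ H = Bo U E ∧ SysW p (Bo U E) U H (Pa U E) m := by
  obtain ⟨H, hall, hUH⟩ := D.exists_hall
  exact ⟨H, hUH, {
    hall := hall
    le := Front.Bo_le_Pa
    three := three
    ptr := ptr
    reg := reg
    fix := fun i => fix_of_fpfG hall (Front.Bo_le_Pa i) (fpf i)
    m_two := m_two
    m_symm := m_symm
    poly := poly
    torus := fun i j hij => (torus i j hij).imp
      (fun h => (sep_of_sepG hall (Front.Bo_le_Pa i) (Front.Bo_le_Pa j) h).sepT hall (Front.Bo_le_Pa j))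
      (fun h => (sep_of_sepG hall (Front.Bo_le_Pa j) (Front.Bo_le_Pa i) h).sepT hall (Front.Bo_le_Pa i))
    frat := fun i j hij T hT _ h => frat i j hij T hT h }⟩

/-- The (B,N)-pair of `X = ⨆ i, E i`. -/
theorem Front.exists_bnPair [Nonempty I] [Finite G] {p : ℕ} [hp : Fact p.Prime] {U : Subgroup G}
    {E : I → Subgroup G} {m : I → I → ℕ} (D : Front p U E) {X : Subgroup G} (hX : ⨆ i, E i = X)
    (three : ∀ i, ∃ x ∈ Pa U E i, ∃ y ∈ Pa U E i, x ∉ Bo U E ∧ y ∉ Bo U E ∧ x⁻¹ * y ∉ Bo U E)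
    (ptr : ∀ i, Hall.HallData.PTr (Bo U E) U (Pa U E i))
    (reg : ∀ i, ∀ u ∈ U, ∀ g ∈ Pa U E i, g ∉ Bo U E → g⁻¹ * u * g ∈ Bo U E → u ∈ Qk (Bo U E) (Pa U E i))
    (fpf : ∀ i, FpfG p (Bo U E) U (Pa U E i))
    (m_two : ∀ i j, i ≠ j → 2 ≤ m i j) (m_symm : ∀ i j, m i j = m j i)
    (poly : ∀ i j, i ≠ j → Polygon (Bo U E) (Pa U E) i j (m i j))
    (torus : ∀ i j, i ≠ j → SepG p (Bo U E) U (Pa U E i) (Pa U E j) ∨ SepG p (Bo U E) U (Pa U E j) (Pa U E i))
    (frat : ∀ i j, i ≠ j → ∀ T ≤ U,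
      (∀ u ∈ U, ∃ t ∈ T, t⁻¹ * u ∈ Qk (Bo U E) (Pa U E i) ∧ t⁻¹ * u ∈ Qk (Bo U E) (Pa U E j)) →
      ∀ u ∈ U, ∃ t ∈ T, t⁻¹ * u ∈ Qk (Bo U E) (Pa U E i ⊔ Pa U E j)) :
    ∃ Q : Cfsg.BNPair ↥X, Q.B = (Bo U E).subgroupOf X ∧ Q.rank = Nat.card I ∧
    ((∀ J : Set I, J.Nonempty → Jᶜ.Nonempty → ∃ i ∈ J, ∃ j ∈ Jᶜ, 3 ≤ m i j) → Q.Irreducible) := by
  obtain ⟨H, -, S⟩ := D.sysW three ptr reg fpf m_two m_symm poly torus frat
  exact S.exists_bnPair (D.iSup_Pa.trans hX)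

end Cfsg.Agent.ParSys
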