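import Cfsg.Agent.Mrg.ParSys.Main


/-!
# Generalised quadrangles from point and line subgroups

`Quad B Pa Pb R V W` (`R ≤ V ≤ W` subgroups; `Pa` normalises the line `V`, `Pb` normalises the point `R` and
`W = R^⊥`; distinct points of `V` meet trivially; `V^x ∩ W ∩ W^y ≤ R` for `x ∈ Pb - B`, `y ∈ Pa - B`): there are no
triangles, hence the galleries of length four are determined by their end (`Quad.uniq`, `Quad.uniq'`).

`Quad.polygon`: `Polygon B P a b 4`, if some apartment closes and `O ≤ B` has enough conjugates of the opposite point.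
-/

set_option autoImplicit false

namespace Cfsg.Agent.ParSys

open Subgroup
open scoped Pointwise

variable {G : Type*} [Group G]

/-- point-line subgroups -/
structure Quad (B Pa Pb R V W : Subgroup G) : Prop where
  leA : B ≤ Pa
  leB : B ≤ Pb
  inf : Pa ⊓ Pb ≤ B
  aV : ∀ x ∈ Pa, ∀ v ∈ V, x * v * x⁻¹ ∈ V
  bR : ∀ x ∈ Pb, ∀ r ∈ R, x * r * x⁻¹ ∈ R
  bW : ∀ x ∈ Pb, ∀ w ∈ W, x * w * x⁻¹ ∈ W
  RV : R ≤ V
  VW : V ≤ W
  ne : ∃ r ∈ R, r ≠ 1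
  aR : ∀ x ∈ Pa, x ∉ B → ∀ r ∈ R, x * r * x⁻¹ ∈ R → r = 1
  bV : ∀ x ∈ Pb, x ∉ B → ∀ y ∈ Pa, y ∉ B → ∀ v ∈ V, ∀ w ∈ W, x * v * x⁻¹ = y * w * y⁻¹ → x * v * x⁻¹ ∈ R

namespace Quad

variable {B Pa Pb R V W : Subgroup G} (h : Quad B Pa Pb R V W)
include h

theorem key₁ {x2 x3 y x2' x3' : G} (h2 : x2 ∈ Pb) (h2B : x2 ∉ B) (h3 : x3 ∈ Pa) (h3B : x3 ∉ B)
    (hy : y ∈ Pa) (hyB : y ∉ B) (h2' : x2' ∈ Pb) (h3' : x3' ∈ Pa)
    (he : (x2 * x3)⁻¹ * (y * x2' * x3') ∈ Pb) : False := by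
  obtain ⟨r, hr, hr1⟩ := h.ne
  apply hr1
  refine h.aR x3 h3 h3B r hr ?_
  have hv : x3 * r * x3⁻¹ ∈ V := h.aV x3 h3 r (h.RV hr)
  -- the other representation
  have hr' := h.bR _ (inv_mem he) r hr
  have hv' := h.aV x3' h3' _ (h.RV hr')
  have hw' := h.bW x2' h2' _ (h.VW hv')
  have e : x2 * (x3 * r * x3⁻¹) * x2⁻¹ =
      y * (x2' * (x3' * (((x2 * x3)⁻¹ * (y * x2' * x3'))⁻¹ * r *
        ((x2 * x3)⁻¹ * (y * x2' * x3'))⁻¹⁻¹) * x3'⁻¹) * x2'⁻¹) * y⁻¹ := by group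
  have h4 := h.bV x2 h2 h2B y hy hyB _ hv _ hw' e
  have h5 := h.bR x2⁻¹ (inv_mem h2) _ h4
  have e2 : x2⁻¹ * (x2 * (x3 * r * x3⁻¹) * x2⁻¹) * x2⁻¹⁻¹ = x3 * r * x3⁻¹ := by group
  rwa [e2] at h5

theorem key₂ {x2 x3 x2' x3' : G} (h2 : x2 ∈ Pb) (h3 : x3 ∈ Pa) (h3B : x3 ∉ B)
    (h2' : x2' ∈ Pb) (h3' : x3' ∈ Pa) (he : (x2 * x3)⁻¹ * (x2' * x3') ∈ Pb) : x2⁻¹ * x2' ∈ B := by
  by_contra hx
  obtain ⟨r, hr, hr1⟩ := h.ne
  apply hr1
  refine h.aR x3 h3 h3B r hr ?_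
  have hv : x3 * r * x3⁻¹ ∈ V := h.aV x3 h3 r (h.RV hr)
  have hr' := h.bR _ (inv_mem he) r hr
  have hv' := h.aV x3' h3' _ (h.RV hr')
  have hv2 := h.aV x3⁻¹ (inv_mem h3) _ hv
  have e : x2⁻¹ * x2' * (x3' * (((x2 * x3)⁻¹ * (x2' * x3'))⁻¹ * r *
        ((x2 * x3)⁻¹ * (x2' * x3'))⁻¹⁻¹) * x3'⁻¹) * (x2⁻¹ * x2')⁻¹ = x3 * (x3⁻¹ * (x3 * r * x3⁻¹) * x3⁻¹⁻¹) * x3⁻¹ := by
    group
  have h4 := h.bV _ (mul_mem (inv_mem h2) h2') hx x3 h3 h3B _ hv' _ (h.VW hv2) e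
  rw [e] at h4
  have e2 : x3 * (x3⁻¹ * (x3 * r * x3⁻¹) * x3⁻¹⁻¹) * x3⁻¹ = x3 * r * x3⁻¹ := by group
  rwa [e2] at h4

/-- galleries of type `a b a` to the same point -/
theorem three {x1 x2 x3 x1' x2' x3' : G} (h1 : x1 ∈ Pa) (h2 : x2 ∈ Pb) (h2B : x2 ∉ B) (h3 : x3 ∈ Pa)
    (h3B : x3 ∉ B) (h1' : x1' ∈ Pa) (h2' : x2' ∈ Pb) (h3' : x3' ∈ Pa)
    (he : (x1 * x2 * x3)⁻¹ * (x1' * x2' * x3') ∈ Pb) :
    x1⁻¹ * x1' ∈ B ∧ (x1 * x2)⁻¹ * (x1' * x2') ∈ B ∧ (x1 * x2 * x3)⁻¹ * (x1' * x2' * x3') ∈ B := by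
  have hb : x1⁻¹ * x1' ∈ B := by
    by_contra hy
    refine h.key₁ h2 h2B h3 h3B (mul_mem (inv_mem h1) h1') hy h2' h3' ?_
    have e : (x2 * x3)⁻¹ * (x1⁻¹ * x1' * x2' * x3') = (x1 * x2 * x3)⁻¹ * (x1' * x2' * x3') := by group
    rwa [e]
  have hc : (x1 * x2)⁻¹ * (x1' * x2') ∈ B := by
    have := h.key₂ (x2' := x1⁻¹ * x1' * x2') h2 h3 h3B (mul_mem (h.leB hb) h2') h3' (by
      have e : (x2 * x3)⁻¹ * (x1⁻¹ * x1' * x2' * x3') = (x1 * x2 * x3)⁻¹ * (x1' * x2' * x3') := by group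
      rwa [e])
    have e : x2⁻¹ * (x1⁻¹ * x1' * x2') = (x1 * x2)⁻¹ * (x1' * x2') := by group
    rwa [e] at this
  refine ⟨hb, hc, h.inf (mem_inf.2 ⟨?_, he⟩)⟩
  have e : (x1 * x2 * x3)⁻¹ * (x1' * x2' * x3') = x3⁻¹ * ((x1 * x2)⁻¹ * (x1' * x2')) * x3' := by group
  rw [e]
  exact mul_mem (mul_mem (inv_mem h3) (h.leA hc)) h3'

/-- galleries of type `b a b` to the same line -/
theorem three' {x1 x2 x3 x1' x2' x3' : G} (h1 : x1 ∈ Pb) (h2 : x2 ∈ Pa) (h2B : x2 ∉ B) (h3 : x3 ∈ Pb)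
    (h3B : x3 ∉ B) (h1' : x1' ∈ Pb) (h2' : x2' ∈ Pa) (h3' : x3' ∈ Pb)
    (he : (x1 * x2 * x3)⁻¹ * (x1' * x2' * x3') ∈ Pa) :
    x1⁻¹ * x1' ∈ B ∧ (x1 * x2)⁻¹ * (x1' * x2') ∈ B ∧ (x1 * x2 * x3)⁻¹ * (x1' * x2' * x3') ∈ B := by
  have hg : (x1 * x2 * x3)⁻¹ * (x1' * x2' * x3') ∈ B := by
    by_contra hyB
    obtain ⟨r, hr, hr1⟩ := h.ne
    apply hr1
    -- `r'' = x3'⁻¹ r x3'`
    have hr2 : x3'⁻¹ * r * x3'⁻¹⁻¹ ∈ R := h.bR _ (inv_mem h3') r hr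
    have hr3 : x3'⁻¹ * r * x3'⁻¹⁻¹ = 1 := by
      refine h.aR _ he hyB _ hr2 ?_
      set y := (x1 * x2 * x3)⁻¹ * (x1' * x2' * x3') with hy
      have hv := h.aV y he _ (h.RV hr2)
      have hw : x1⁻¹ * (x1' * (x2' * r * x2'⁻¹) * x1'⁻¹) * x1⁻¹⁻¹ ∈ W :=
        h.bW _ (inv_mem h1) _ (h.bW _ h1' _ (h.VW (h.aV _ h2' _ (h.RV hr))))
      have e : x3 * (y * (x3'⁻¹ * r * x3'⁻¹⁻¹) * y⁻¹) * x3⁻¹ =
          x2⁻¹ * (x1⁻¹ * (x1' * (x2' * r * x2'⁻¹) * x1'⁻¹) * x1⁻¹⁻¹) * x2⁻¹⁻¹ := by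
        rw [hy]; group
      have h4 := h.bV x3 h3 h3B x2⁻¹ (inv_mem h2) (fun h0 => h2B (inv_mem_iff.1 h0)) _ hv _ hw e
      have h5 := h.bR x3⁻¹ (inv_mem h3) _ h4
      have e2 : x3⁻¹ * (x3 * (y * (x3'⁻¹ * r * x3'⁻¹⁻¹) * y⁻¹) * x3⁻¹) * x3⁻¹⁻¹ =
          y * (x3'⁻¹ * r * x3'⁻¹⁻¹) * y⁻¹ := by group
      rwa [e2] at h5
    have e3 : r = x3' * (x3'⁻¹ * r * x3'⁻¹⁻¹) * x3'⁻¹ := by group
    rw [e3, hr3]; group
  have hh : (x1 * x2)⁻¹ * (x1' * x2') ∈ Pb := by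
    have e : (x1 * x2)⁻¹ * (x1' * x2') = x3 * ((x1 * x2 * x3)⁻¹ * (x1' * x2' * x3')) * x3'⁻¹ := by group
    rw [e]
    exact mul_mem (mul_mem h3 (h.leB hg)) (inv_mem h3')
  have hb : x1⁻¹ * x1' ∈ B := h.key₂ h1 h2 h2B h1' h2' hh
  refine ⟨hb, h.inf (mem_inf.2 ⟨?_, hh⟩), hg⟩
  have e : (x1 * x2)⁻¹ * (x1' * x2') = x2⁻¹ * (x1⁻¹ * x1') * x2' := by group
  rw [e]
  exact mul_mem (mul_mem (inv_mem h2) (h.leA hb)) h2'

end Quad

/-! ### Galleries of length four -/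

section gal

variable {I : Type*} {B : Subgroup G} {P : I → Subgroup G} {a b : I}

theorem galE_four {l : List G} (hl : GalE B P (alt a b 4) l) : ∃ x1 x2 x3 x4, l = [x1, x2, x3, x4] ∧
    (x1 ∈ P a ∧ x1 ∉ B) ∧ (x2 ∈ P b ∧ x2 ∉ B) ∧ (x3 ∈ P a ∧ x3 ∉ B) ∧ (x4 ∈ P b ∧ x4 ∉ B) := by
  match l, hl with
  | [x1, x2, x3, x4], hl =>
    obtain ⟨h1, h2, h3, h4, -⟩ := hl
    exact ⟨x1, x2, x3, x4, rfl, h1, h2, h3, h4⟩
  | [], hl => exact hl.elim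
  | [_], hl => exact hl.2.elim
  | [_, _], hl => exact hl.2.2.elim
  | [_, _, _], hl => exact hl.2.2.2.elim
  | _ :: _ :: _ :: _ :: _ :: _, hl => exact hl.2.2.2.2.elim

theorem galE_four_iff {x1 x2 x3 x4 : G} : GalE B P (alt a b 4) [x1, x2, x3, x4] ↔
    (x1 ∈ P a ∧ x1 ∉ B) ∧ (x2 ∈ P b ∧ x2 ∉ B) ∧ (x3 ∈ P a ∧ x3 ∉ B) ∧ (x4 ∈ P b ∧ x4 ∉ B) := by
  constructor
  · rintro ⟨h1, h2, h3, h4, -⟩
    exact ⟨h1, h2, h3, h4⟩
  · rintro ⟨h1, h2, h3, h4⟩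
    exact ⟨h1, h2, h3, h4, trivial⟩

theorem same_four {x1 x2 x3 x4 x1' x2' x3' x4' : G} (h1 : x1⁻¹ * x1' ∈ B)
    (h2 : (x1 * x2)⁻¹ * (x1' * x2') ∈ B) (h3 : (x1 * x2 * x3)⁻¹ * (x1' * x2' * x3') ∈ B)
    (h4 : [x1, x2, x3, x4].prod⁻¹ * [x1', x2', x3', x4'].prod ∈ B) :
    Same B 1 1 [x1, x2, x3, x4] [x1', x2', x3', x4'] := by
  refine ⟨by simp, ?_, ?_, ?_, ?_⟩
  · simpa using h1
  · simpa using h2
  · simpa [mul_assoc] using h3
  · show (1 * x1 * x2 * x3 * x4)⁻¹ * (1 * x1' * x2' * x3' * x4') ∈ B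
    simpa [mul_assoc] using h4

end gal

/-! ### Counting the ends of galleries -/

section count

variable {I : Type*} {B : Subgroup G} {P : I → Subgroup G}

/-- the chambers `≠ B` of the panel `M / B` -/
def PanS (B M : Subgroup G) : Set (G ⧸ B) := {q | ∃ x ∈ M, x ∉ B ∧ (x : G ⧸ B) = q}

/-- the ends of the galleries of type `f` which start in `B` -/
def Ends (B : Subgroup G) (P : I → Subgroup G) (f : List I) : Set (G ⧸ B) :=
  {q | ∃ l, GalE B P f l ∧ (l.prod : G ⧸ B) = q}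

theorem smul_mk (b x : G) : b • (x : G ⧸ B) = ((b * x : G) : G ⧸ B) := rfl

theorem Ends_smul (hle : ∀ i, B ≤ P i) {f : List I} {b : G} (hb : b ∈ B) {q : G ⧸ B} (hq : q ∈ Ends B P f) :
    b • q ∈ Ends B P f := by
  obtain ⟨l, hl, rfl⟩ := hq
  rw [smul_mk]
  cases f with
  | nil =>
    cases l with
    | nil =>
      refine ⟨[], trivial, ?_⟩
      rw [List.prod_nil, mul_one]
      exact QuotientGroup.eq.2 (by simpa using hb)
    | cons x l => exact hl.elim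
  | cons i f =>
    cases l with
    | nil => exact hl.elim
    | cons x l =>
      obtain ⟨⟨hx, hxB⟩, hl⟩ := hl
      refine ⟨(b * x) :: l, ⟨⟨mul_mem (hle i hb) hx, fun h0 => hxB ((mul_mem_cancel_left hb).1 h0)⟩, hl⟩, ?_⟩
      rw [List.prod_cons, List.prod_cons, mul_assoc]

theorem ncard_Ends_cons [Finite G] (hle : ∀ i, B ≤ P i) (i : I) (f : List I) :
    (Ends B P (i :: f)).ncard ≤ (PanS B (P i)).ncard * (Ends B P f).ncard := by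
  classical
  have hsub : Ends B P (i :: f) ⊆ (fun x : (G ⧸ B) × (G ⧸ B) => x.1.out • x.2) ''
      ((PanS B (P i)) ×ˢ (Ends B P f)) := by
    rintro q ⟨l, hl, rfl⟩
    cases l with
    | nil => exact hl.elim
    | cons x l =>
      obtain ⟨⟨hx, hxB⟩, hl⟩ := hl
      have h1 : ((x : G ⧸ B).out : G)⁻¹ * x ∈ B := by
        rw [← QuotientGroup.eq, QuotientGroup.out_eq']
      refine ⟨((x : G ⧸ B), (((x : G ⧸ B).out : G)⁻¹ * x) • (l.prod : G ⧸ B)),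
        ⟨⟨x, hx, hxB, rfl⟩, Ends_smul hle h1 ⟨l, hl, rfl⟩⟩, ?_⟩
      show ((x : G ⧸ B).out : G) • ((((x : G ⧸ B).out : G)⁻¹ * x) • (l.prod : G ⧸ B)) = _
      rw [smul_mk, smul_mk, List.prod_cons]
      congr 1
      group
  calc (Ends B P (i :: f)).ncard ≤ _ := Set.ncard_le_ncard hsub (Set.toFinite _)
    _ ≤ ((PanS B (P i)) ×ˢ (Ends B P f)).ncard := Set.ncard_image_le (Set.toFinite _)
    _ = _ := Set.ncard_prod

theorem ncard_Ends_nil : (Ends B P []).ncard = 1 := by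
  have : Ends B P [] = {((1 : G) : G ⧸ B)} := by
    ext q
    constructor
    · rintro ⟨l, hl, rfl⟩
      cases l with
      | nil => rfl
      | cons x l => exact hl.elim
    · rintro rfl
      exact ⟨[], trivial, rfl⟩
  rw [this, Set.ncard_singleton]

theorem ncard_Ends_cons_ge [Finite G] (i : I) (f : List I)
    (hinj : ∀ x ∈ P i, x ∉ B → ∀ x' ∈ P i, x' ∉ B → ∀ l l', GalE B P f l → GalE B P f l' →
      (x * l.prod)⁻¹ * (x' * l'.prod) ∈ B → x⁻¹ * x' ∈ B) :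
    (PanS B (P i)).ncard * (Ends B P f).ncard ≤ (Ends B P (i :: f)).ncard := by
  classical
  rw [← Set.ncard_prod]
  -- representatives
  have hrep : ∀ q ∈ PanS B (P i), ∃ x ∈ P i, x ∉ B ∧ (x : G ⧸ B) = q := fun q hq => hq
  choose! ρ hρ1 hρ2 hρ3 using hrep
  refine Set.ncard_le_ncard_of_injOn (fun x : (G ⧸ B) × (G ⧸ B) => ρ x.1 • x.2) ?_ ?_ (Set.toFinite _)
  · rintro ⟨q, _⟩ ⟨hq, l, hl, rfl⟩
    exact ⟨ρ q :: l, ⟨⟨hρ1 q hq, hρ2 q hq⟩, hl⟩, by rw [List.prod_cons]; rfl⟩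
  · rintro ⟨q, _⟩ ⟨hq, l, hl, rfl⟩ ⟨q', _⟩ ⟨hq', l', hl', rfl⟩ he
    have h1 : ((ρ q * l.prod : G) : G ⧸ B) = ((ρ q' * l'.prod : G) : G ⧸ B) := he
    rw [QuotientGroup.eq] at h1
    have h2 := hinj _ (hρ1 q hq) (hρ2 q hq) _ (hρ1 q' hq') (hρ2 q' hq') l l' hl hl' h1
    have h3 : q = q' := by
      rw [← hρ3 q hq, ← hρ3 q' hq']
      exact QuotientGroup.eq.2 h2
    subst h3
    have h4 : (l.prod : G ⧸ B) = (l'.prod : G ⧸ B) := by
      rw [QuotientGroup.eq]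
      have e : (ρ q * l.prod)⁻¹ * (ρ q * l'.prod) = l.prod⁻¹ * l'.prod := by group
      rwa [e] at h1
    exact Prod.ext rfl h4

end count

/-! ### The polygon -/

/-- the stabiliser in `B` of the chamber `g B` -/
def BY (B : Subgroup G) (g : G) : Subgroup G where
  carrier := {b | b ∈ B ∧ g⁻¹ * b * g ∈ B}
  one_mem' := ⟨one_mem _, by
    have e : g⁻¹ * 1 * g = 1 := by group
    rw [e]; exact one_mem _⟩
  mul_mem' := by
    rintro x y ⟨hx, hx'⟩ ⟨hy, hy'⟩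
    refine ⟨mul_mem hx hy, ?_⟩
    have e : g⁻¹ * (x * y) * g = g⁻¹ * x * g * (g⁻¹ * y * g) := by group
    rw [e]; exact mul_mem hx' hy'
  inv_mem' := by
    rintro x ⟨hx, hx'⟩
    refine ⟨inv_mem hx, ?_⟩
    have e : g⁻¹ * x⁻¹ * g = (g⁻¹ * x * g)⁻¹ := by group
    rw [e]; exact inv_mem hx'

/-- two galleries of type `b a b a` and `a b a b` with the same end -/
structure Swap (B Pa Pb : Subgroup G) (n m m' x1 x2 x3 x4 : G) : Prop where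
  m'_mem : m' ∈ Pb
  m'_not : m' ∉ B
  m1 : x1 ∈ Pb ∧ x1 ∉ B
  m2 : x2 ∈ Pa ∧ x2 ∉ B
  m3 : x3 ∈ Pb ∧ x3 ∉ B
  m4 : x4 ∈ Pa ∧ x4 ∉ B
  eq : (n * m * n * m')⁻¹ * (x1 * x2 * x3 * x4) ∈ B

/-- point-line subgroups with a closed apartment (`n`, `m`) and a group `O` with enough conjugates of the opposite
point -/
structure QuadN (B Pa Pb R V W O : Subgroup G) (n m m' x1 x2 x3 x4 : G) : Prop extends Quad B Pa Pb R V W,
    Swap B Pa Pb n m m' x1 x2 x3 x4 where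
  n_mem : n ∈ Pa
  n_not : n ∉ B
  m_mem : m ∈ Pb
  m_not : m ∉ B
  /-- `B` is transitive on the panel `Pb / B` -/
  tb : ∀ x ∈ Pb, x ∉ B → ∃ b ∈ B, (b * m)⁻¹ * x ∈ B
  O_le : O ≤ B
  O_triv : ∀ o ∈ O, ∀ x ∈ Pb, x⁻¹ * o * x ∈ B
  cnt : (PanS B Pa).ncard * ((PanS B Pb).ncard * (PanS B Pa).ncard) ≤
    (MulAut.conj (n * m * n) • Pb).relIndex O

namespace QuadN

variable {B Pa Pb R V W O : Subgroup G} {n m m' y1 y2 y3 y4 : G} (h : QuadN B Pa Pb R V W O n m m' y1 y2 y3 y4)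
include h

theorem not_B {b x : G} (hb : b ∈ B) (hx : x ∉ B) : b * x ∉ B := fun h0 => hx ((mul_mem_cancel_left hb).1 h0)

/-- `O` is transitive on the points opposite to `R`. -/
theorem t₁ [Finite G] {x1 x2 x3 : G} (h1 : x1 ∈ Pa) (h1B : x1 ∉ B) (h2 : x2 ∈ Pb) (h2B : x2 ∉ B) (h3 : x3 ∈ Pa)
    (h3B : x3 ∉ B) : ∃ o ∈ O, (o * (n * m * n))⁻¹ * (x1 * x2 * x3) ∈ Pb := by
  classical
  let P : Bool → Subgroup G := fun i => if i then Pa else Pb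
  have hle : ∀ i, B ≤ P i := by
    intro i
    cases i
    · exact h.leB
    · exact h.leA
  -- the points
  let Γ : Set (G ⧸ Pb) := {q | ∃ x1 x2 x3, (x1 ∈ Pa ∧ x1 ∉ B) ∧ (x2 ∈ Pb ∧ x2 ∉ B) ∧ (x3 ∈ Pa ∧ x3 ∉ B) ∧
    ((x1 * x2 * x3 : G) : G ⧸ Pb) = q}
  have hΓ : Γ.ncard ≤ (PanS B Pa).ncard * ((PanS B Pb).ncard * (PanS B Pa).ncard) := by
    have h4 : Γ ⊆ (Subgroup.quotientMapOfLE h.leB) '' (Ends B P [true, false, true]) := by
      rintro _ ⟨x1, x2, x3, k1, k2, k3, rfl⟩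
      refine ⟨((x1 * x2 * x3 : G) : G ⧸ B), ⟨[x1, x2, x3], ⟨k1, k2, k3, trivial⟩, ?_⟩, rfl⟩
      simp [mul_assoc]
    calc Γ.ncard ≤ _ := Set.ncard_le_ncard h4 (Set.toFinite _)
      _ ≤ (Ends B P [true, false, true]).ncard := Set.ncard_image_le (Set.toFinite _)
      _ ≤ _ := ncard_Ends_cons hle _ _
      _ ≤ (PanS B Pa).ncard * ((PanS B Pb).ncard * (Ends B P [true]).ncard) :=
          Nat.mul_le_mul_left _ (ncard_Ends_cons hle _ _)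
      _ ≤ (PanS B Pa).ncard * ((PanS B Pb).ncard * (PanS B Pa).ncard) := by
          refine Nat.mul_le_mul_left _ (Nat.mul_le_mul_left _ ?_)
          refine (ncard_Ends_cons hle _ _).trans ?_
          rw [ncard_Ends_nil, mul_one]
          exact le_rfl
  have hsub : MulAction.orbit O ((n * m * n : G) : G ⧸ Pb) ⊆ Γ := by
    rintro _ ⟨o, rfl⟩
    refine ⟨o * n, m, n, ⟨mul_mem (h.leA (h.O_le o.2)) h.n_mem, h.not_B (h.O_le o.2) h.n_not⟩,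
      ⟨h.m_mem, h.m_not⟩, ⟨h.n_mem, h.n_not⟩, ?_⟩
    show _ = (((o : G) * (n * m * n) : G) : G ⧸ Pb)
    simp only [mul_assoc]
  have hcard : (MulAction.orbit O ((n * m * n : G) : G ⧸ Pb)).ncard = (MulAut.conj (n * m * n) • Pb).relIndex O := by
    rw [← MulAction.index_stabilizer, Subgroup.relIndex]
    congr 1
    ext o
    rw [MulAction.mem_stabilizer_iff, mem_subgroupOf, mem_pointwise_smul_iff_inv_smul_mem]
    show ((((o : G) * (n * m * n) : G) : G ⧸ Pb) = ((n * m * n : G) : G ⧸ Pb)) ↔ _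
    rw [eq_comm, QuotientGroup.eq]
    have e : (MulAut.conj (n * m * n))⁻¹ • (o : G) = (n * m * n)⁻¹ * (o * (n * m * n)) := by
      rw [MulAut.smul_def, MulAut.conj_inv_apply, mul_assoc]
    rw [e]
  have heq : MulAction.orbit O ((n * m * n : G) : G ⧸ Pb) = Γ :=
    Set.eq_of_subset_of_ncard_le hsub (by rw [hcard]; exact hΓ.trans h.cnt) (Set.toFinite _)
  have hx : ((x1 * x2 * x3 : G) : G ⧸ Pb) ∈ Γ := ⟨x1, x2, x3, ⟨h1, h1B⟩, ⟨h2, h2B⟩, ⟨h3, h3B⟩, rfl⟩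
  rw [← heq] at hx
  obtain ⟨o, ho⟩ := hx
  exact ⟨o, o.2, QuotientGroup.eq.1 ho⟩

theorem t₂ [Finite G] {x : G} (hx : x ∈ Pb) (hxB : x ∉ B) :
    ∃ b ∈ B, (n * m * n)⁻¹ * b * (n * m * n) ∈ Pb ∧ (b * m)⁻¹ * x ∈ B := by
  obtain ⟨b, hb, h1⟩ := h.tb x hx hxB
  obtain ⟨o, ho, h2⟩ := h.t₁ (x1 := b * n) (mul_mem (h.leA hb) h.n_mem) (h.not_B hb h.n_not) h.m_mem h.m_not
    h.n_mem h.n_not
  refine ⟨o⁻¹ * b, mul_mem (inv_mem (h.O_le ho)) hb, ?_, ?_⟩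
  · have e : (n * m * n)⁻¹ * (o⁻¹ * b) * (n * m * n) = (o * (n * m * n))⁻¹ * (b * n * m * n) := by group
    rw [e]; exact h2
  · have h3 := mul_mem h1 (h.O_triv o ho x hx)
    have e : (o⁻¹ * b * m)⁻¹ * x = (b * m)⁻¹ * x * (x⁻¹ * o * x) := by group
    rw [e]; exact h3

theorem fix₁ {b : G} (hb : b ∈ B) (hp : (n * m * n)⁻¹ * b * (n * m * n) ∈ Pb) :
    (n * m * n)⁻¹ * b * (n * m * n) ∈ B := by
  have := (h.three (x1 := n) (x2 := m) (x3 := n) (x1' := b * n) (x2' := m) (x3' := n) h.n_mem h.m_mem h.m_not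
    h.n_mem h.n_not (mul_mem (h.leA hb) h.n_mem) h.m_mem h.n_mem (by
      have e : (n * m * n)⁻¹ * (b * n * m * n) = (n * m * n)⁻¹ * b * (n * m * n) := by group
      rwa [e])).2.2
  have e : (n * m * n)⁻¹ * (b * n * m * n) = (n * m * n)⁻¹ * b * (n * m * n) := by group
  rwa [e] at this

/-- the stabiliser of the opposite chamber fixes the first chamber of the other gallery -/
theorem fix₂ {b : G} (hb : b ∈ B) (hp : (n * m * n * m')⁻¹ * b * (n * m * n * m') ∈ B) : y1⁻¹ * b * y1 ∈ B := by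
  have h1 : (y1 * y2 * y3 * y4)⁻¹ * (b * (y1 * y2 * y3 * y4)) ∈ B := by
    have h2 := mul_mem (mul_mem (inv_mem h.eq) hp) h.eq
    have e : ((n * m * n * m')⁻¹ * (y1 * y2 * y3 * y4))⁻¹ * ((n * m * n * m')⁻¹ * b * (n * m * n * m')) *
        ((n * m * n * m')⁻¹ * (y1 * y2 * y3 * y4)) = (y1 * y2 * y3 * y4)⁻¹ * (b * (y1 * y2 * y3 * y4)) := by group
    rwa [e] at h2
  have h3 : (y1 * y2 * y3)⁻¹ * (b * y1 * y2 * y3) ∈ Pa := by
    have h4 := mul_mem (mul_mem h.m4.1 (h.leA h1)) (inv_mem h.m4.1)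
    have e : y4 * ((y1 * y2 * y3 * y4)⁻¹ * (b * (y1 * y2 * y3 * y4))) * y4⁻¹ =
        (y1 * y2 * y3)⁻¹ * (b * y1 * y2 * y3) := by group
    rwa [e] at h4
  have := (h.three' (x1 := y1) (x2 := y2) (x3 := y3) (x1' := b * y1) (x2' := y2) (x3' := y3) h.m1.1 h.m2.1 h.m2.2
    h.m3.1 h.m3.2 (mul_mem (h.leB hb) h.m1.1) h.m2.1 h.m3.1 h3).1
  rwa [← mul_assoc] at this

theorem t₃ [Finite G] {x : G} (hx : x ∈ Pb) (hxB : x ∉ B) :
    ∃ b ∈ B, (b * (n * m * n * m'))⁻¹ * (n * m * n * x) ∈ B := by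
  classical
  let g := n * m * n
  -- the orbit of `y1`
  have h1 : PanS B Pb ⊆ MulAction.orbit (BY B g) ((y1 : G) : G ⧸ B) := by
    rintro _ ⟨x, hx, hxB, rfl⟩
    obtain ⟨b, hb, hp, h2⟩ := h.t₂ hx hxB
    obtain ⟨b', hb', hp', h2'⟩ := h.t₂ h.m1.1 h.m1.2
    refine ⟨⟨b, ⟨hb, h.fix₁ hb hp⟩⟩ * ⟨b', ⟨hb', h.fix₁ hb' hp'⟩⟩⁻¹, QuotientGroup.eq.2 ?_⟩
    show (b * b'⁻¹ * y1)⁻¹ * x ∈ B
    have h3 := mul_mem (inv_mem h2') h2
    have e : ((b' * m)⁻¹ * y1)⁻¹ * ((b * m)⁻¹ * x) = (b * b'⁻¹ * y1)⁻¹ * x := by group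
    rwa [e] at h3
  have h2 : MulAction.stabilizer (BY B g) ((g * m' : G) : G ⧸ B) ≤
      MulAction.stabilizer (BY B g) ((y1 : G) : G ⧸ B) := by
    intro b hb
    rw [MulAction.mem_stabilizer_iff] at hb ⊢
    have hb' : ((g * m' : G) : G ⧸ B) = (((b : G) * (g * m') : G) : G ⧸ B) := hb.symm
    rw [QuotientGroup.eq] at hb'
    have h3 : y1⁻¹ * (b : G) * y1 ∈ B := h.fix₂ b.2.1 (by
      rw [mul_assoc]; exact hb')
    refine (QuotientGroup.eq.2 ?_ : ((y1 : G) : G ⧸ B) = (((b : G) * y1 : G) : G ⧸ B)).symm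
    rwa [← mul_assoc]
  have h3 : (PanS B Pb).ncard ≤ (MulAction.orbit (BY B g) ((g * m' : G) : G ⧸ B)).ncard := by
    refine (Set.ncard_le_ncard h1 (Set.toFinite _)).trans ?_
    rw [← MulAction.index_stabilizer, ← MulAction.index_stabilizer]
    exact Nat.le_of_dvd (Nat.pos_of_ne_zero index_ne_zero_of_finite) (index_dvd_of_le h2)
  have h4 : MulAction.orbit (BY B g) ((g * m' : G) : G ⧸ B) ⊆ (fun q => g • q) '' (PanS B Pb) := by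
    rintro _ ⟨b, rfl⟩
    refine ⟨((g⁻¹ * b * g * m' : G) : G ⧸ B), ⟨g⁻¹ * b * g * m', mul_mem (h.leB b.2.2) h.m'_mem,
      h.not_B b.2.2 h.m'_not, rfl⟩, ?_⟩
    show ((g * (g⁻¹ * b * g * m') : G) : G ⧸ B) = (((b : G) * (g * m') : G) : G ⧸ B)
    congr 1
    group
  have h5 : MulAction.orbit (BY B g) ((g * m' : G) : G ⧸ B) = (fun q => g • q) '' (PanS B Pb) :=
    Set.eq_of_subset_of_ncard_le h4 ((Set.ncard_image_le (Set.toFinite _)).trans h3) (Set.toFinite _)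
  have h6 : ((g * x : G) : G ⧸ B) ∈ (fun q : G ⧸ B => g • q) '' (PanS B Pb) := ⟨(x : G ⧸ B), ⟨x, hx, hxB, rfl⟩, rfl⟩
  rw [← h5] at h6
  obtain ⟨b, hb⟩ := h6
  exact ⟨b, b.2.1, QuotientGroup.eq.1 hb⟩

/-- `B` is transitive on the ends of the galleries of type `a b a b`. -/
theorem t₄ [Finite G] {x1 x2 x3 x4 : G} (h1 : x1 ∈ Pa) (h1B : x1 ∉ B) (h2 : x2 ∈ Pb) (h2B : x2 ∉ B) (h3 : x3 ∈ Pa)
    (h3B : x3 ∉ B) (h4 : x4 ∈ Pb) (h4B : x4 ∉ B) :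
    ∃ y ∈ B, (y * (n * m * n * m'))⁻¹ * (x1 * x2 * x3 * x4) ∈ B := by
  obtain ⟨o, ho, h5⟩ := h.t₁ h1 h1B h2 h2B h3 h3B
  have h6 := (h.three (x1 := o * n) (x2 := m) (x3 := n) (mul_mem (h.leA (h.O_le ho)) h.n_mem) h.m_mem h.m_not
    h.n_mem h.n_not h1 h2 h3 (by
      have e : (o * n * m * n)⁻¹ * (x1 * x2 * x3) = (o * (n * m * n))⁻¹ * (x1 * x2 * x3) := by group
      rwa [e])).2.2
  set c := (o * n * m * n)⁻¹ * (x1 * x2 * x3) with hc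
  obtain ⟨b, hb, h7⟩ := h.t₃ (mul_mem (h.leB h6) h4) (h.not_B h6 h4B)
  refine ⟨o * b, mul_mem (h.O_le ho) hb, ?_⟩
  have e : (o * b * (n * m * n * m'))⁻¹ * (x1 * x2 * x3 * x4) =
      (b * (n * m * n * m'))⁻¹ * (n * m * n * (c * x4)) := by rw [hc]; group
  rw [e]; exact h7

/-- `B` is transitive on the ends of the galleries of type `b a b a`. -/
theorem t₅ [Finite G] {x1 x2 x3 x4 : G} (h1 : x1 ∈ Pb) (h1B : x1 ∉ B) (h2 : x2 ∈ Pa) (h2B : x2 ∉ B) (h3 : x3 ∈ Pb)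
    (h3B : x3 ∉ B) (h4 : x4 ∈ Pa) (h4B : x4 ∉ B) :
    ∃ y ∈ B, (y * (y1 * y2 * y3 * y4))⁻¹ * (x1 * x2 * x3 * x4) ∈ B := by
  classical
  let P : Bool → Subgroup G := fun i => if i then Pa else Pb
  have hle : ∀ i, B ≤ P i := by
    intro i
    cases i
    · exact h.leB
    · exact h.leA
  -- lower bound for the ends of type `a b a b`
  have e1 : (PanS B Pb).ncard ≤ (Ends B P [false]).ncard := by
    have := ncard_Ends_cons_ge (B := B) (P := P) false [] (fun x _ _ x' _ _ l l' hl hl' h0 => by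
      cases l with
      | nil =>
        cases l' with
        | nil => simpa using h0
        | cons y l' => exact hl'.elim
      | cons y l => exact hl.elim)
    rwa [ncard_Ends_nil, mul_one] at this
  have e2 : (PanS B Pa).ncard * (Ends B P [false]).ncard ≤ (Ends B P [true, false]).ncard := by
    refine ncard_Ends_cons_ge (B := B) (P := P) true [false] fun x hx _ x' hx' _ l l' hl hl' h0 => ?_
    match l, hl, l', hl' with
    | [y], hl, [y'], hl' =>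
      have hy : y ∈ Pb := hl.1.1
      have hy' : y' ∈ Pb := hl'.1.1
      refine h.inf (mem_inf.2 ⟨mul_mem (inv_mem hx) hx', ?_⟩)
      have := mul_mem (mul_mem hy (h.leB h0)) (inv_mem hy')
      have e : y * ((x * [y].prod)⁻¹ * (x' * [y'].prod)) * y'⁻¹ = x⁻¹ * x' := by
        simp only [List.prod_cons, List.prod_nil]; group
      rwa [e] at this
    | [], hl, _, _ => exact hl.elim
    | _ :: _ :: _, hl, _, _ => exact hl.2.elim
    | [_], _, [], hl' => exact hl'.elim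
    | [_], _, _ :: _ :: _, hl' => exact hl'.2.elim
  have e3 : (PanS B Pb).ncard * (Ends B P [true, false]).ncard ≤ (Ends B P [false, true, false]).ncard := by
    refine ncard_Ends_cons_ge (B := B) (P := P) false [true, false] fun x hx _ x' hx' _ l l' hl hl' h0 => ?_
    match l, hl, l', hl' with
    | [y, z], hl, [y', z'], hl' =>
      have h0' : (x * y * z)⁻¹ * (x' * y' * z') ∈ B := by simpa [mul_assoc] using h0
      exact (h.three' hx hl.1.1 hl.1.2 hl.2.1.1 hl.2.1.2 hx' hl'.1.1 hl'.2.1.1 (h.leA h0')).1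
    | [], hl, _, _ => exact hl.elim
    | [_], hl, _, _ => exact hl.2.elim
    | _ :: _ :: _ :: _, hl, _, _ => exact hl.2.2.elim
    | [_, _], _, [], hl' => exact hl'.elim
    | [_, _], _, [_], hl' => exact hl'.2.elim
    | [_, _], _, _ :: _ :: _ :: _, hl' => exact hl'.2.2.elim
  have e4 : (PanS B Pa).ncard * (Ends B P [false, true, false]).ncard ≤
      (Ends B P [true, false, true, false]).ncard := by
    refine ncard_Ends_cons_ge (B := B) (P := P) true [false, true, false] fun x hx _ x' hx' _ l l' hl hl' h0 => ?_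
    match l, hl, l', hl' with
    | [y, z, w], hl, [y', z', w'], hl' =>
      have hw : w ∈ Pb := hl.2.2.1.1
      have hw' : w' ∈ Pb := hl'.2.2.1.1
      have h0' : (x * y * z)⁻¹ * (x' * y' * z') ∈ Pb := by
        have := mul_mem (mul_mem hw (h.leB h0)) (inv_mem hw')
        have e : w * ((x * [y, z, w].prod)⁻¹ * (x' * [y', z', w'].prod)) * w'⁻¹ =
            (x * y * z)⁻¹ * (x' * y' * z') := by
          simp only [List.prod_cons, List.prod_nil]; group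
        rwa [e] at this
      exact (h.three hx hl.1.1 hl.1.2 hl.2.1.1 hl.2.1.2 hx' hl'.1.1 hl'.2.1.1 h0').1
    | [], hl, _, _ => exact hl.elim
    | [_], hl, _, _ => exact hl.2.elim
    | [_, _], hl, _, _ => exact hl.2.2.elim
    | _ :: _ :: _ :: _ :: _, hl, _, _ => exact hl.2.2.2.elim
    | [_, _, _], _, [], hl' => exact hl'.elim
    | [_, _, _], _, [_], hl' => exact hl'.2.elim
    | [_, _, _], _, [_, _], hl' => exact hl'.2.2.elim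
    | [_, _, _], _, _ :: _ :: _ :: _ :: _, hl' => exact hl'.2.2.2.elim
  -- upper bound for the ends of type `b a b a`
  have u1 : (Ends B P [false, true, false, true]).ncard ≤
      (PanS B Pb).ncard * ((PanS B Pa).ncard * ((PanS B Pb).ncard * (PanS B Pa).ncard)) := by
    refine (ncard_Ends_cons hle _ _).trans (Nat.mul_le_mul_left _ ?_)
    refine (ncard_Ends_cons hle _ _).trans (Nat.mul_le_mul_left _ ?_)
    refine (ncard_Ends_cons hle _ _).trans (Nat.mul_le_mul_left _ ?_)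
    refine (ncard_Ends_cons hle _ _).trans ?_
    rw [ncard_Ends_nil, mul_one]
    exact le_rfl
  have l1 : (PanS B Pb).ncard * ((PanS B Pa).ncard * ((PanS B Pb).ncard * (PanS B Pa).ncard)) ≤
      (Ends B P [true, false, true, false]).ncard := by
    calc (PanS B Pb).ncard * ((PanS B Pa).ncard * ((PanS B Pb).ncard * (PanS B Pa).ncard))
        = (PanS B Pa).ncard * ((PanS B Pb).ncard * ((PanS B Pa).ncard * (PanS B Pb).ncard)) := by ring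
      _ ≤ (PanS B Pa).ncard * ((PanS B Pb).ncard * ((PanS B Pa).ncard * (Ends B P [false]).ncard)) :=
          Nat.mul_le_mul_left _ (Nat.mul_le_mul_left _ (Nat.mul_le_mul_left _ e1))
      _ ≤ (PanS B Pa).ncard * ((PanS B Pb).ncard * (Ends B P [true, false]).ncard) :=
          Nat.mul_le_mul_left _ (Nat.mul_le_mul_left _ e2)
      _ ≤ (PanS B Pa).ncard * (Ends B P [false, true, false]).ncard := Nat.mul_le_mul_left _ e3
      _ ≤ _ := e4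
  -- the orbit of the opposite chamber
  let w : G ⧸ B := ((n * m * n * m' : G) : G ⧸ B)
  have hw : w = ((y1 * y2 * y3 * y4 : G) : G ⧸ B) := QuotientGroup.eq.2 h.eq
  have hsup : Ends B P [true, false, true, false] ⊆ MulAction.orbit B w := by
    rintro _ ⟨l, hl, rfl⟩
    obtain ⟨x1, x2, x3, x4, rfl, k1, k2, k3, k4⟩ := galE_four (a := true) (b := false) hl
    obtain ⟨y, hy, h5⟩ := h.t₄ k1.1 k1.2 k2.1 k2.2 k3.1 k3.2 k4.1 k4.2
    refine ⟨⟨y, hy⟩, ?_⟩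
    have e : [x1, x2, x3, x4].prod = x1 * x2 * x3 * x4 := by simp [mul_assoc]
    rw [e]
    exact QuotientGroup.eq.2 h5
  have hsub : MulAction.orbit B w ⊆ Ends B P [false, true, false, true] := by
    rintro _ ⟨y, rfl⟩
    refine Ends_smul (P := P) hle y.2 (q := w) ?_
    rw [hw]
    refine ⟨[y1, y2, y3, y4], ⟨h.m1, h.m2, h.m3, h.m4, trivial⟩, ?_⟩
    simp [mul_assoc]
  have heq : MulAction.orbit B w = Ends B P [false, true, false, true] :=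
    Set.eq_of_subset_of_ncard_le hsub
      ((u1.trans l1).trans (Set.ncard_le_ncard hsup (Set.toFinite _))) (Set.toFinite _)
  have hx : ((x1 * x2 * x3 * x4 : G) : G ⧸ B) ∈ Ends B P [false, true, false, true] :=
    ⟨[x1, x2, x3, x4], ⟨⟨h1, h1B⟩, ⟨h2, h2B⟩, ⟨h3, h3B⟩, ⟨h4, h4B⟩, trivial⟩, by simp [mul_assoc]⟩
  rw [← heq, hw] at hx
  obtain ⟨y, hy⟩ := hx
  exact ⟨y, y.2, QuotientGroup.eq.1 hy⟩

end QuadN

section polygon

variable {I : Type*} {B : Subgroup G} {P : I → Subgroup G} {a b : I} {R V W O : Subgroup G}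
  {n m m' z1 z2 z3 z4 : G}

theorem same_of_end {x1 x2 x3 x4 x1' x2' x3' x4' y : G}
    (h : Same B 1 1 [y * x1, x2, x3, x4] [x1', x2', x3', x4']) (hy : y ∈ B) :
    Same B y 1 [x1, x2, x3, x4] [x1', x2', x3', x4'] := by
  refine ⟨by simpa using hy, ?_⟩
  have h5 := h.2
  rw [one_mul] at h5
  exact h5

/-- **The residue is a generalised quadrangle.** -/
theorem QuadN.polygon [Finite G] (h : QuadN B (P a) (P b) R V W O n m m' z1 z2 z3 z4) : Polygon B P a b 4 where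
  uniq l l' hl hl' he := by
    obtain ⟨x1, x2, x3, x4, rfl, k1, k2, k3, k4⟩ := galE_four hl
    obtain ⟨y1, y2, y3, y4, rfl, j1, j2, j3, j4⟩ := galE_four hl'
    have h5 : (x1 * x2 * x3)⁻¹ * (y1 * y2 * y3) ∈ P b := by
      have := mul_mem (mul_mem k4.1 (h.leB he)) (inv_mem j4.1)
      have e : x4 * ([x1, x2, x3, x4].prod⁻¹ * [y1, y2, y3, y4].prod) * y4⁻¹ =
          (x1 * x2 * x3)⁻¹ * (y1 * y2 * y3) := by
        simp only [List.prod_cons, List.prod_nil]; group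
      rwa [e] at this
    obtain ⟨r1, r2, r3⟩ := h.three k1.1 k2.1 k2.2 k3.1 k3.2 j1.1 j2.1 j3.1 h5
    exact same_four r1 r2 r3 he
  uniq' l l' hl hl' he := by
    obtain ⟨x1, x2, x3, x4, rfl, k1, k2, k3, k4⟩ := galE_four hl
    obtain ⟨y1, y2, y3, y4, rfl, j1, j2, j3, j4⟩ := galE_four hl'
    have h5 : (x1 * x2 * x3)⁻¹ * (y1 * y2 * y3) ∈ P a := by
      have := mul_mem (mul_mem k4.1 (h.leA he)) (inv_mem j4.1)
      have e : x4 * ([x1, x2, x3, x4].prod⁻¹ * [y1, y2, y3, y4].prod) * y4⁻¹ =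
          (x1 * x2 * x3)⁻¹ * (y1 * y2 * y3) := by
        simp only [List.prod_cons, List.prod_nil]; group
      rwa [e] at this
    obtain ⟨r1, r2, r3⟩ := h.three' k1.1 k2.1 k2.2 k3.1 k3.2 j1.1 j2.1 j3.1 h5
    exact same_four r1 r2 r3 he
  swap := by
    refine ⟨[n, m, n, m'], [z1, z2, z3, z4], galE_four_iff.2 ⟨⟨h.n_mem, h.n_not⟩, ⟨h.m_mem, h.m_not⟩,
      ⟨h.n_mem, h.n_not⟩, ⟨h.m'_mem, h.m'_not⟩⟩, galE_four_iff.2 ⟨h.m1, h.m2, h.m3, h.m4⟩, ?_⟩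
    have := h.eq
    simpa [mul_assoc] using this
  trans l l' hl hl' := by
    obtain ⟨x1, x2, x3, x4, rfl, k1, k2, k3, k4⟩ := galE_four hl
    obtain ⟨y1, y2, y3, y4, rfl, j1, j2, j3, j4⟩ := galE_four hl'
    obtain ⟨y, hy, h5⟩ := h.t₄ k1.1 k1.2 k2.1 k2.2 k3.1 k3.2 k4.1 k4.2
    obtain ⟨z, hz, h6⟩ := h.t₄ j1.1 j1.2 j2.1 j2.2 j3.1 j3.2 j4.1 j4.2
    have hzy : z * y⁻¹ ∈ B := mul_mem hz (inv_mem hy)
    refine ⟨z * y⁻¹, hzy, same_of_end ?_ hzy⟩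
    have h7 : (z * y⁻¹ * x1 * x2 * x3)⁻¹ * (y1 * y2 * y3) ∈ P b := by
      have h8 := mul_mem (mul_mem k4.1 (h.leB (mul_mem (inv_mem h5) h6))) (inv_mem j4.1)
      have e : x4 * (((y * (n * m * n * m'))⁻¹ * (x1 * x2 * x3 * x4))⁻¹ *
          ((z * (n * m * n * m'))⁻¹ * (y1 * y2 * y3 * y4))) * y4⁻¹ =
          (z * y⁻¹ * x1 * x2 * x3)⁻¹ * (y1 * y2 * y3) := by group
      rwa [e] at h8
    obtain ⟨r1, r2, r3⟩ := h.three (mul_mem (h.leA hzy) k1.1) k2.1 k2.2 k3.1 k3.2 j1.1 j2.1 j3.1 h7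
    refine same_four r1 r2 r3 ?_
    have h8 := mul_mem (inv_mem h5) h6
    have e : ((y * (n * m * n * m'))⁻¹ * (x1 * x2 * x3 * x4))⁻¹ *
          ((z * (n * m * n * m'))⁻¹ * (y1 * y2 * y3 * y4)) =
          [z * y⁻¹ * x1, x2, x3, x4].prod⁻¹ * [y1, y2, y3, y4].prod := by
      simp only [List.prod_cons, List.prod_nil]; group
    rwa [e] at h8
  trans' l l' hl hl' := by
    obtain ⟨x1, x2, x3, x4, rfl, k1, k2, k3, k4⟩ := galE_four hl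
    obtain ⟨y1, y2, y3, y4, rfl, j1, j2, j3, j4⟩ := galE_four hl'
    obtain ⟨y, hy, h5⟩ := h.t₅ k1.1 k1.2 k2.1 k2.2 k3.1 k3.2 k4.1 k4.2
    obtain ⟨z, hz, h6⟩ := h.t₅ j1.1 j1.2 j2.1 j2.2 j3.1 j3.2 j4.1 j4.2
    have hzy : z * y⁻¹ ∈ B := mul_mem hz (inv_mem hy)
    refine ⟨z * y⁻¹, hzy, same_of_end ?_ hzy⟩
    have h7 : (z * y⁻¹ * x1 * x2 * x3)⁻¹ * (y1 * y2 * y3) ∈ P a := by
      have h8 := mul_mem (mul_mem k4.1 (h.leA (mul_mem (inv_mem h5) h6))) (inv_mem j4.1)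
      have e : x4 * (((y * (z1 * z2 * z3 * z4))⁻¹ * (x1 * x2 * x3 * x4))⁻¹ *
          ((z * (z1 * z2 * z3 * z4))⁻¹ * (y1 * y2 * y3 * y4))) * y4⁻¹ =
          (z * y⁻¹ * x1 * x2 * x3)⁻¹ * (y1 * y2 * y3) := by group
      rwa [e] at h8
    obtain ⟨r1, r2, r3⟩ := h.three' (mul_mem (h.leB hzy) k1.1) k2.1 k2.2 k3.1 k3.2 j1.1 j2.1 j3.1 h7
    refine same_four r1 r2 r3 ?_
    have h8 := mul_mem (inv_mem h5) h6
    have e : ((y * (z1 * z2 * z3 * z4))⁻¹ * (x1 * x2 * x3 * x4))⁻¹ *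
          ((z * (z1 * z2 * z3 * z4))⁻¹ * (y1 * y2 * y3 * y4)) =
          [z * y⁻¹ * x1, x2, x3, x4].prod⁻¹ * [y1, y2, y3, y4].prod := by
      simp only [List.prod_cons, List.prod_nil]; group
    rwa [e] at h8

end polygon

end Cfsg.Agent.ParSys
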